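import Cfsg.Agent.H85.Ore.Phi_mg_m3
import Cfsg.Agent.H130.War.RankLe
import Cfsg.Agent.H126.PwO.Fld
import Cfsg.Agent.H701.F43.Cent
import Cfsg.Agent.Nodes.CardSup_m3
import Cfsg.Agent.ChevFast.F4
import Cfsg.Agent.H744.FC.Par
import Cfsg.Agent.Lib.FinFast
import Cfsg.Agent.H126.PwO.FiveThree_m3
import Cfsg.Agent.H874.War.TwD4_m3
import Cfsg.Agent.H946.ExcNum_m3
import Cfsg.Agent.H118.O8S.Mac
import Cfsg.Agent.H928.Ore.Frame
import Cfsg.Agent.ClassicalGeometry.PSL2Basic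
import Mathlib
import Cfsg.Agent.KFacts.RgdDiag
import Cfsg.Agent.H68.CoInst_m3
import Cfsg.Agent.H137.G24.Fin_mg
import Cfsg.Agent.H140.TC.Fam_m3
import Cfsg.Agent.H494.TC.Base
import Mathlib.LinearAlgebra.Matrix.Charpoly.Basic
import Mathlib.LinearAlgebra.SymplecticGroup
import Mathlib.FieldTheory.Finite.Basic
import Mathlib.Tactic
import Mathlib.LinearAlgebra.BilinearForm.Properties
import Mathlib.LinearAlgebra.FiniteDimensional.Lemmas
import Cfsg.Agent.H962.TC.Num_m3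
import Cfsg.Agent.H374.SpChar
import Cfsg.Agent.FastGrp
import Cfsg.Agent.Prune
set_option linter.all false

section
prune_inst 0x7f00000000000000000000000000000000000000000000000000000000000000000000000000000000000000000000000000000000000000000000000000000000000000000000000000000000000000003ffcff7ffcffffffffffffffffffaeffbdefffffff

section
prune_inst 0xfca9f9abb839dfdf7f7e77a698cdfc39911fffa4dff94b3fe021ef0b9f030a09c5f38d09e000fe0ec2c01410a87843f97eeeffe26bd87ffffd1df41ffbee4fe5f7b508119488340f340ff603f0778e7f000300800000000000000000000000000210000000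

-- part: H538/TC/SLThree
section
prune_inst 0x314065047c6200080000859473001c66ae00008200080c00a4e10b4607c9044080420920bb90141150a804044830006811100080024000000e200c00011a018000800400b04802088a0096000080000000000000300000000000000000010004000000000
set_option linter.all false
open scoped Cfsg.Agent.FastGrp

-- part: H538/TC/SLThreeA
section
/-!
Products of two elements of one class of `SL₃(F)` (S2464): explicit matrices.

* `SolM s r t t'` : the parameters of a pair of matrices with characteristic polynomial `T³ - s T² + r T - 1`, whose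
  product is cyclic with characteristic polynomial `T³ - t T² + t' T - 1`;
* `dich` : a matrix `!![0,a,g;1,b,h;0,c,k]` has a cyclic vector, or is a scalar plus a matrix of rank one.
-/

set_option autoImplicit false

namespace Cfsg.Agent.H538.TC

open Matrix Polynomial
open Cfsg.Agent.H126.M3 (cu charpoly_three)

variable {F : Type*} [Field F]

/-- the companion matrix of `T³ - t T² + t' T - 1` -/
def Co (t t' : F) : Matrix (Fin 3) (Fin 3) F := !![0, 0, 1; 1, 0, -t'; 0, 1, t]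

/-- `M` is cyclic, with characteristic polynomial `T³ - t T² + t' T - 1` -/
def CycM (t t' : F) (M : Matrix (Fin 3) (Fin 3) F) : Prop :=
  ∃ R : Matrix (Fin 3) (Fin 3) F, R.det ≠ 0 ∧ M * R = R * Co t t'

/-- the parameters -/
def SolM (s r t t' : F) : Prop :=
  ∃ u z v y : F, u ≠ 0 ∧ z ≠ 0 ∧
    z * t = (z - u) * y + (u * z ^ 2 - 1) * v - u * z * r - r ∧
    z * t' = -(u * y * (r * z + y)) - u * z * v * (r + v) - (r + v) * y - u * z ^ 2 * s - u * z * s

/-- `l` is a product of two matrices with characteristic polynomial `T³ - s T² + r T - 1` -/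
def FF (s r : F) (l : Matrix (Fin 3) (Fin 3) F) : Prop :=
  ∃ X Y : Matrix (Fin 3) (Fin 3) F, X.det = 1 ∧ Y.det = 1 ∧ l = X * Y ∧ X.charpoly = cu s r ∧ Y.charpoly = cu s r

theorem FF.conj {s r : F} {l l' R : Matrix (Fin 3) (Fin 3) F} (h : FF s r l') (hR : R.det ≠ 0) (hl : l * R = R * l') :
    FF s r l := by
  obtain ⟨X, Y, hX, hY, rfl, hXc, hYc⟩ := h
  have hu : IsUnit R.det := isUnit_iff_ne_zero.2 hR
  have h1 : R * R⁻¹ = 1 := Matrix.mul_nonsing_inv _ hu
  have h2 : R⁻¹ * R = 1 := Matrix.nonsing_inv_mul _ hu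
  let U : (Matrix (Fin 3) (Fin 3) F)ˣ := ⟨R, R⁻¹, h1, h2⟩
  have hc : ∀ M : Matrix (Fin 3) (Fin 3) F, (R * M * R⁻¹).charpoly = M.charpoly := fun M =>
    Matrix.charpoly_units_conj U M
  have hd : ∀ M : Matrix (Fin 3) (Fin 3) F, (R * M * R⁻¹).det = M.det := fun M => Matrix.det_units_conj U M
  refine ⟨R * X * R⁻¹, R * Y * R⁻¹, by rw [hd, hX], by rw [hd, hY], ?_, by rw [hc]; exact hXc, by rw [hc]; exact hYc⟩
  calc l = l * R * R⁻¹ := by rw [mul_assoc, h1, mul_one]
    _ = R * X * (R⁻¹ * R) * Y * R⁻¹ := by rw [hl, h2]; simp only [mul_assoc, one_mul]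
    _ = _ := by simp only [mul_assoc]

theorem charpoly_of {s r : F} {M : Matrix (Fin 3) (Fin 3) F} (h0 : M.det = 1) (h1 : M 0 0 + M 1 1 + M 2 2 = s)
    (h2 : M 0 0 * M 1 1 - M 0 1 * M 1 0 + (M 0 0 * M 2 2 - M 0 2 * M 2 0) + (M 1 1 * M 2 2 - M 1 2 * M 2 1) = r) :
    M.charpoly = cu s r := by
  rw [charpoly_three, h0, h1, h2]
  rfl

/-- two cyclic matrices with the same characteristic polynomial -/
theorem FF.cyc {s r t t' : F} {l l' : Matrix (Fin 3) (Fin 3) F} (hl : CycM t t' l) (hl' : CycM t t' l') (h : FF s r l') :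
    FF s r l := by
  obtain ⟨R, hR, e⟩ := hl
  obtain ⟨R', hR', e'⟩ := hl'
  have hu : IsUnit R'.det := isUnit_iff_ne_zero.2 hR'
  have h1 : R' * R'⁻¹ = 1 := Matrix.mul_nonsing_inv _ hu
  have h2 : R'⁻¹ * R' = 1 := Matrix.nonsing_inv_mul _ hu
  have hd : (R'⁻¹).det ≠ 0 := by
    intro h0
    have := congrArg Matrix.det h1
    rw [Matrix.det_mul, h0, mul_zero, Matrix.det_one] at this
    exact zero_ne_one this
  refine h.conj (R := R * R'⁻¹) (by rw [Matrix.det_mul]; exact mul_ne_zero hR hd) ?_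
  have e2 : Co t t' * R'⁻¹ = R'⁻¹ * l' := by
    calc Co t t' * R'⁻¹ = (R'⁻¹ * R') * Co t t' * R'⁻¹ := by rw [h2, one_mul]
      _ = R'⁻¹ * (R' * Co t t') * R'⁻¹ := by simp only [mul_assoc]
      _ = R'⁻¹ * l' * (R' * R'⁻¹) := by rw [← e']; simp only [mul_assoc]
      _ = R'⁻¹ * l' := by rw [h1, mul_one]
  calc l * (R * R'⁻¹) = (l * R) * R'⁻¹ := by rw [mul_assoc]
    _ = R * (Co t t' * R'⁻¹) := by rw [e, mul_assoc]
    _ = R * R'⁻¹ * l' := by rw [e2, mul_assoc]

/-- the two matrices -/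
def Xm (u v s r : F) : Matrix (Fin 3) (Fin 3) F := !![0, 0, u⁻¹; u, 0, -r - v; u * v, 1, s]

/-- the two matrices -/
def Ym (z y s r : F) : Matrix (Fin 3) (Fin 3) F := !![0, -r - y * z⁻¹, z; 1, s, y; 0, z⁻¹, 0]

theorem mul_XY {u z v y s r : F} (hu : u ≠ 0) (hz : z ≠ 0) : Xm u v s r * Ym z y s r =
    !![0, u⁻¹ * z⁻¹, 0; 0, u * (-r - y * z⁻¹) + (-r - v) * z⁻¹, u * z;
      1, u * v * (-r - y * z⁻¹) + s + s * z⁻¹, u * v * z + y] := by
  ext i j
  (revert i j; simp only [Xm, Ym, Matrix.mul_apply, Fin.sum_univ_three, _root_.Fin.forall_fin_succ, _root_.Matrix.of_apply, _root_.Matrix.cons_val', _root_.Matrix.cons_val_fin_one, Fin.isValue, _root_.Matrix.cons_val_zero, _root_.Matrix.cons_val_one, _root_.Matrix.cons_val, _root_.MulZeroClass.mul_zero, _root_.mul_one, _root_.zero_add, _root_.add_zero, _root_.Matrix.cons_val_succ, _root_.forall_const, _root_.true_and, _root_.MulZeroClass.zero_mul, _root_.and_self, _root_.one_mul, _root_.implies_true])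

theorem ff_of_sol {s r t t' : F} {l : Matrix (Fin 3) (Fin 3) F} (hl : CycM t t' l) (h : SolM s r t t') : FF s r l := by
  obtain ⟨u, z, v, y, hu, hz, e1, e2⟩ := h
  have hX : (Xm u v s r).det = 1 := by
    simp [Xm, Matrix.det_fin_three, hu]
  have hY : (Ym z y s r).det = 1 := by
    simp [Ym, Matrix.det_fin_three, hz]
  refine FF.cyc hl (l' := Xm u v s r * Ym z y s r) ?_ ⟨_, _, hX, hY, rfl, charpoly_of hX ?_ ?_, charpoly_of hY ?_ ?_⟩
  · refine ⟨!![1, 0, 0; 0, 0, u * z; 0, 1, u * v * z + y], ?_, ?_⟩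
    · rw [Matrix.det_fin_three]
      simp [hu, hz]
    · rw [mul_XY hu hz]
      have e1' : t = u * (-r - y * z⁻¹) + (-r - v) * z⁻¹ + (u * v * z + y) := by
        field_simp
        linear_combination e1
      have e2' : t' = (u * (-r - y * z⁻¹) + (-r - v) * z⁻¹) * (u * v * z + y) -
          u * z * (u * v * (-r - y * z⁻¹) + s + s * z⁻¹) := by
        field_simp
        linear_combination e2
      rw [Co, e1', e2']
      ext i j
      (revert i j; simp only [Matrix.mul_apply, Fin.sum_univ_three, _root_.Fin.forall_fin_succ, _root_.Matrix.of_apply, _root_.Matrix.cons_val', _root_.Matrix.cons_val_fin_one, Fin.isValue, _root_.Matrix.cons_val_zero, _root_.Matrix.cons_val_one, _root_.Matrix.cons_val, _root_.neg_sub, _root_.mul_one, _root_.MulZeroClass.mul_zero, _root_.add_zero, _root_.zero_add, _root_.Matrix.cons_val_succ, _root_.forall_const, _root_.true_and, _root_.MulZeroClass.zero_mul, _root_.one_mul]) <;> (repeat' with_reducible apply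 And.intro) <;> field_simp <;> ring
  · simp [Xm]
  · simp only [Xm, _root_.Fin.isValue, _root_.Matrix.of_apply, _root_.Matrix.cons_val', _root_.Matrix.cons_val_zero, _root_.Matrix.cons_val_fin_one, _root_.Matrix.cons_val_one, _root_.MulZeroClass.mul_zero, _root_.MulZeroClass.zero_mul, _root_.sub_self, _root_.Matrix.cons_val, _root_.zero_sub, _root_.zero_add, _root_.mul_one, _root_.neg_sub, _root_.sub_neg_eq_add]
    field_simp
    ring
  · simp [Ym]
  · simp [Ym]
    try field_simp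
    try ring

/-! ### Cyclic vectors -/

/-- the matrix with the columns `v`, `M v`, `M² v` -/
def Kry (M : Matrix (Fin 3) (Fin 3) F) (v : Fin 3 → F) : Matrix (Fin 3) (Fin 3) F :=
  Matrix.of fun i j => ![v i, (M *ᵥ v) i, (M *ᵥ (M *ᵥ v)) i] j

theorem cyc_of_vec {t t' : F} {M : Matrix (Fin 3) (Fin 3) F} (hM : M.charpoly = cu t t') {v : Fin 3 → F}
    (h : (Kry M v).det ≠ 0) : CycM t t' M := by
  refine ⟨Kry M v, h, ?_⟩
  have h1 := Matrix.aeval_self_charpoly M
  rw [hM, cu] at h1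
  simp only [map_sub, map_add, map_mul, map_pow, aeval_X, aeval_C, map_one] at h1
  have h2 : M * (M * M) = t • (M * M) - t' • M + 1 := by
    rw [Algebra.algebraMap_eq_smul_one, Algebra.algebraMap_eq_smul_one] at h1
    simp only [smul_mul_assoc, one_mul] at h1
    have h3 : M ^ 3 = M * (M * M) := by rw [pow_succ, pow_two, mul_assoc]
    have h5 : M * (M * M) - t • (M * M) + t' • M - 1 = 0 := by
      rw [← h3]
      simpa only [pow_two] using h1
    have h6 : M * (M * M) = (M * (M * M) - t • (M * M) + t' • M - 1) + (t • (M * M) - t' • M + 1) := by abel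
    rw [h6, h5, zero_add]
  have h3 : M *ᵥ (M *ᵥ (M *ᵥ v)) = t • (M *ᵥ (M *ᵥ v)) - t' • (M *ᵥ v) + v := by
    have h4 := congrArg (fun N : Matrix (Fin 3) (Fin 3) F => N *ᵥ v) h2
    simpa only [← Matrix.mulVec_mulVec, Matrix.add_mulVec, Matrix.sub_mulVec, Matrix.smul_mulVec, Matrix.one_mulVec]
      using h4
  have hcol : ∀ (w : Fin 3 → F) (i : Fin 3), (M *ᵥ w) i = M i 0 * w 0 + M i 1 * w 1 + M i 2 * w 2 := by
    intro w i
    simp [Matrix.mulVec, dotProduct, Fin.sum_univ_three]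
  ext i j
  have h5 := congrFun h3 i
  rw [Pi.add_apply, Pi.sub_apply, Pi.smul_apply, Pi.smul_apply, smul_eq_mul, smul_eq_mul] at h5
  rw [Matrix.mul_apply, Matrix.mul_apply, Fin.sum_univ_three, Fin.sum_univ_three]
  fin_cases j
  · simp only [Kry, Co, hcol, _root_.Fin.isValue, _root_.Nat.succ_eq_add_one, _root_.Nat.reduceAdd, _root_.Fin.zero_eta, _root_.Matrix.of_apply, _root_.Matrix.cons_val_zero, _root_.Matrix.cons_val', _root_.Matrix.cons_val_fin_one, _root_.MulZeroClass.mul_zero, _root_.Matrix.cons_val_one, _root_.mul_one, _root_.zero_add, _root_.Matrix.cons_val, _root_.add_zero]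
  · simp only [Kry, Co, hcol, _root_.Fin.isValue, _root_.Nat.succ_eq_add_one, _root_.Nat.reduceAdd, _root_.Fin.mk_one, _root_.Matrix.of_apply, _root_.Matrix.cons_val_one, _root_.Matrix.cons_val_zero, _root_.Matrix.cons_val', _root_.Matrix.cons_val_fin_one, _root_.MulZeroClass.mul_zero, _root_.add_zero, _root_.Matrix.cons_val, _root_.mul_one, _root_.zero_add]
  · simp only [Kry, Co, Matrix.of_apply, Matrix.cons_val', Matrix.cons_val_zero, Matrix.cons_val_one,
      Matrix.cons_val, Fin.reduceFinMk, Fin.isValue]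
    have h6 := hcol (M *ᵥ (M *ᵥ v)) i
    linear_combination h5 - h6

theorem dich_aux (a b c g h k : F) :
    (∃ v : Fin 3 → F, (Kry !![0, a, g; 1, b, h; 0, c, k] v).det ≠ 0) ∨
      (c = 0 ∧ g = -k * h ∧ ∃ δ, a = -k * δ ∧ b = k + δ) := by
  by_cases hc : c = 0
  · subst hc
    by_cases hcon : ∀ p q : F, (Kry !![0, a, g; 1, b, h; 0, 0, k] ![p, q, 1]).det = 0
    · right
      have key : ∀ p q : F, (a * q + g - k * p) ^ 2 + b * (a * q + g - k * p) * (p + b * q + h - k * q) -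
          a * (p + b * q + h - k * q) ^ 2 = 0 := by
        intro p q
        have h1 := hcon p q
        rw [Matrix.det_fin_three] at h1
        simp only [Kry, Matrix.mulVec, dotProduct, Fin.sum_univ_three, _root_.Nat.succ_eq_add_one, _root_.Nat.reduceAdd, _root_.Matrix.of_apply, _root_.Matrix.cons_val', _root_.Matrix.cons_val_fin_one, _root_.Fin.isValue, _root_.Matrix.cons_val_zero, _root_.Matrix.cons_val_one, _root_.Matrix.cons_val, _root_.mul_one, _root_.MulZeroClass.zero_mul, _root_.zero_add, _root_.one_mul, _root_.add_zero] at h1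
        linear_combination h1
      have ha : a = -k * (b - k) := by
        by_contra hne
        have hΔ : -k * (b - k) - a ≠ 0 := fun h0 => hne (by linear_combination -h0)
        obtain ⟨p, q, e1, e2⟩ : ∃ p q : F, a * q + g - k * p = 1 ∧ p + b * q + h - k * q = 0 := by
          obtain ⟨d, hd⟩ : ∃ d, (-k * (b - k) - a) * d = 1 := ⟨_, mul_inv_cancel₀ hΔ⟩
          refine ⟨((1 - g) * (b - k) + a * h) * d, (k * h - 1 + g) * d, ?_, ?_⟩
          · linear_combination (1 - g) * hd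
          · linear_combination (-h) * hd
        have h2 := key p q
        rw [e1, e2] at h2
        simp at h2
      refine ⟨rfl, ?_, b - k, ha, by ring⟩
      by_contra hg
      have hg' : g + k * h ≠ 0 := fun h0 => hg (by linear_combination h0)
      have hfac : ∀ τ : F, g + (b - k) * h + ((b - k) - k) * τ = 0 := by
        intro τ
        have h2 := key τ 0
        have h3 : (g + k * h) * (g + (b - k) * h + ((b - k) - k) * τ) = 0 := by
          linear_combination h2 + (h + τ) ^ 2 * ha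
        exact (mul_eq_zero.1 h3).resolve_left hg'
      have h4 := hfac 0
      have h5 := hfac 1
      exact hg' (by linear_combination h4 - h * (h5 - h4))
    · left
      push Not at hcon
      obtain ⟨p, q, h1⟩ := hcon
      exact ⟨_, h1⟩
  · left
    refine ⟨![1, 0, 0], ?_⟩
    rw [Matrix.det_fin_three]
    simp [Kry, Matrix.mulVec, dotProduct, Fin.sum_univ_three, hc]

end Cfsg.Agent.H538.TC
end

-- part: H538/TC/SLThreeB
section
/-!
Every nonscalar element of `SL₃(F)`, `F` finite with at least three elements, is a product of two elements with the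
characteristic polynomial `T³ - s T² + r T - 1` (irreducible; `(s, r) = (1, -1)` for `|F| = 3`, `(0, 1)` for `|F| = 4`)
(S2464).
-/

set_option autoImplicit false

namespace Cfsg.Agent.H538.TC

open Matrix Polynomial
open Cfsg.Agent.H126.M3 (cu charpoly_three)

variable {F : Type*} [Field F]

/-! ### Solutions -/

theorem sol_of {s r t t' z w k v : F} (hz : z ≠ 0) (h1 : z + 1 ≠ 0) (hw : (z + 1) * w = -1)
    (hk : (z ^ 2 + z + 1) * k = z * (z + 1) * t + r)
    (hv : (z - 1) * (k - r) * v = k * (k - r) - z * (z + 1) * (t' - s)) : SolM s r t t' := by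
  refine ⟨w, z, v, v + k, ?_, hz, ?_, ?_⟩
  · rintro rfl
    simp at hw
  · refine mul_left_cancel₀ h1 ?_
    linear_combination -hk - (-(v + k) + z ^ 2 * v - z * r) * hw
  · refine mul_left_cancel₀ h1 ?_
    linear_combination hv + ((v + k) * (r * z + (v + k)) + z * v * (r + v) + z * (z + 1) * s) * hw

theorem sol_gen {s r t t' z : F} (hz : z ≠ 0) (h1 : z + 1 ≠ 0) (h2 : z - 1 ≠ 0) (h3 : z ^ 2 + z + 1 ≠ 0)
    (ht : t ≠ r) : SolM s r t t' := by
  obtain ⟨w, hw⟩ : ∃ w, (z + 1) * w = -1 := ⟨(z + 1)⁻¹ * (-1), by rw [← mul_assoc, mul_inv_cancel₀ h1, one_mul]⟩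
  obtain ⟨k, hk⟩ : ∃ k, (z ^ 2 + z + 1) * k = z * (z + 1) * t + r :=
    ⟨(z ^ 2 + z + 1)⁻¹ * (z * (z + 1) * t + r), by rw [← mul_assoc, mul_inv_cancel₀ h3, one_mul]⟩
  have hkr : k - r ≠ 0 := by
    intro h0
    have h4 : z * (z + 1) * (t - r) = 0 := by linear_combination (z ^ 2 + z + 1) * h0 - hk
    rcases mul_eq_zero.1 h4 with h5 | h5
    · rcases mul_eq_zero.1 h5 with h6 | h6
      · exact hz h6
      · exact h1 h6
    · exact ht (sub_eq_zero.1 h5)
  have h4 : (z - 1) * (k - r) ≠ 0 := mul_ne_zero h2 hkr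
  exact sol_of hz h1 hw hk (v := ((z - 1) * (k - r))⁻¹ * (k * (k - r) - z * (z + 1) * (t' - s)))
    (by rw [← mul_assoc, mul_inv_cancel₀ h4, one_mul])

theorem sol_eq {s r z : F} (hz : z ≠ 0) (h1 : z + 1 ≠ 0) : SolM s r r s := by
  obtain ⟨w, hw⟩ : ∃ w, (z + 1) * w = -1 := ⟨(z + 1)⁻¹ * (-1), by rw [← mul_assoc, mul_inv_cancel₀ h1, one_mul]⟩
  exact sol_of hz h1 hw (k := r) (v := 0) (by ring) (by ring)

/-- all parameters are reached -/
def Good (s r : F) : Prop := ∀ t t' : F, SolM s r t t' ∨ SolM r s t' t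

theorem good_of {z : F} (hz : z ≠ 0) (h1 : z + 1 ≠ 0) (h2 : z - 1 ≠ 0) (h3 : z ^ 2 + z + 1 ≠ 0) (s r : F) :
    Good s r := by
  intro t t'
  by_cases ht : t = r
  · by_cases ht' : t' = s
    · subst ht ht'
      exact Or.inl (sol_eq hz h1)
    · exact Or.inr (sol_gen hz h1 h2 h3 ht')
  · exact Or.inl (sol_gen hz h1 h2 h3 ht)

theorem exists_z [Fintype F] (hF : 5 ≤ Fintype.card F) :
    ∃ z : F, z ≠ 0 ∧ z + 1 ≠ 0 ∧ z - 1 ≠ 0 ∧ z ^ 2 + z + 1 ≠ 0 := by
  classical
  by_cases h6 : (2 : F) ≠ 0 ∧ (3 : F) ≠ 0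
  · obtain ⟨h2, h3⟩ := h6
    refine ⟨-2, neg_ne_zero.2 h2, ?_, ?_, ?_⟩
    · intro h; exact one_ne_zero (α := F) (by linear_combination -h)
    · intro h; exact h3 (by linear_combination -h)
    · intro h; exact h3 (by linear_combination h)
  · have h8 : 5 < Fintype.card F := by
      rcases lt_or_eq_of_le hF with h | h
      · exact h
      · exfalso
        apply h6
        have h5 : (5 : F) = 0 := by
          have := Nat.cast_card_eq_zero F
          rw [← h] at this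
          exact_mod_cast this
        constructor
        · intro h2
          exact one_ne_zero (α := F) (by linear_combination h5 - 2 * h2)
        · intro h3
          exact one_ne_zero (α := F) (by linear_combination 2 * h3 - h5)
    let f : F[X] := X * (X + C 1) * (X - C 1) * (X ^ 2 + X + C 1)
    have hm2 : (X ^ 2 + X + C 1 : F[X]).Monic := by
      have : (X ^ 2 + X + C 1 : F[X]) = X ^ 2 + (X + C 1) := by ring
      rw [this]
      exact monic_X_pow_add (by rw [degree_X_add_C]; norm_num)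
    have hd2 : (X ^ 2 + X + C 1 : F[X]).natDegree ≤ 2 := by compute_degree
    have hf0 : f ≠ 0 :=
      (((monic_X.mul (monic_X_add_C 1)).mul (monic_X_sub_C 1)).mul hm2).ne_zero
    have hfd : f.natDegree ≤ 5 := by
      refine (natDegree_mul_le).trans ?_
      refine (Nat.add_le_add (natDegree_mul_le.trans (Nat.add_le_add (natDegree_mul_le.trans
        (Nat.add_le_add natDegree_X_le (natDegree_X_add_C (1 : F)).le)) (natDegree_X_sub_C (1 : F)).le)) hd2).trans ?_
      norm_num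
    obtain ⟨z, hz⟩ := Polynomial.exists_eval_ne_zero_of_natDegree_lt_card f hf0 (by
      rw [Cardinal.mk_fintype]
      exact_mod_cast lt_of_le_of_lt hfd h8)
    simp only [f, eval_mul, eval_add, eval_sub, eval_X, eval_C, eval_pow] at hz
    refine ⟨z, ?_, ?_, ?_, ?_⟩ <;> intro h0 <;> apply hz <;> rw [h0] <;> ring

theorem good_three [Fintype F] (hF : Fintype.card F = 3) : Good (1 : F) (-1) := by
  classical
  have h3 : (3 : F) = 0 := by
    have := Nat.cast_card_eq_zero F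
    rw [hF] at this
    exact_mod_cast this
  have h2 : (2 : F) ≠ 0 := fun h => one_ne_zero (α := F) (by linear_combination h3 - h)
  have hne : (1 : F) ≠ -1 := fun h => h2 (by linear_combination h)
  have hall : ∀ t : F, t = 0 ∨ t = 1 ∨ t = -1 := by
    have h4 : ({0, 1, -1} : Finset F) = Finset.univ := by
      rw [← Finset.card_eq_iff_eq_univ, hF]
      rw [Finset.card_insert_of_notMem, Finset.card_pair hne]
      simp
    intro t
    have := Finset.mem_univ t
    rw [← h4] at this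
    simpa only [_root_.Finset.mem_insert, _root_.Finset.mem_singleton] using this
  intro t t'
  left
  rcases hall t with rfl | rfl | rfl <;> rcases hall t' with rfl | rfl | rfl
  · exact ⟨1, -1, 0, 0, one_ne_zero, neg_ne_zero.2 one_ne_zero, by linear_combination (0 : F) * h3, by linear_combination (0 : F) * h3⟩
  · exact ⟨1, -1, -1, 0, one_ne_zero, neg_ne_zero.2 one_ne_zero, by linear_combination (0 : F) * h3, by linear_combination (-1 : F) * h3⟩
  · exact ⟨-1, 1, 0, 0, neg_ne_zero.2 one_ne_zero, one_ne_zero, by linear_combination (0 : F) * h3, by linear_combination (-1 : F) * h3⟩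
  · exact ⟨1, -1, 1, -1, one_ne_zero, neg_ne_zero.2 one_ne_zero, by linear_combination (-1 : F) * h3, by linear_combination (0 : F) * h3⟩
  · exact ⟨1, -1, 0, -1, one_ne_zero, neg_ne_zero.2 one_ne_zero, by linear_combination (-1 : F) * h3, by linear_combination (0 : F) * h3⟩
  · exact ⟨-1, 1, 1, 0, neg_ne_zero.2 one_ne_zero, one_ne_zero, by linear_combination (1 : F) * h3, by linear_combination (-1 : F) * h3⟩
  · exact ⟨-1, 1, 0, 1, neg_ne_zero.2 one_ne_zero, one_ne_zero, by linear_combination (-1 : F) * h3, by linear_combination (-1 : F) * h3⟩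
  · exact ⟨1, 1, 0, 0, one_ne_zero, one_ne_zero, by linear_combination (-1 : F) * h3, by linear_combination (1 : F) * h3⟩
  · exact ⟨1, 1, 0, 1, one_ne_zero, one_ne_zero, by linear_combination (-1 : F) * h3, by linear_combination (0 : F) * h3⟩

theorem good_four [Fintype F] (hF : Fintype.card F = 4) : Good (0 : F) 1 := by
  classical
  have h2 : (2 : F) = 0 := by
    have h4 := Nat.cast_card_eq_zero F
    rw [hF] at h4
    have h5 : (2 : F) * 2 = 0 := by
      have h6 : ((4 : ℕ) : F) = 4 := by norm_num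
      rw [h6] at h4
      linear_combination h4
    exact (mul_self_eq_zero.1 h5)
  obtain ⟨w, hwn⟩ : ∃ w : F, w ∉ ({0, 1} : Finset F) := by
    by_contra h
    push Not at h
    have h3 : (Finset.univ : Finset F).card ≤ ({0, 1} : Finset F).card := Finset.card_le_card fun x _ => h x
    rw [Finset.card_univ, hF] at h3
    exact absurd (h3.trans Finset.card_le_two) (by norm_num)
  have hw0 : w ≠ 0 := fun h => hwn (by simp only [h, _root_.Finset.mem_insert, _root_.Finset.mem_singleton, _root_.zero_ne_one, _root_.or_false])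
  have hwo : w ≠ 1 := fun h => hwn (by simp only [h, _root_.Finset.mem_insert, _root_.one_ne_zero, _root_.Finset.mem_singleton, _root_.or_true])
  have hw : w ^ 2 + w + 1 = 0 := by
    have h3 : w ^ 3 = 1 := by
      have := FiniteField.pow_card_sub_one_eq_one w hw0
      rwa [hF] at this
    have h4 : (w - 1) * (w ^ 2 + w + 1) = 0 := by linear_combination h3
    exact (mul_eq_zero.1 h4).resolve_left (sub_ne_zero.2 hwo)
  have hw1 : w + 1 ≠ 0 := fun h => hwo (by linear_combination h - h2)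
  have hall : ∀ t : F, t = 0 ∨ t = 1 ∨ t = w ∨ t = w + 1 := by
    have h4 : ({0, 1, w, w + 1} : Finset F) = Finset.univ := by
      rw [← Finset.card_eq_iff_eq_univ, hF]
      rw [Finset.card_insert_of_notMem, Finset.card_insert_of_notMem, Finset.card_pair]
      · intro h
        exact one_ne_zero (α := F) (by linear_combination -h)
      · simp only [Finset.mem_insert, Finset.mem_singleton, not_or]
        exact ⟨fun h => hwo h.symm, fun h => hw0 (by linear_combination -h)⟩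
      · simp only [Finset.mem_insert, Finset.mem_singleton, not_or]
        exact ⟨zero_ne_one, fun h => hw0 h.symm, fun h => hw1 h.symm⟩
    intro t
    have := Finset.mem_univ t
    rw [← h4] at this
    simpa only [_root_.Finset.mem_insert, _root_.Finset.mem_singleton] using this
  intro t t'
  left
  rcases hall t with rfl | rfl | ht | ht <;> rcases hall t' with rfl | rfl | ht' | ht' <;> (try rw [ht]) <;>
    (try rw [ht'])
  · exact ⟨1, 1, 0, 0, one_ne_zero, one_ne_zero, by linear_combination (0 : F) * hw + ((1)) * h2, by linear_combination (0 : F) * hw + (0) * h2⟩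
  · exact ⟨1, 1, 0, 1, one_ne_zero, one_ne_zero, by linear_combination (0 : F) * hw + ((1)) * h2, by linear_combination (0 : F) * hw + ((2)) * h2⟩
  · exact ⟨1, 1, 0, (w+1), one_ne_zero, one_ne_zero, by linear_combination (0 : F) * hw + ((1)) * h2, by linear_combination ((1) : F) * hw + ((1)+(2)*w^1) * h2⟩
  · exact ⟨1, 1, 0, w, one_ne_zero, one_ne_zero, by linear_combination (0 : F) * hw + ((1)) * h2, by linear_combination ((1) : F) * hw + ((1)*w^1) * h2⟩
  · exact ⟨w, w, 0, 0, hw0, hw0, by linear_combination ((1) : F) * hw + (0) * h2, by linear_combination (0 : F) * hw + (0) * h2⟩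
  · exact ⟨1, w, 0, w, one_ne_zero, hw0, by linear_combination ((-1) : F) * hw + ((1)+(2)*w^1) * h2, by linear_combination ((2) : F) * hw + ((-1)) * h2⟩
  · exact ⟨1, w, 1, 1, one_ne_zero, hw0, by linear_combination ((-1) : F) * hw + ((2)+(1)*w^1) * h2, by linear_combination ((1) : F) * hw + ((1)+(1)*w^1) * h2⟩
  · exact ⟨1, (w+1), 1, 1, one_ne_zero, hw1, by linear_combination ((-1) : F) * hw + ((2)) * h2, by linear_combination ((1) : F) * hw + ((3)+(2)*w^1) * h2⟩
  · exact ⟨1, w, 0, 0, one_ne_zero, hw0, by linear_combination ((1) : F) * hw + (0) * h2, by linear_combination (0 : F) * hw + (0) * h2⟩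
  · exact ⟨1, w, w, 1, one_ne_zero, hw0, by linear_combination ((2)+(-1)*w^1 : F) * hw + (0) * h2, by linear_combination ((1)*w^1 : F) * hw + ((1)+(1)*w^1) * h2⟩
  · exact ⟨1, w, 1, (w+1), one_ne_zero, hw0, by linear_combination ((-1) : F) * hw + ((2)+(1)*w^1) * h2, by linear_combination ((3) : F) * hw + ((2)*w^1) * h2⟩
  · exact ⟨1, w, (w+1), w, one_ne_zero, hw0, by linear_combination ((-1)*w^1 : F) * hw + ((1)+(2)*w^1) * h2, by linear_combination ((6)+(1)*w^1 : F) * hw + ((-3)+(-1)*w^1) * h2⟩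
  · exact ⟨1, w, 0, (w+1), one_ne_zero, hw0, by linear_combination (0 : F) * hw + ((1)+(1)*w^1) * h2, by linear_combination ((2) : F) * hw + ((1)*w^1) * h2⟩
  · exact ⟨1, (w+1), (w+1), 1, one_ne_zero, hw1, by linear_combination ((-1)+(-1)*w^1 : F) * hw + ((2)+(1)*w^1) * h2, by linear_combination ((3)+(1)*w^1 : F) * hw + ((2)+(2)*w^1) * h2⟩
  · exact ⟨1, w, w, w, one_ne_zero, hw0, by linear_combination ((1)+(-1)*w^1 : F) * hw + ((2)*w^1) * h2, by linear_combination ((4)+(1)*w^1 : F) * hw + ((-2)+(-2)*w^1) * h2⟩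
  · exact ⟨1, (w+1), 1, w, one_ne_zero, hw1, by linear_combination ((-1) : F) * hw + ((2)+(1)*w^1) * h2, by linear_combination ((3) : F) * hw + ((2)*w^1) * h2⟩

end Cfsg.Agent.H538.TC
end

-- part: H538/TC/SLThree
section
/-!
Every nonscalar element of `SL₃(F)` is a product of two conjugates of a given element with irreducible characteristic
polynomial (S2464): `sl_three`; `(s, r)` arbitrary for `|F| ≥ 5`, `(1, -1)` for `|F| = 3`, `(0, 1)` for `|F| = 4`.
-/

set_option autoImplicit false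

namespace Cfsg.Agent.H538.TC

open Matrix Polynomial
open Cfsg.Agent.H126.M3 (cu charpoly_three)

variable {F : Type*} [Field F]

/-! ### Inverses -/

theorem c3_two (A B D : F) : (X ^ 3 - C A * X ^ 2 + C B * X - C D : F[X]).coeff 2 = -A := by
  rw [coeff_sub, coeff_add, coeff_sub, coeff_C_mul, coeff_C_mul, coeff_X_pow, coeff_X_pow, coeff_X, coeff_C]
  norm_num

theorem c3_one (A B D : F) : (X ^ 3 - C A * X ^ 2 + C B * X - C D : F[X]).coeff 1 = B := by
  rw [coeff_sub, coeff_add, coeff_sub, coeff_C_mul, coeff_C_mul, coeff_X_pow, coeff_X_pow, coeff_X, coeff_C]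
  norm_num

theorem inv_of_charpoly {s r : F} {M : Matrix (Fin 3) (Fin 3) F} (h : M.charpoly = cu s r) :
    M 0 0 + M 1 1 + M 2 2 = s ∧
      M 0 0 * M 1 1 - M 0 1 * M 1 0 + (M 0 0 * M 2 2 - M 0 2 * M 2 0) + (M 1 1 * M 2 2 - M 1 2 * M 2 1) = r := by
  rw [charpoly_three] at h
  constructor
  · have h1 : Polynomial.coeff _ 2 = Polynomial.coeff _ 2 := congrArg (fun p : F[X] => p.coeff 2) h
    rw [cu, c3_two, c3_two] at h1
    exact neg_injective h1
  · have h1 : Polynomial.coeff _ 1 = Polynomial.coeff _ 1 := congrArg (fun p : F[X] => p.coeff 1) h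
    rw [cu, c3_one, c3_one] at h1
    exact h1

theorem adj_charpoly {s r : F} {M : Matrix (Fin 3) (Fin 3) F} (hd : M.det = 1) (h : M.charpoly = cu s r) :
    M.adjugate.charpoly = cu r s := by
  obtain ⟨h1, h2⟩ := inv_of_charpoly h
  have hd' := hd
  rw [Matrix.det_fin_three] at hd'
  refine charpoly_of ?_ ?_ ?_
  · rw [Matrix.det_adjugate, hd, one_pow]
  · rw [Matrix.adjugate_fin_three]
    simp only [_root_.Fin.isValue, _root_.Matrix.of_apply, _root_.Matrix.cons_val', _root_.Matrix.cons_val_zero, _root_.Matrix.cons_val_fin_one, _root_.Matrix.cons_val_one, _root_.Matrix.cons_val]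
    linear_combination h2
  · rw [Matrix.adjugate_fin_three]
    simp only [_root_.Fin.isValue, _root_.Matrix.of_apply, _root_.Matrix.cons_val', _root_.Matrix.cons_val_zero, _root_.Matrix.cons_val_fin_one, _root_.Matrix.cons_val_one, _root_.Matrix.cons_val]
    linear_combination h1 + (M 0 0 + M 1 1 + M 2 2) * hd'

theorem FF.inv {s r : F} {l l' : Matrix (Fin 3) (Fin 3) F} (h : FF r s l') (e : l * l' = 1) : FF s r l := by
  obtain ⟨X, Y, hX, hY, rfl, hXc, hYc⟩ := h
  refine ⟨Y.adjugate, X.adjugate, by rw [Matrix.det_adjugate, hY, one_pow], by rw [Matrix.det_adjugate, hX, one_pow],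
    ?_, adj_charpoly hY hYc, adj_charpoly hX hXc⟩
  have h1 : X * Y * (Y.adjugate * X.adjugate) = 1 := by
    calc X * Y * (Y.adjugate * X.adjugate) = X * (Y * Y.adjugate) * X.adjugate := by simp only [mul_assoc]
      _ = 1 := by rw [Matrix.mul_adjugate, hY, one_smul, mul_one, Matrix.mul_adjugate, hX, one_smul]
  calc l = l * (X * Y * (Y.adjugate * X.adjugate)) := by rw [h1, mul_one]
    _ = l * (X * Y) * (Y.adjugate * X.adjugate) := by simp only [mul_assoc]
    _ = Y.adjugate * X.adjugate := by rw [e, one_mul]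

theorem ff_cyc {s r t t' : F} (hg : Good s r) {l : Matrix (Fin 3) (Fin 3) F} (hl : CycM t t' l) : FF s r l := by
  rcases hg t t' with h | h
  · exact ff_of_sol hl h
  · have h1 : CycM t' t (!![t', 1, 0; -t, 0, 1; 1, 0, 0] : Matrix (Fin 3) (Fin 3) F) := by
      refine ⟨!![0, 0, 1; 0, 1, 0; 1, 0, 0], ?_, ?_⟩
      · rw [Matrix.det_fin_three]
        simp
      · ext i j
        (revert i j; simp only [Co, Matrix.mul_apply, Fin.sum_univ_three, _root_.Fin.forall_fin_succ, _root_.Matrix.of_apply, _root_.Matrix.cons_val', _root_.Matrix.cons_val_fin_one, Fin.isValue, _root_.Matrix.cons_val_zero, _root_.Matrix.cons_val_one, _root_.Matrix.cons_val, _root_.MulZeroClass.mul_zero, _root_.add_zero, _root_.mul_one, _root_.zero_add, _root_.Matrix.cons_val_succ, _root_.mul_neg, _root_.forall_const, _root_.true_and, _root_.MulZeroClass.zero_mul, _root_.neg_zero, _root_.one_mul, _root_.implies_true, _root_.and_self])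
    have h2 : FF s r (Co t t') := (ff_of_sol h1 h).inv (by
      ext i j
      (revert i j; simp only [Co, Matrix.mul_apply, Fin.sum_univ_three, _root_.Fin.forall_fin_succ, _root_.Matrix.of_apply, _root_.Matrix.cons_val', _root_.Matrix.cons_val_fin_one, Fin.isValue, _root_.Matrix.cons_val_zero, _root_.Matrix.cons_val_one, _root_.Matrix.cons_val, _root_.mul_neg, _root_.mul_one, _root_.Matrix.cons_val_succ, _root_.MulZeroClass.mul_zero, _root_.add_zero, _root_.zero_add, _root_.IsEmpty.forall_iff, _root_.and_true, _root_.MulZeroClass.zero_mul, _root_.neg_zero, _root_.Matrix.one_apply_eq, Nat.reduceAdd, _root_.Fin.succ_zero_eq_one, _root_.ne_eq, _root_.zero_ne_one, _root_.not_false_eq_true, _root_.Matrix.one_apply_ne, _root_.Fin.succ_one_eq_two, Fin.reduceEq, _root_.and_self, _root_.Fin.succ_ne_zero, _root_.one_mul, _root_.add_neg_cancel, _root_.neg_add_cancel, _root_.true_and]))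
    exact FF.cyc hl ⟨1, by rw [Matrix.det_one]; exact one_ne_zero, by rw [mul_one, one_mul]⟩ h2

/-! ### Scalar plus rank one -/

theorem ff_rank_one {s r : F} (hirr : ∀ x, (cu s r).eval x ≠ 0) {k δ h : F} {N : Matrix (Fin 3) (Fin 3) F}
    (hN : N = !![0, -k * δ, -k * h; 1, k + δ, h; 0, 0, k]) (hd : N.det = 1) : FF s r N := by
  have hk3 : k ^ 2 * δ = 1 := by
    rw [hN, Matrix.det_fin_three] at hd
    simp only [_root_.neg_mul, _root_.Fin.isValue, _root_.Matrix.of_apply, _root_.Matrix.cons_val', _root_.Matrix.cons_val_zero, _root_.Matrix.cons_val_fin_one, _root_.Matrix.cons_val_one, _root_.MulZeroClass.zero_mul, _root_.Matrix.cons_val, _root_.MulZeroClass.mul_zero, _root_.sub_self, _root_.mul_one, _root_.sub_neg_eq_add, _root_.zero_add, _root_.add_zero, _root_.sub_zero] at hd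
    linear_combination hd
  have hk : k ≠ 0 := by
    rintro rfl
    simp at hk3
  have hr1 : N - k • (1 : Matrix (Fin 3) (Fin 3) F) = Matrix.vecMulVec ![-k, 1, 0] ![1, δ, h] := by
    rw [hN]
    ext i j
    (revert i j; simp only [Matrix.vecMulVec_apply, _root_.Fin.forall_fin_succ, _root_.neg_mul, _root_.Matrix.sub_apply, _root_.Matrix.of_apply, _root_.Matrix.cons_val', _root_.Matrix.cons_val_fin_one, _root_.Matrix.smul_apply, _root_.smul_eq_mul, _root_.Nat.succ_eq_add_one, Nat.reduceAdd, Fin.isValue, _root_.Matrix.cons_val_zero, _root_.mul_one, _root_.Matrix.cons_val_succ, _root_.IsEmpty.forall_iff, _root_.and_true, _root_.Matrix.one_apply_eq, _root_.zero_sub, _root_.Fin.succ_zero_eq_one, _root_.ne_eq, _root_.zero_ne_one, _root_.not_false_eq_true, _root_.Matrix.one_apply_ne, _root_.MulZeroClass.mul_zero, _root_.sub_zero, _root_.Fin.succ_one_eq_two, Fin.reduceEq, _root_.and_self, _root_.Fin.succ_ne_zero, _root_.add_sub_cancel_left, _root_.one_mul,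 _root_.MulZeroClass.zero_mul, _root_.neg_eq_zero, _root_.mul_eq_zero, _root_.true_and, _root_.or_true, _root_.sub_self])
  have hrank : (N - k • (1 : Matrix (Fin 3) (Fin 3) F)).rank = 1 := by
    refine le_antisymm ?_ ?_
    · rw [hr1]
      exact Matrix.rank_vecMulVec_le _ _
    · rw [Nat.one_le_iff_ne_zero]
      intro h0
      have h1 : N - k • (1 : Matrix (Fin 3) (Fin 3) F) = 0 := by
        rw [Matrix.rank, Submodule.finrank_eq_zero, LinearMap.range_eq_bot] at h0
        ext i j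
        have h2 := congrFun (LinearMap.congr_fun h0 (Pi.single j 1)) i
        rw [Matrix.mulVecLin_apply, Matrix.mulVec_single_one] at h2
        exact h2
      rw [hr1] at h1
      have h2 := congrFun (congrFun h1 1) 0
      simp [Matrix.vecMulVec_apply] at h2
  have hmon : ∀ a b : F, (cu a b).Monic ∧ (cu a b).natDegree = 3 := by
    intro a b
    have h1 : (cu a b) = X ^ 3 + (-(C a) * X ^ 2 + C b * X - C 1) := by
      rw [cu]
      ring
    have h2 : (-(C a) * X ^ 2 + C b * X - C 1 : F[X]).degree < 3 := by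
      refine lt_of_le_of_lt (b := ((2 : ℕ) : WithBot ℕ)) ?_ (by norm_num)
      rw [← natDegree_le_iff_degree_le]
      compute_degree
    constructor
    · rw [h1]
      exact monic_X_pow_add (by exact_mod_cast h2)
    · rw [h1]
      exact natDegree_eq_of_degree_eq_some (by
        rw [degree_add_eq_left_of_degree_lt (by rw [degree_X_pow]; exact_mod_cast h2), degree_X_pow])
  have hc0 : ∀ a b : F, (cu a b).coeff 0 = -1 := by
    intro a b
    simp only [cu, coeff_X, coeff_C, coeff_X_pow, _root_.map_one, _root_.Polynomial.coeff_sub, _root_.Polynomial.coeff_add, _root_.OfNat.zero_ne_ofNat, ↓ _root_.reduceIte, _root_.Polynomial.mul_coeff_zero, _root_.MulZeroClass.mul_zero, _root_.sub_self, _root_.one_ne_zero, _root_.add_zero, _root_.Polynomial.coeff_one_zero, _root_.zero_sub]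
  obtain ⟨X', Z, e, hX, hZ⟩ := Cfsg.Agent.H130.War.exists_mul_rank_one (by norm_num) N hk hrank (p := cu s r)
    (g := cu r s) (hmon s r).1 (hmon s r).2 (hmon r s).1 (hmon r s).2 (by rw [hc0]; exact neg_ne_zero.2 one_ne_zero)
    (by rw [hc0, hc0, hd, one_mul]) (by
      intro hp
      -- the bad case has a root
      have h0 := congrArg (fun p : F[X] => p.eval 0) hp
      have h1 := congrArg (fun p : F[X] => p.eval (k ^ 2)) hp
      have hk1 : k * k⁻¹ = 1 := mul_inv_cancel₀ hk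
      have h3 : k ^ 3 = 1 := by
        simp only [cu, _root_.map_one, _root_.Polynomial.eval_sub, _root_.Polynomial.eval_add, _root_.Polynomial.eval_pow, _root_.Polynomial.eval_X, _root_.ne_eq, _root_.OfNat.ofNat_ne_zero, _root_.not_false_eq_true, _root_.zero_pow, _root_.Polynomial.eval_mul, _root_.Polynomial.eval_C, _root_.MulZeroClass.mul_zero, _root_.sub_self, _root_.add_zero, _root_.Polynomial.eval_one, _root_.zero_sub, _root_.map_pow, _root_.Polynomial.sub_comp, _root_.Polynomial.add_comp, _root_.Polynomial.pow_comp, _root_.Polynomial.X_comp, _root_.Polynomial.mul_comp, _root_.Polynomial.C_comp, _root_.Polynomial.one_comp, _root_.mul_neg, _root_.mul_one, _root_.neg_inj] at h0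
        linear_combination -h0
      apply hirr (k ^ 2)
      have hcoef := congrArg (fun p : F[X] => p.coeff 2) hp
      have hs : s = r * k := by
        have hh : (C (k ^ 3) * (cu r s).comp (C k⁻¹ * X)) =
            C (k ^ 3 * k⁻¹ ^ 3) * X ^ 3 - C (k ^ 3 * k⁻¹ ^ 2 * r) * X ^ 2 + C (k ^ 3 * k⁻¹ * s) * X - C (k ^ 3) := by
          simp only [cu, sub_comp, add_comp, mul_comp, pow_comp, X_comp, C_comp, C_mul, C_pow, map_one, one_comp]
          ring
        have hk0 : k ^ 3 * k⁻¹ ^ 3 = 1 := by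
          rw [← mul_pow, hk1, one_pow]
        rw [hh, hk0, C_1, one_mul] at hcoef
        have hcoef' : Polynomial.coeff _ 2 = Polynomial.coeff _ 2 := hcoef
        rw [cu, c3_two, c3_two] at hcoef'
        have h4 : k ^ 3 * k⁻¹ ^ 2 = k := by
          calc k ^ 3 * k⁻¹ ^ 2 = k * (k * k⁻¹) ^ 2 := by ring
            _ = k := by rw [hk1, one_pow, mul_one]
        rw [h4] at hcoef'
        linear_combination -hcoef'
      simp only [cu, eval_sub, eval_add, eval_mul, eval_pow, eval_X, eval_C]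
      rw [hs]
      linear_combination (k ^ 3 + 1 - r * k ^ 2) * h3)
  -- `N = X' Z⁻¹`
  have hdet : ∀ (M : Matrix (Fin 3) (Fin 3) F) (a b : F), M.charpoly = cu a b → M.det = 1 := by
    intro M a b hM
    have h1 := congrArg (fun p : F[X] => p.coeff 0) hM
    simp only [hc0] at h1
    rw [Matrix.det_eq_sign_charpoly_coeff, h1]
    norm_num [Fintype.card_fin]
  have hZd := hdet Z r s hZ
  refine ⟨X', Z.adjugate, hdet X' s r hX, by rw [Matrix.det_adjugate, hZd, one_pow], ?_, hX, adj_charpoly hZd hZ⟩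
  rw [← e, mul_assoc, Matrix.mul_adjugate, hZd, one_smul, mul_one]

/-! ### The theorem -/

theorem exists_basis {l : Matrix (Fin 3) (Fin 3) F} (hns : ∀ a : F, l ≠ a • (1 : Matrix (Fin 3) (Fin 3) F)) :
    ∃ w y : Fin 3 → F, (Matrix.of fun i j => ![w i, (l *ᵥ w) i, y i] j : Matrix (Fin 3) (Fin 3) F).det ≠ 0 := by
  by_contra hcon
  push Not at hcon
  apply hns (l 0 0)
  have key : ∀ w0 w1 w2 y0 y1 y2 : F,
      w0 * (l 1 0 * w0 + l 1 1 * w1 + l 1 2 * w2) * y2 - w0 * y1 * (l 2 0 * w0 + l 2 1 * w1 + l 2 2 * w2) -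
        (l 0 0 * w0 + l 0 1 * w1 + l 0 2 * w2) * w1 * y2 + (l 0 0 * w0 + l 0 1 * w1 + l 0 2 * w2) * y1 * w2 +
        y0 * w1 * (l 2 0 * w0 + l 2 1 * w1 + l 2 2 * w2) - y0 * (l 1 0 * w0 + l 1 1 * w1 + l 1 2 * w2) * w2 = 0 := by
    intro w0 w1 w2 y0 y1 y2
    have h1 := hcon ![w0, w1, w2] ![y0, y1, y2]
    rw [Matrix.det_fin_three] at h1
    simp only [Matrix.mulVec, dotProduct, Fin.sum_univ_three, _root_.Nat.succ_eq_add_one, _root_.Nat.reduceAdd, _root_.Fin.isValue, _root_.Matrix.cons_val_zero, _root_.Matrix.cons_val_one, _root_.Matrix.cons_val, _root_.Matrix.of_apply] at h1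
    linear_combination h1
  have h10 : l 1 0 = 0 := by have := key 1 0 0 0 0 1; linear_combination this
  have h20 : l 2 0 = 0 := by have := key 1 0 0 0 1 0; linear_combination -this
  have h01 : l 0 1 = 0 := by have := key 0 1 0 0 0 1; linear_combination -this
  have h21 : l 2 1 = 0 := by have := key 0 1 0 1 0 0; linear_combination this
  have h02 : l 0 2 = 0 := by have := key 0 0 1 0 1 0; linear_combination this
  have h12 : l 1 2 = 0 := by have := key 0 0 1 1 0 0; linear_combination -this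
  have h11 : l 1 1 = l 0 0 := by
    have := key 1 1 0 0 0 1
    linear_combination this - h10 + h01
  have h22 : l 2 2 = l 0 0 := by
    have := key 1 0 1 0 1 0
    linear_combination -this + h02 - h20
  ext i j
  (revert i j; simp only [h10, h20, h01, h21, h02, h12, h11, h22, _root_.Fin.forall_fin_succ, Fin.isValue, _root_.Matrix.smul_apply, _root_.smul_eq_mul, _root_.Fin.succ_zero_eq_one, _root_.Fin.succ_one_eq_two, _root_.IsEmpty.forall_iff, _root_.and_true, _root_.Matrix.one_apply_eq, _root_.mul_one, Nat.reduceAdd, _root_.ne_eq, _root_.zero_ne_one, _root_.not_false_eq_true, _root_.Matrix.one_apply_ne, _root_.MulZeroClass.mul_zero, Fin.reduceEq, _root_.and_self, _root_.Fin.succ_ne_zero])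

theorem ff_nonscalar {s r : F} (hg : Good s r) (hirr : ∀ x, (cu s r).eval x ≠ 0) {l : Matrix (Fin 3) (Fin 3) F}
    (hd : l.det = 1) (hns : ∀ a : F, l ≠ a • (1 : Matrix (Fin 3) (Fin 3) F)) : FF s r l := by
  obtain ⟨w, y, hR⟩ := exists_basis hns
  set R : Matrix (Fin 3) (Fin 3) F := Matrix.of fun i j => ![w i, (l *ᵥ w) i, y i] j with hRdef
  have hu : IsUnit R.det := isUnit_iff_ne_zero.2 hR
  have h1 : R * R⁻¹ = 1 := Matrix.mul_nonsing_inv _ hu
  have h2 : R⁻¹ * R = 1 := Matrix.nonsing_inv_mul _ hu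
  obtain ⟨N, hN⟩ : ∃ N, N = R⁻¹ * (l * R) := ⟨_, rfl⟩
  have hlR : l * R = R * N := by rw [hN, ← mul_assoc, h1, one_mul]
  have hcol : ∀ i, N i 0 = (1 : Matrix (Fin 3) (Fin 3) F) i 1 := by
    intro i
    rw [hN, ← h2, Matrix.mul_apply, Matrix.mul_apply]
    refine Finset.sum_congr rfl fun j _ => ?_
    congr 1
  have hNd : N.det = 1 := by
    have h3 := congrArg Matrix.det hlR
    rw [Matrix.det_mul, Matrix.det_mul, hd, one_mul] at h3
    exact (mul_left_cancel₀ hR (by rw [mul_one]; exact h3)).symm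
  have hNe : N = !![0, N 0 1, N 0 2; 1, N 1 1, N 1 2; 0, N 2 1, N 2 2] := by
    have h00 : N 0 0 = 0 := by rw [hcol]; simp
    have h10 : N 1 0 = 1 := by rw [hcol]; simp
    have h20 : N 2 0 = 0 := by rw [hcol]; simp
    ext i j
    (revert i j; simp only [h00, h10, h20, _root_.Fin.forall_fin_succ, Fin.isValue, _root_.Matrix.of_apply, _root_.Matrix.cons_val', _root_.Matrix.cons_val_fin_one, _root_.Matrix.cons_val_zero, _root_.Matrix.cons_val_succ, _root_.Fin.succ_zero_eq_one, _root_.Fin.succ_one_eq_two, _root_.IsEmpty.forall_iff, _root_.and_true, _root_.and_self])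
  refine FF.conj ?_ hR hlR
  rcases dich_aux (N 0 1) (N 1 1) (N 2 1) (N 0 2) (N 1 2) (N 2 2) with ⟨v, hv⟩ | ⟨hc, hgk, δ, ha, hb⟩
  · rw [← hNe] at hv
    have hcp : N.charpoly = cu (N 0 0 + N 1 1 + N 2 2)
        (N 0 0 * N 1 1 - N 0 1 * N 1 0 + (N 0 0 * N 2 2 - N 0 2 * N 2 0) + (N 1 1 * N 2 2 - N 1 2 * N 2 1)) :=
      charpoly_of hNd rfl rfl
    exact ff_cyc hg (cyc_of_vec hcp hv)
  · refine ff_rank_one hirr (k := N 2 2) (δ := δ) (h := N 1 2) ?_ hNd
    refine hNe.trans ?_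
    ext i j
    (revert i j; simp [← ha, ← hb, ← hgk, hc, _root_.Fin.forall_fin_succ])

/-- **Products of two conjugates in `SL₃(F)`.** -/
theorem sl_three [Finite F] {s r : F} (hg : Good s r) {c : Matrix.SpecialLinearGroup (Fin 3) F}
    (hc : (c : Matrix (Fin 3) (Fin 3) F).charpoly = cu s r) (hirr : Irreducible (cu s r))
    (l : Matrix.SpecialLinearGroup (Fin 3) F)
    (hns : ∀ a : F, (l : Matrix (Fin 3) (Fin 3) F) ≠ a • (1 : Matrix (Fin 3) (Fin 3) F)) :
    ∃ a b : Matrix.SpecialLinearGroup (Fin 3) F, l = (a * c * a⁻¹) * (b * c * b⁻¹) := by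
  have hroot : ∀ x, (cu s r).eval x ≠ 0 := by
    intro x hx
    have h1 := Polynomial.degree_eq_one_of_irreducible_of_root hirr hx
    have h2 : (cu s r).degree = 3 := by
      rw [← hc, Matrix.charpoly_degree_eq_dim]
      rfl
    rw [h2] at h1
    exact absurd h1 (by norm_num)
  obtain ⟨X', Y', hX, hY, e, hXc, hYc⟩ := ff_nonscalar hg hroot l.2 hns
  have hcc : Cfsg.Agent.H150.MF.Cls (c : Matrix (Fin 3) (Fin 3) F) :=
    Cfsg.Agent.H150.MF.cls_of_irreducible (by rw [hc]; exact hirr)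
  obtain ⟨a, ha⟩ := Cfsg.Agent.H150.MF.exists_conj (c := c) (d := ⟨X', hX⟩) hcc
    (Cfsg.Agent.H150.MF.cls_of_irreducible (by show Irreducible X'.charpoly; rw [hXc]; exact hirr))
    (by show _ = X'.charpoly; rw [hc, hXc])
  obtain ⟨b, hb⟩ := Cfsg.Agent.H150.MF.exists_conj (c := c) (d := ⟨Y', hY⟩) hcc
    (Cfsg.Agent.H150.MF.cls_of_irreducible (by show Irreducible Y'.charpoly; rw [hYc]; exact hirr))
    (by show _ = Y'.charpoly; rw [hc, hYc])
  refine ⟨a, b, ?_⟩
  rw [← ha, ← hb]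
  exact Subtype.ext e

end Cfsg.Agent.H538.TC
end

private theorem dce_fcb6f14702f0 : _root_.True := by
  try have : _root_.True := by simp only [_root_.Cfsg.Agent.H538.TC.Kry.eq_1]
  try have : _root_.True := by simp only [_root_.Cfsg.Agent.H538.TC.Ym.eq_1]
  try have : _root_.True := by simp only [_root_.Cfsg.Agent.H538.TC.Xm.eq_1]
  try have : _root_.True := by simp only [_root_.Cfsg.Agent.H538.TC.Co.eq_1]
  exact _root_.True.intro
end

-- part: H538/TC/SLThreeC
section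
prune_inst 0x354065447c62020800000594532020246c00010000200c00aca10b060309410280c209400f801501502e200018000028111000c0024000000e200400000201208080140430000208ae009f000080000000000000300000000000000000010004000000000
set_option linter.all false
open scoped Cfsg.Agent.FastGrp

/-!
Classes of `SL₃(F)` of order prime to 6 whose square contains every non-scalar element (S2464).

* `class_of_pol` : `|F| ≥ 5`, any irreducible cubic of determinant 1, of given order `s`;
* `exists_class` : `|F| ≥ 5`, order `(q² + q + 1) / (3, q² + q + 1)`;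
* `exists_class_three`, `exists_class_four` : `|F| = 3`, order 13, `|F| = 4`, order 7;
* `exists_class_all` : all `|F| ≥ 3`.
-/

set_option autoImplicit false

namespace Cfsg.Agent.H538.TC

open Matrix Polynomial
open Cfsg.Agent.H126.M3 (cu charpoly_three)
open Cfsg.Agent.H126.PwO (Pol exists_pol)

variable {F : Type*} [Field F]

/-- every non-scalar element is a product of two conjugates of `c` -/
def Sq (c : Matrix.SpecialLinearGroup (Fin 3) F) : Prop :=
  ∀ l : Matrix.SpecialLinearGroup (Fin 3) F,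
    (∀ a : F, (l : Matrix (Fin 3) (Fin 3) F) ≠ a • (1 : Matrix (Fin 3) (Fin 3) F)) →
    ∃ a b : Matrix.SpecialLinearGroup (Fin 3) F, l = (a * c * a⁻¹) * (b * c * b⁻¹)

theorem eq_cu {f : F[X]} (hm : f.Monic) (hd : f.natDegree = 3) (h0 : f.coeff 0 = -1) :
    f = cu (-f.coeff 2) (f.coeff 1) := by
  have h3 : f.coeff 3 = 1 := by
    have := hm.coeff_natDegree
    rwa [hd] at this
  rw [cu]
  refine (Polynomial.as_sum_range' f 4 (by rw [hd]; norm_num)).trans ?_
  rw [Finset.sum_range_succ, Finset.sum_range_succ, Finset.sum_range_succ, Finset.sum_range_one, h0, h3]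
  simp only [← C_mul_X_pow_eq_monomial, map_neg, map_one, pow_zero, pow_one, mul_one, one_mul]
  ring

/-- the companion matrix -/
def CoS (s r : F) : Matrix.SpecialLinearGroup (Fin 3) F :=
  ⟨Co s r, by rw [Co, Matrix.det_fin_three]; simp⟩

theorem CoS_charpoly (s r : F) : (CoS s r : Matrix (Fin 3) (Fin 3) F).charpoly = cu s r := by
  refine charpoly_of (CoS s r).2 ?_ ?_
  · simp only [CoS, Co, _root_.Fin.isValue, _root_.Matrix.of_apply, _root_.Matrix.cons_val', _root_.Matrix.cons_val_zero, _root_.Matrix.cons_val_fin_one, _root_.Matrix.cons_val_one, _root_.add_zero, _root_.Matrix.cons_val, _root_.zero_add]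
  · simp only [CoS, Co, _root_.Fin.isValue, _root_.Matrix.of_apply, _root_.Matrix.cons_val', _root_.Matrix.cons_val_zero, _root_.Matrix.cons_val_fin_one, _root_.Matrix.cons_val_one, _root_.MulZeroClass.mul_zero, _root_.mul_one, _root_.sub_self, _root_.Matrix.cons_val, _root_.MulZeroClass.zero_mul, _root_.add_zero, _root_.sub_neg_eq_add, _root_.zero_add]

theorem pow_eq_one_iff_dvd {c : Matrix.SpecialLinearGroup (Fin 3) F} (hc : Irreducible (c : Matrix (Fin 3) (Fin 3) F).charpoly)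
    (k : ℕ) : c ^ k = 1 ↔ (c : Matrix (Fin 3) (Fin 3) F).charpoly ∣ X ^ k - 1 := by
  have hmin : minpoly F (c : Matrix (Fin 3) (Fin 3) F) = (c : Matrix (Fin 3) (Fin 3) F).charpoly := by
    have hint : IsIntegral F (c : Matrix (Fin 3) (Fin 3) F) := Algebra.IsIntegral.isIntegral _
    obtain ⟨g, hg⟩ := Matrix.minpoly_dvd_charpoly (c : Matrix (Fin 3) (Fin 3) F)
    rcases hc.isUnit_or_isUnit hg with h | h
    · exact absurd h (minpoly.not_isUnit F _)
    · exact (Polynomial.eq_of_monic_of_associated (minpoly.monic hint) (Matrix.charpoly_monic _)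
        ⟨h.unit, hg.symm⟩)
  rw [← hmin, minpoly.dvd_iff, map_sub, map_pow, aeval_X, map_one, sub_eq_zero]
  constructor
  · intro h
    have := congrArg Subtype.val h
    rwa [Matrix.SpecialLinearGroup.coe_pow] at this
  · intro h
    apply Subtype.ext
    rw [Matrix.SpecialLinearGroup.coe_pow, h]
    rfl

/-- **A class of given order.** -/
theorem class_of_pol [Finite F] (hF : 5 ≤ Nat.card F) {s : ℕ} {f : F[X]} (hf : Pol F 3 s f) (h0 : f.coeff 0 = -1) :
    ∃ c : Matrix.SpecialLinearGroup (Fin 3) F, (c : Matrix (Fin 3) (Fin 3) F).charpoly = f ∧ orderOf c = s ∧ Sq c := by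
  have : Fintype F := Fintype.ofFinite F
  have e := eq_cu hf.monic hf.deg h0
  have hc : (CoS (-f.coeff 2) (f.coeff 1) : Matrix (Fin 3) (Fin 3) F).charpoly = f := (CoS_charpoly _ _).trans e.symm
  have hirr : Irreducible (CoS (-f.coeff 2) (f.coeff 1) : Matrix (Fin 3) (Fin 3) F).charpoly := by
    rw [hc]; exact hf.irr
  obtain ⟨z, hz, h1, h2, h3⟩ := exists_z (F := F) (by rwa [← Nat.card_eq_fintype_card])
  refine ⟨CoS (-f.coeff 2) (f.coeff 1), hc, ?_, fun l hl => sl_three (good_of hz h1 h2 h3 _ _) (CoS_charpoly _ _)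
    (by rw [← e]; exact hf.irr) l hl⟩
  have key : ∀ k, (CoS (-f.coeff 2) (f.coeff 1)) ^ k = 1 ↔ s ∣ k := by
    intro k
    rw [pow_eq_one_iff_dvd hirr, hc, hf.dvd]
  apply Nat.dvd_antisymm
  · exact orderOf_dvd_of_pow_eq_one ((key s).2 dvd_rfl)
  · exact (key _).1 (pow_orderOf_eq_one _)

theorem arith3 {q s : ℕ} (hq : 2 ≤ q) (hs : s ∣ q ^ 2 + q + 1) (h6 : s.Coprime 6) (h1 : s ≠ 1) :
    s ∣ q ^ 3 - 1 ∧ (∀ k, 0 < k → k < 3 → ¬ s ∣ q ^ k - 1) ∧ s ∣ (q ^ 3 - 1) / (q - 1) := by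
  obtain ⟨r, rfl⟩ : ∃ r, q = r + 1 := ⟨q - 1, by omega⟩
  have e3 : (r + 1) ^ 3 - 1 = r * ((r + 1) ^ 2 + (r + 1) + 1) := by
    have : (r + 1) ^ 3 = r * ((r + 1) ^ 2 + (r + 1) + 1) + 1 := by ring
    omega
  have h3 : ¬ s ∣ 3 := by
    intro h
    have h2 : s ∣ Nat.gcd s 6 := Nat.dvd_gcd dvd_rfl (h.trans (by norm_num))
    rw [h6] at h2
    exact h1 (Nat.dvd_one.1 h2)
  refine ⟨?_, ?_, ?_⟩
  · rw [e3]; exact hs.mul_left _
  · intro k hk hk' h
    have hkk : k = 1 ∨ k = 2 := by omega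
    rcases hkk with rfl | rfl
    · rw [pow_one, Nat.add_sub_cancel] at h
      apply h3
      have h4 : (r + 1) ^ 2 + (r + 1) + 1 = r * (r + 3) + 3 := by ring
      rw [h4] at hs
      exact (Nat.dvd_add_right (h.mul_right _)).1 hs
    · apply h3
      have e2 : (r + 1) ^ 2 - 1 = r * (r + 2) := by
        have : (r + 1) ^ 2 = r * (r + 2) + 1 := by ring
        omega
      rw [e2] at h
      have h4 : (r + 1) ^ 2 + (r + 1) + 1 = r * (r + 2) + (r + 3) := by ring
      rw [h4] at hs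
      have h5 : s ∣ r + 3 := (Nat.dvd_add_right h).1 hs
      have h6' : s ∣ r * (r + 3) := h5.mul_left _
      have h7 : r * (r + 3) = r * (r + 2) + r := by ring
      rw [h7] at h6'
      have h8 : s ∣ r := (Nat.dvd_add_right h).1 h6'
      exact (Nat.dvd_add_right h8).1 h5
  · rw [e3, Nat.add_sub_cancel, Nat.mul_div_cancel_left _ (by omega)]
    exact hs

/-- **A class of order `s`, for every `s ∣ q² + q + 1` prime to 6.** -/
theorem exists_class [Finite F] (hF : 5 ≤ Nat.card F) {s : ℕ} (hs : s ∣ Nat.card F ^ 2 + Nat.card F + 1)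
    (h6 : s.Coprime 6) (h1 : s ≠ 1) :
    ∃ c : Matrix.SpecialLinearGroup (Fin 3) F, Irreducible (c : Matrix (Fin 3) (Fin 3) F).charpoly ∧ orderOf c = s ∧
      Sq c := by
  obtain ⟨a1, a2, a3⟩ := arith3 (by omega) hs h6 h1
  obtain ⟨f, hf⟩ := exists_pol F (by norm_num) a1 a2
  have h0 : f.coeff 0 = -1 := by
    have := (hf.coef 1).2 (by rw [mul_one]; exact a3)
    rw [pow_one] at this
    linear_combination -this
  obtain ⟨c, hc, ho, h⟩ := class_of_pol hF hf h0
  exact ⟨c, by rw [hc]; exact hf.irr, ho, h⟩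

/-- the number `s` -/
theorem exists_s {q : ℕ} (hq : 2 ≤ q) : ∃ s, s ∣ q ^ 2 + q + 1 ∧ s.Coprime 6 ∧ s ≠ 1 := by
  have h2 : ¬ 2 ∣ q ^ 2 + q + 1 := by
    rw [← even_iff_two_dvd]
    have h3 : q ^ 2 + q + 1 = q * (q + 1) + 1 := by ring
    rw [h3]
    exact Nat.not_even_iff_odd.2 ((Nat.even_mul_succ_self q).add_one)
  by_cases h3 : 3 ∣ q ^ 2 + q + 1
  · obtain ⟨t, ht⟩ := h3
    have h9 : ¬ 3 ∣ t := by
      rintro ⟨w, rfl⟩
      have h5 : (q ^ 2 + q + 1) % 9 = 0 := by rw [ht]; (clear * -; omega)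
      have h4 : q % 9 = 0 ∨ q % 9 = 1 ∨ q % 9 = 2 ∨ q % 9 = 3 ∨ q % 9 = 4 ∨ q % 9 = 5 ∨ q % 9 = 6 ∨ q % 9 = 7 ∨
        q % 9 = 8 := by (clear * -; omega)
      rcases h4 with h | h | h | h | h | h | h | h | h <;> simp [Nat.add_mod, Nat.pow_mod, h] at h5
    refine ⟨t, ⟨3, by rw [ht, mul_comm]⟩, ?_, ?_⟩
    · have : (6 : ℕ) = 2 * 3 := rfl
      rw [this]
      refine Nat.Coprime.mul_right ?_ ?_
      · exact ((Nat.Prime.coprime_iff_not_dvd Nat.prime_two).2 fun h => h2 (by rw [ht]; exact h.mul_left _)).symm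
      · exact ((Nat.Prime.coprime_iff_not_dvd Nat.prime_three).2 h9).symm
    · rintro rfl
      have : 7 ≤ q ^ 2 + q + 1 := by nlinarith
      omega
  · refine ⟨q ^ 2 + q + 1, dvd_rfl, ?_, ?_⟩
    · have : (6 : ℕ) = 2 * 3 := rfl
      rw [this]
      exact Nat.Coprime.mul_right ((Nat.Prime.coprime_iff_not_dvd Nat.prime_two).2 h2).symm
        ((Nat.Prime.coprime_iff_not_dvd Nat.prime_three).2 h3).symm
    · have : 7 ≤ q ^ 2 + q + 1 := by nlinarith
      omega

theorem irr_cu {s r : F} (h : ∀ x, (cu s r).eval x ≠ 0) : Irreducible (cu s r) := by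
  have hc := CoS_charpoly s r
  have hm : (cu s r).Monic := by rw [← hc]; exact Matrix.charpoly_monic _
  have hd : (cu s r).natDegree = 3 := by rw [← hc, Matrix.charpoly_natDegree_eq_dim]; rfl
  rw [Polynomial.Monic.irreducible_iff_roots_eq_zero_of_degree_le_three hm (by rw [hd]; norm_num) (by rw [hd])]
  refine Multiset.eq_zero_of_forall_notMem fun x hx => h x ?_
  exact (mem_roots'.1 hx).2

theorem ne_one_of_irr {c : Matrix.SpecialLinearGroup (Fin 3) F}
    (hc : Irreducible (c : Matrix (Fin 3) (Fin 3) F).charpoly) : c ≠ 1 := by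
  intro h
  have h1 := (pow_eq_one_iff_dvd hc 1).1 (by rw [h, one_pow])
  have h2 : (X ^ 1 - 1 : F[X]) ≠ 0 := by
    intro h0
    have := congrArg (fun p : F[X] => p.eval 0) h0
    simp at this
  have h3 := natDegree_le_of_dvd h1 h2
  rw [Matrix.charpoly_natDegree_eq_dim, Fintype.card_fin] at h3
  have h4 : (X ^ 1 - 1 : F[X]).natDegree ≤ 1 := by compute_degree
  omega

/-- **`|F| = 3`.** -/
theorem exists_class_three [Finite F] (hF : Nat.card F = 3) :
    ∃ c : Matrix.SpecialLinearGroup (Fin 3) F, (c : Matrix (Fin 3) (Fin 3) F).charpoly = cu 1 (-1) ∧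
      Irreducible (c : Matrix (Fin 3) (Fin 3) F).charpoly ∧ orderOf c = 13 ∧ Sq c := by
  classical
  have : Fintype F := Fintype.ofFinite F
  have hF' : Fintype.card F = 3 := by rw [← Nat.card_eq_fintype_card, hF]
  have h3 : (3 : F) = 0 := by
    have := Nat.cast_card_eq_zero F
    rw [hF'] at this
    exact_mod_cast this
  have h2 : (2 : F) ≠ 0 := fun h => one_ne_zero (α := F) (by linear_combination h3 - h)
  have hne : (1 : F) ≠ -1 := fun h => h2 (by linear_combination h)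
  have hall : ∀ t : F, t = 0 ∨ t = 1 ∨ t = -1 := by
    have h4 : ({0, 1, -1} : Finset F) = Finset.univ := by
      rw [← Finset.card_eq_iff_eq_univ, hF']
      rw [Finset.card_insert_of_notMem, Finset.card_pair hne]
      simp
    intro t
    have := Finset.mem_univ t
    rw [← h4] at this
    simpa only [_root_.Finset.mem_insert, _root_.Finset.mem_singleton] using this
  have hirr : Irreducible (cu (1 : F) (-1)) := by
    refine irr_cu fun x hx => ?_
    simp only [cu, eval_sub, eval_add, eval_mul, eval_pow, eval_X, eval_C] at hx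
    rcases hall x with rfl | rfl | rfl
    · exact one_ne_zero (α := F) (by linear_combination -hx)
    · exact h2 (by linear_combination -hx)
    · exact h2 (by linear_combination -hx)
  have hc := CoS_charpoly (1 : F) (-1)
  have hirr' : Irreducible (CoS (1 : F) (-1) : Matrix (Fin 3) (Fin 3) F).charpoly := by rw [hc]; exact hirr
  refine ⟨CoS 1 (-1), hc, hirr', ?_, fun l hl => sl_three (good_three hF') hc hirr l hl⟩
  have : Fact (Nat.Prime 13) := ⟨by norm_num⟩
  refine orderOf_eq_prime ?_ (ne_one_of_irr hirr')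
  rw [pow_eq_one_iff_dvd hirr', hc]
  have h3' : (3 : F[X]) = 0 := by
    have : (3 : F[X]) = C 3 := (map_ofNat C 3).symm
    rw [this, h3, C_0]
  refine ⟨1 - X - X ^ 3 + X ^ 5 + X ^ 6 + X ^ 7 - X ^ 8 + X ^ 9 + X ^ 10, ?_⟩
  rw [cu]
  simp only [map_neg, map_one]
  linear_combination (-(X ^ 3 - X ^ 6 - X ^ 7 - X ^ 11)) * h3'

/-- **`|F| = 4`.** -/
theorem exists_class_four [Finite F] (hF : Nat.card F = 4) :
    ∃ c : Matrix.SpecialLinearGroup (Fin 3) F, (c : Matrix (Fin 3) (Fin 3) F).charpoly = cu 0 1 ∧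
      Irreducible (c : Matrix (Fin 3) (Fin 3) F).charpoly ∧ orderOf c = 7 ∧ Sq c := by
  classical
  have : Fintype F := Fintype.ofFinite F
  have hF' : Fintype.card F = 4 := by rw [← Nat.card_eq_fintype_card, hF]
  have h2 : (2 : F) = 0 := by
    have h4 := Nat.cast_card_eq_zero F
    rw [hF'] at h4
    have h5 : (2 : F) * 2 = 0 := by
      have h6 : ((4 : ℕ) : F) = 4 := by norm_num
      rw [h6] at h4
      linear_combination h4
    exact (mul_self_eq_zero.1 h5)
  have hirr : Irreducible (cu (0 : F) 1) := by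
    refine irr_cu fun x hx => ?_
    simp only [cu, eval_sub, eval_add, eval_mul, eval_pow, eval_X, eval_C] at hx
    have hx0 : x ≠ 0 := by
      rintro rfl
      exact one_ne_zero (α := F) (by linear_combination -hx)
    have h3 : x ^ 3 = 1 := by
      have := FiniteField.pow_card_sub_one_eq_one x hx0
      rwa [hF'] at this
    exact hx0 (by linear_combination hx - h3)
  have hc := CoS_charpoly (0 : F) 1
  have hirr' : Irreducible (CoS (0 : F) 1 : Matrix (Fin 3) (Fin 3) F).charpoly := by rw [hc]; exact hirr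
  refine ⟨CoS 0 1, hc, hirr', ?_, fun l hl => sl_three (good_four hF') hc hirr l hl⟩
  have : Fact (Nat.Prime 7) := ⟨by norm_num⟩
  refine orderOf_eq_prime ?_ (ne_one_of_irr hirr')
  rw [pow_eq_one_iff_dvd hirr', hc]
  have h2' : (2 : F[X]) = 0 := by
    have : (2 : F[X]) = C 2 := (map_ofNat C 2).symm
    rw [this, h2, C_0]
  refine ⟨X ^ 4 + X ^ 2 + X + 1, ?_⟩
  rw [cu]
  simp only [map_zero, map_one]
  linear_combination (-(X ^ 5 + X ^ 3)) * h2'

/-- **All `|F| ≥ 3`.** -/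
theorem exists_class_all [Finite F] (hF : 3 ≤ Nat.card F) :
    ∃ c : Matrix.SpecialLinearGroup (Fin 3) F, Irreducible (c : Matrix (Fin 3) (Fin 3) F).charpoly ∧
      (orderOf c).Coprime 6 ∧ orderOf c ∣ Nat.card F ^ 2 + Nat.card F + 1 ∧ Sq c := by
  by_cases h3 : Nat.card F = 3
  · obtain ⟨c, -, h1, h2, h⟩ := exists_class_three h3
    exact ⟨c, h1, by rw [h2]; norm_num, by rw [h2, h3]; norm_num, h⟩
  by_cases h4 : Nat.card F = 4
  · obtain ⟨c, -, h1, h2, h⟩ := exists_class_four h4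
    exact ⟨c, h1, by rw [h2]; norm_num, by rw [h2, h4]; norm_num, h⟩
  obtain ⟨s, hs, h6, h1⟩ := exists_s (q := Nat.card F) (by omega)
  obtain ⟨c, hc, ho, h⟩ := exists_class (by omega) hs h6 h1
  exact ⟨c, hc, by rw [ho]; exact h6, by rw [ho]; exact hs, h⟩

end Cfsg.Agent.H538.TC

private theorem dce_024bfc2d9ad0 : _root_.True := by
  try have : _root_.True := by simp only [_root_.Cfsg.Agent.H538.TC.CoS.eq_1]
  exact _root_.True.intro
end

-- part: H797/FQ/OC3
section
prune_inst 0x156065444c6202080000858631201c26ac0005b200680c002c61034403484b62808229600d201113522aaa0100010028111000d0424000000e2004000001012080885606b348a10ca6009f800080000000000000300000000000000000010004000000000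
set_option linter.all false
open scoped Cfsg.Agent.FastGrp

/-!
# Orbits of the parabolic subgroup of type `C₃` of `F₄(q)` on its unipotent radical (S2464)

`K` a finite field with `2 ≠ 0`, `V = VJ J` (`J = {0, 1, 2}`, order `q ^ 15`), `θ = vec chevF4 4 47`.

* `R u c` : `u = ∏ x_s(c s) * x_θ(b)`, `s` in the list `L14` of the 14 roots of level one;
* `oc3` : `u ∈ V`, `u ∉ X_θ`: the class of `u` under `P_J` has at least `q ^ 7` elements.
-/

set_option autoImplicit false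
set_option linter.unusedSectionVars false

namespace Cfsg.Agent.H797.FQ

open CoxeterSystem Cfsg.Agent.ChevalleyStructure.CoxeterGeom Cfsg.Agent.Tits.Roots Cfsg.Agent.Tits.Core
  Cfsg.Agent.Tits.Exchange Cfsg.Agent.Nodes.Reps Cfsg.Agent.Nodes.BNOf Cfsg.Agent.Nodes.StabComb
  Cfsg.Agent.Nodes.Bruhat Cfsg.Agent.Nodes.OppDec Cfsg.Agent.Nodes.LeviDec
  Cfsg.Agent.Nodes.RGDChev Cfsg.Agent.KFacts.RgdPar Cfsg.Agent.KFacts.RgdChevCoord
  Cfsg.Agent.H225.PPow Cfsg.Agent.H701.F43.Cent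
open Cfsg.Lie Cfsg.Agent.ChevalleyStructure Cfsg.Agent.ChevalleyStructure.CoxeterGeomTypes

universe u

variable {K : Type u} [Field K]

/-- root elements -/
noncomputable abbrev e (r : ℕ) (t : K) : ↥(chevF4.group K) := ex hF r t

/-- the 14 roots of level one -/
def L14 : List ℕ := [24, 26, 29, 31, 32, 36, 38, 39, 40, 42, 43, 44, 45, 46]

/-- products -/
noncomputable def E (L : List ℕ) (c : ℕ → K) : ↥(chevF4.group K) := (L.map fun s => e s (c s)).prod

/-- the coordinates of an element of `V` -/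
def R (u : ↥(chevF4.group K)) (c : ℕ → K) : Prop := ∃ b : K, u = E L14 c * e 47 b

theorem E_nil (c : ℕ → K) : E [] c = 1 := rfl

theorem E_cons (s : ℕ) (L : List ℕ) (c : ℕ → K) : E (s :: L) c = e s (c s) * E L c := by
  unfold E
  rw [List.map_cons, List.prod_cons]

theorem L14_sub : ∀ s ∈ L14, s ∈ idxV := by decide

theorem L14_ne : ∀ s ∈ L14, s ≠ 47 := by decide

theorem L14_nodup : L14.Nodup := by decide

theorem tab47 : ∀ s ∈ idxV ++ idxM, s ≠ 47 → s ≠ chevF4.neg 47 → chevF4.commTerms 47 s = [] := by (rewrite [Cfsg.Agent.ChevFast.F4.commTerms, Cfsg.Agent.ChevFast.F4.neg]; decide +kernel)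

theorem ne_neg47 : ∀ s ∈ idxV ++ idxM, s ≠ chevF4.neg 47 := by decide +kernel

theorem comm47 {s : ℕ} (hs : s ∈ idxV ++ idxM) (a b : K) : e s a * e 47 b = e 47 b * e s a := by
  by_cases h : s = 47
  · subst h
    show ex hF 47 a * ex hF 47 b = ex hF 47 b * ex hF 47 a
    rw [← ex_add hF, ← ex_add hF, add_comm]
  · have hlt : s < chevF4.nroots := by
      rcases List.mem_append.1 hs with h1 | h1
      · exact lt_idxV s h1
      · exact lt_idxM s h1
    have h47 : (47 : ℕ) < chevF4.nroots := by rw [nroots]; norm_num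
    have h1 := ex_comm hF h47 hlt h (ne_neg47 s hs) b a
    rw [tab47 s hs h (ne_neg47 s hs), List.map_nil, List.prod_nil, mul_one] at h1
    exact h1

theorem prod47 (l : List (ℕ × ℤ × ℕ × ℕ)) (f : ℕ × ℤ × ℕ × ℕ → K) (h : ∀ c ∈ l, c.1 = 47) :
    ∃ b : K, ((l.map fun c => ex hF c.1 (f c))).prod = e 47 b := by
  induction l with
  | nil => exact ⟨0, by rw [List.map_nil, List.prod_nil]; exact (ex_zero hF 47).symm⟩
  | cons c l ih =>
    obtain ⟨b, hb⟩ := ih fun c hc => h c (List.mem_cons_of_mem _ hc)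
    refine ⟨f c + b, ?_⟩
    rw [List.map_cons, List.prod_cons, hb, h c List.mem_cons_self]
    exact (ex_add hF 47 _ _).symm

theorem tabLL : ∀ r ∈ L14, ∀ s ∈ L14, s ≠ r → s ≠ chevF4.neg r ∧ ∀ c ∈ chevF4.commTerms r s, c.1 = 47 := by
  (rewrite [Cfsg.Agent.ChevFast.F4.commTerms, Cfsg.Agent.ChevFast.F4.neg]; decide +kernel)

/-- commutators in `V` -/
theorem commLL {r s : ℕ} (hr : r ∈ L14) (hs : s ∈ L14) (x y : K) :
    ∃ b : K, e s x * e r y = e r y * e s x * e 47 b := by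
  by_cases h : s = r
  · subst h
    refine ⟨0, ?_⟩
    have h0 : (e 47 (0 : K)) = 1 := ex_zero hF 47
    rw [h0, mul_one]
    show ex hF s x * ex hF s y = ex hF s y * ex hF s x
    rw [← ex_add hF, ← ex_add hF, add_comm]
  · obtain ⟨h1, h2⟩ := tabLL r hr s hs h
    obtain ⟨b, hb⟩ := prod47 (chevF4.commTerms r s) (fun c => (c.2.1 : K) * (-y) ^ c.2.2.1 * x ^ c.2.2.2) h2
    refine ⟨b, ?_⟩
    rw [← hb]
    exact ex_comm hF (lt_idxV r (L14_sub r hr)) (lt_idxV s (L14_sub s hs)) h h1 y x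

theorem e47_add (a b : K) : e 47 a * e 47 b = e 47 (a + b) := (ex_add hF 47 a b).symm

theorem e47_comm_E {L : List ℕ} (hL : ∀ s ∈ L, s ∈ L14) (c : ℕ → K) (b : K) : E L c * e 47 b = e 47 b * E L c := by
  induction L with
  | nil => rw [E_nil, one_mul, mul_one]
  | cons s L ih =>
    have h1 := ih fun s hs => hL s (List.mem_cons_of_mem _ hs)
    have h2 := comm47 (List.mem_append_left _ (L14_sub s (hL s List.mem_cons_self))) (c s) b
    rw [E_cons, mul_assoc, h1, ← mul_assoc, h2, mul_assoc]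

theorem E_mul_e {L : List ℕ} (hL : ∀ s ∈ L, s ∈ L14) (c : ℕ → K) {r : ℕ} (hr : r ∈ L14) (y : K) :
    ∃ b : K, E L c * e r y = e r y * E L c * e 47 b := by
  induction L with
  | nil => exact ⟨0, by rw [E_nil, show e 47 (0 : K) = 1 from ex_zero hF 47]; group⟩
  | cons s L ih =>
    obtain ⟨b, hb⟩ := ih fun s hs => hL s (List.mem_cons_of_mem _ hs)
    obtain ⟨b', hb'⟩ := commLL hr (hL s List.mem_cons_self) (c s) y
    have h1 := e47_comm_E (fun s hs => hL s (List.mem_cons_of_mem _ hs)) c b'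
    refine ⟨b' + b, ?_⟩
    rw [E_cons, mul_assoc, hb, ← e47_add]
    calc e s (c s) * (e r y * E L c * e 47 b) = (e s (c s) * e r y) * E L c * e 47 b := by group
      _ = e r y * e s (c s) * (e 47 b' * E L c) * e 47 b := by rw [hb']; group
      _ = e r y * e s (c s) * (E L c * e 47 b') * e 47 b := by rw [h1]
      _ = _ := by group

theorem E_mul {L : List ℕ} (hL : ∀ s ∈ L, s ∈ L14) (c d : ℕ → K) :
    ∃ b : K, E L c * E L d = E L (c + d) * e 47 b := by
  induction L with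
  | nil => exact ⟨0, by rw [E_nil, E_nil, E_nil, show e 47 (0 : K) = 1 from ex_zero hF 47]⟩
  | cons s L ih =>
    have hL' : ∀ s ∈ L, s ∈ L14 := fun s hs => hL s (List.mem_cons_of_mem _ hs)
    obtain ⟨b, hb⟩ := ih hL'
    obtain ⟨b', hb'⟩ := E_mul_e hL' c (hL s List.mem_cons_self) (d s)
    have h1 := e47_comm_E hL' d b'
    refine ⟨b + b', ?_⟩
    rw [E_cons, E_cons, E_cons, ← e47_add]
    have h2 : e s ((c + d) s) = e s (c s) * e s (d s) := ex_add hF s (c s) (d s)
    calc e s (c s) * E L c * (e s (d s) * E L d) = e s (c s) * (E L c * e s (d s)) * E L d := by group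
      _ = e s (c s) * e s (d s) * E L c * (e 47 b' * E L d) := by rw [hb']; group
      _ = e s (c s) * e s (d s) * E L c * (E L d * e 47 b') := by rw [h1]
      _ = e s (c s) * e s (d s) * (E L c * E L d) * e 47 b' := by group
      _ = e s ((c + d) s) * E L (c + d) * (e 47 b * e 47 b') := by rw [hb, h2]; group

theorem R.mul {u v : ↥(chevF4.group K)} {c d : ℕ → K} (hu : R u c) (hv : R v d) : R (u * v) (c + d) := by
  obtain ⟨a, rfl⟩ := hu
  obtain ⟨b, rfl⟩ := hv
  obtain ⟨b', hb'⟩ := E_mul (fun s hs => hs) c d (L := L14)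
  have h1 := e47_comm_E (fun s hs => hs) d a (L := L14)
  refine ⟨b' + a + b, ?_⟩
  calc E L14 c * e 47 a * (E L14 d * e 47 b) = E L14 c * (e 47 a * E L14 d) * e 47 b := by group
    _ = E L14 c * E L14 d * e 47 a * e 47 b := by rw [← h1]; group
    _ = E L14 (c + d) * (e 47 b' * e 47 a * e 47 b) := by rw [hb']; group
    _ = _ := by rw [e47_add, e47_add]

theorem E_zero (L : List ℕ) : E L (0 : ℕ → K) = 1 := by
  induction L with
  | nil => rfl
  | cons s L ih => rw [E_cons, ih, mul_one]; exact ex_zero hF s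

theorem E_congr {L : List ℕ} {c d : ℕ → K} (h : ∀ s ∈ L, c s = d s) : E L c = E L d := by
  unfold E
  congr 1
  exact List.map_congr_left fun s hs => by rw [h s hs]

/-- unit vectors, `0` for `θ` -/
def sg (v : ℕ) (x : K) : ℕ → K := if v = 47 then 0 else Pi.single v x

theorem E_single {L : List ℕ} (hn : L.Nodup) {s : ℕ} (x : K) (hs : s ∈ L) : E L (Pi.single s x : ℕ → K) = e s x := by
  induction L with
  | nil => simp at hs
  | cons r L ih =>
    rw [List.nodup_cons] at hn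
    rw [E_cons]
    rcases List.mem_cons.1 hs with h | h
    · subst h
      rw [Pi.single_eq_same, E_congr (d := 0), E_zero, mul_one]
      intro r hr
      exact Pi.single_eq_of_ne (by rintro rfl; exact hn.1 hr) _
    · rw [ih hn.2 h, Pi.single_eq_of_ne (by rintro rfl; exact hn.1 h), show e r (0 : K) = 1 from ex_zero hF r, one_mul]

theorem R.one : R (1 : ↥(chevF4.group K)) 0 :=
  ⟨0, by rw [E_zero, show e 47 (0 : K) = 1 from ex_zero hF 47, mul_one]⟩

theorem idxV_cases : ∀ s ∈ idxV, s = 47 ∨ s ∈ L14 := by decide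

theorem R.sg {v : ℕ} (hv : v ∈ idxV) (x : K) : R (e v x) (sg v x) := by
  rcases idxV_cases v hv with h | h
  · subst h
    refine ⟨x, ?_⟩
    show e 47 x = E L14 (if (47 : ℕ) = 47 then 0 else Pi.single 47 x) * e 47 x
    rw [if_pos rfl, E_zero, one_mul]
  · refine ⟨0, ?_⟩
    show e v x = E L14 (if v = 47 then 0 else Pi.single v x) * e 47 0
    rw [if_neg (L14_ne v h), E_single L14_nodup x h, show e 47 (0 : K) = 1 from ex_zero hF 47, mul_one]

theorem R.prod {α : Type*} {l : List α} {f : α → ↥(chevF4.group K)} {g : α → ℕ → K} (h : ∀ a ∈ l, R (f a) (g a)) :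
    R (l.map f).prod (l.map g).sum := by
  induction l with
  | nil => exact R.one
  | cons a l ih =>
    rw [List.map_cons, List.prod_cons, List.map_cons, List.sum_cons]
    exact (h a List.mem_cons_self).mul (ih fun b hb => h b (List.mem_cons_of_mem _ hb))

theorem R.inv {u : ↥(chevF4.group K)} {c : ℕ → K} (hu : R u c) : R u⁻¹ (-c) := by
  obtain ⟨a, rfl⟩ := hu
  obtain ⟨b, hb⟩ := E_mul (fun s hs => hs) c (-c) (L := L14)
  rw [add_neg_cancel, E_zero, one_mul] at hb
  have h1 := e47_comm_E (fun s hs => hs) (-c) (-a + -b) (L := L14)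
  have h3 : ∀ x : K, e 47 (-x) = (e 47 x)⁻¹ := fun x => ex_neg hF 47 x
  refine ⟨-a + -b, ?_⟩
  rw [h1, ← e47_add, h3, h3]
  have h2 : (E L14 c)⁻¹ = E L14 (-c) * (e 47 b)⁻¹ := by
    rw [inv_eq_iff_mul_eq_one, ← mul_assoc, hb, mul_inv_cancel]
  have h4 := e47_comm_E (fun s hs => hs) (-c) (-b) (L := L14)
  rw [h3] at h4
  rw [mul_inv_rev, h2, h4, mul_assoc]

/-- the coordinates of the conjugate of a root element -/
noncomputable def img (g : ℕ) (t : K) (s : ℕ) (b : K) : ℕ → K :=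
  sg s b + ((chevF4.commTerms g s).map fun c => sg c.1 ((c.2.1 : K) * t ^ c.2.2.1 * b ^ c.2.2.2)).sum

theorem tabM : ∀ g ∈ idxM ++ idxV, ∀ s ∈ idxV, g ≠ s → s ≠ chevF4.neg g ∧ ∀ c ∈ chevF4.commTerms g s, c.1 ∈ idxV := by
  (rewrite [Cfsg.Agent.ChevFast.F4.commTerms, Cfsg.Agent.ChevFast.F4.neg]; decide +kernel)

theorem conj_e {g s : ℕ} (hg : g < chevF4.nroots) (hs : s < chevF4.nroots) (hgs : g ≠ s) (hn : s ≠ chevF4.neg g)
    (t b : K) : e g t * e s b * (e g t)⁻¹ =
      e s b * ((chevF4.commTerms g s).map fun c => e c.1 ((c.2.1 : K) * t ^ c.2.2.1 * b ^ c.2.2.2)).prod := by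
  have h1 := ex_comm hF hg hs (Ne.symm hgs) hn (-t) b
  simp only [neg_neg] at h1
  have h2 : (e g t)⁻¹ = e g (-t) := (ex_neg hF g t).symm
  rw [h2, mul_assoc]
  show ex hF g t * (ex hF s b * ex hF g (-t)) = _
  rw [h1, ← mul_assoc, ← mul_assoc]
  have h3 : ex hF g t * ex hF g (-t) = 1 := by rw [← ex_add hF, add_neg_cancel, ex_zero]
  rw [h3, one_mul]

theorem R.img {g s : ℕ} (hg : g ∈ idxM ++ idxV) (hs : s ∈ idxV) (hgs : g ≠ s) (t b : K) :
    R (e g t * e s b * (e g t)⁻¹) (img g t s b) := by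
  obtain ⟨h1, h2⟩ := tabM g hg s hs hgs
  have hlt : g < chevF4.nroots := by
    rcases List.mem_append.1 hg with h | h
    · exact lt_idxM g h
    · exact lt_idxV g h
  rw [conj_e hlt (lt_idxV s hs) hgs h1]
  exact (R.sg hs b).mul (R.prod fun c hc => R.sg (h2 c hc) _)

/-- the action on the coordinates -/
noncomputable def MM' (g : ℕ) (t : K) (c : ℕ → K) : ℕ → K := (L14.map fun s => img g t s (c s)).sum

theorem conj_E (x : ↥(chevF4.group K)) (L : List ℕ) (c : ℕ → K) :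
    x * E L c * x⁻¹ = (L.map fun s => x * e s (c s) * x⁻¹).prod := by
  induction L with
  | nil => rw [E_nil, List.map_nil, List.prod_nil, mul_one, mul_inv_cancel]
  | cons s L ih => rw [E_cons, List.map_cons, List.prod_cons, ← ih]; group

theorem idxM_ne : ∀ g ∈ idxM, ∀ s ∈ idxV, g ≠ s := by decide

theorem R.conj {u : ↥(chevF4.group K)} {c : ℕ → K} (hu : R u c) {g : ℕ} (hg : g ∈ idxM) (t : K) :
    R (e g t * u * (e g t)⁻¹) (MM' g t c) := by
  obtain ⟨b, rfl⟩ := hu
  have h1 : e g t * (E L14 c * e 47 b) * (e g t)⁻¹ = e g t * E L14 c * (e g t)⁻¹ * e 47 b := by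
    have h2 : e g t * e 47 b = e 47 b * e g t := comm47 (List.mem_append_right _ hg) t b
    have h3 : e 47 b * (e g t)⁻¹ = (e g t)⁻¹ * e 47 b := by
      rw [mul_inv_eq_iff_eq_mul, mul_assoc, ← h2, ← mul_assoc, inv_mul_cancel, one_mul]
    rw [← mul_assoc, mul_assoc _ (e 47 b) _, h3]
    group
  rw [h1, conj_E]
  have h4 := (R.prod (l := L14) (f := fun s => e g t * e s (c s) * (e g t)⁻¹) (g := fun s => FQ.img g t s (c s))
    fun s hs => R.img (List.mem_append_left _ hg) (L14_sub s hs) (idxM_ne g hg s (L14_sub s hs)) t (c s)).mul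
    (R.sg (v := 47) (by decide) b)
  have h5 : FQ.sg 47 b = (0 : ℕ → K) := if_pos rfl
  rw [h5, add_zero] at h4
  exact h4

/-- the contributions to the coordinate `m` -/
def ctr (g m : ℕ) : List (ℕ × ℤ × ℕ × ℕ) :=
  L14.flatMap fun s => ((chevF4.commTerms g s).filter fun c => c.1 = m).map fun c => (s, c.2.1, c.2.2.1, c.2.2.2)

theorem sum_apply {α : Type*} (l : List α) (f : α → ℕ → K) (m : ℕ) : (l.map f).sum m = (l.map fun a => f a m).sum := by
  induction l with
  | nil => rfl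
  | cons a l ih => rw [List.map_cons, List.sum_cons, List.map_cons, List.sum_cons, Pi.add_apply, ih]

theorem sg_apply {v m : ℕ} (hm : m ≠ 47) (x : K) : sg v x m = if v = m then x else 0 := by
  unfold sg
  by_cases h : v = 47
  · rw [if_pos h, if_neg (by rintro rfl; exact hm h)]
    rfl
  · rw [if_neg h]
    by_cases h1 : v = m
    · subst h1
      rw [Pi.single_eq_same, if_pos rfl]
    · rw [Pi.single_eq_of_ne (Ne.symm h1), if_neg h1]

theorem sum_filter (l : List (ℕ × ℤ × ℕ × ℕ)) (m : ℕ) (f : ℕ × ℤ × ℕ × ℕ → K) :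
    (l.map fun c => if c.1 = m then f c else 0).sum = ((l.filter fun c => c.1 = m).map f).sum := by
  induction l with
  | nil => rfl
  | cons a l ih =>
    rw [List.map_cons, List.sum_cons, ih]
    by_cases h : a.1 = m
    · rw [if_pos h, List.filter_cons_of_pos (by simpa using h), List.map_cons, List.sum_cons]
    · rw [if_neg h, List.filter_cons_of_neg (by simpa using h), zero_add]

theorem sum_delta {L : List ℕ} (hn : L.Nodup) {m : ℕ} (hm : m ∈ L) (c : ℕ → K) :
    (L.map fun s => if s = m then c s else 0).sum = c m := by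
  induction L with
  | nil => simp at hm
  | cons s L ih =>
    rw [List.nodup_cons] at hn
    rw [List.map_cons, List.sum_cons]
    rcases List.mem_cons.1 hm with h | h
    · subst h
      rw [if_pos rfl]
      have : (L.map fun s => if s = m then c s else 0).sum = 0 := by
        apply List.sum_eq_zero
        intro x hx
        rw [List.mem_map] at hx
        obtain ⟨a, ha, rfl⟩ := hx
        rw [if_neg]
        rintro rfl
        exact hn.1 ha
      rw [this, add_zero]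
    · rw [if_neg (by rintro rfl; exact hn.1 h), zero_add, ih hn.2 h]

theorem MM'_apply (g : ℕ) (t : K) (c : ℕ → K) {m : ℕ} (hm : m ∈ L14) :
    MM' g t c m = c m + ((ctr g m).map fun q => (q.2.1 : K) * t ^ q.2.2.1 * (c q.1) ^ q.2.2.2).sum := by
  have hm' := L14_ne m hm
  unfold MM'
  rw [sum_apply]
  have h1 : ∀ s, img g t s (c s) m = (if s = m then c s else 0) +
      (((chevF4.commTerms g s).filter fun c => c.1 = m).map fun q => (q.2.1 : K) * t ^ q.2.2.1 * (c s) ^ q.2.2.2).sum := by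
    intro s
    unfold img
    rw [Pi.add_apply, sg_apply hm', sum_apply, ← sum_filter]
    congr 2
    exact List.map_congr_left fun q _ => sg_apply hm' _
  rw [List.map_congr_left fun s _ => h1 s, List.sum_map_add, sum_delta L14_nodup hm]
  congr 1
  unfold ctr
  rw [List.map_flatMap]
  clear h1
  induction L14 with
  | nil => rfl
  | cons s L ih =>
    rw [List.map_cons, List.sum_cons, ih, List.flatMap_cons, List.sum_append, List.map_map]
    rfl

/-! ### the group `V` -/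

/-- the elements with coordinates -/
noncomputable def RS (K : Type u) [Field K] : Subgroup ↥(chevF4.group K) where
  carrier := {u | ∃ c, R u c}
  mul_mem' := by rintro u v ⟨c, hc⟩ ⟨d, hd⟩; exact ⟨_, hc.mul hd⟩
  one_mem' := ⟨0, R.one⟩
  inv_mem' := by rintro u ⟨c, hc⟩; exact ⟨_, hc.inv⟩

/-- every element of `V` has coordinates -/
theorem exists_R {u : ↥(chevF4.group K)} (hu : u ∈ VV K) : ∃ c, R u c := by
  have h : VV K ≤ RS K := RGD.Sup_le fun x hx => by
    obtain ⟨r, hr, rfl⟩ := mem_NotJ_iff.1 hx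
    intro y hy
    obtain ⟨t, rfl⟩ := (mem_XX_vec hF (lt_idxV r hr)).1 hy
    exact ⟨_, R.sg hr t⟩
  exact h hu

theorem e_mem_VV {r : ℕ} (hr : r ∈ idxV) (t : K) : e r t ∈ VV K :=
  RGD.le_Sup (mem_NotJ_iff.2 ⟨r, hr, rfl⟩) ((mem_XX_vec hF (lt_idxV r hr)).2 ⟨t, rfl⟩)

theorem E_mem_VV {L : List ℕ} (hL : ∀ s ∈ L, s ∈ idxV) (c : ℕ → K) : E L c ∈ VV K := by
  induction L with
  | nil => exact one_mem _
  | cons s L ih =>
    rw [E_cons]
    exact mul_mem (e_mem_VV (hL s List.mem_cons_self) _) (ih fun s hs => hL s (List.mem_cons_of_mem _ hs))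

theorem card_XX {r : ℕ} (hr : r < chevF4.nroots) : Nat.card ↥(XX chevF4 4 K (vec chevF4 4 r)) = Nat.card K := by
  symm
  refine Nat.card_congr (Equiv.ofBijective (fun t => (⟨ex hF r t, (mem_XX_vec hF hr).2 ⟨t, rfl⟩⟩ :
    ↥(XX chevF4 4 K (vec chevF4 4 r)))) ⟨fun a b h => ex_inj hF hr (congrArg Subtype.val h), fun ⟨y, hy⟩ => ?_⟩)
  obtain ⟨t, rfl⟩ := (mem_XX_vec hF hr).1 hy
  exact ⟨t, rfl⟩

theorem nodup_vec : (idxV.map fun r => (fun i : Fin 4 => vec chevF4 4 r i)).Nodup := by decide +kernel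

theorem card_VV [Finite K] : Nat.card ↥(VV K) = Nat.card K ^ 15 := by
  classical
  obtain ⟨p, hpc⟩ := CharP.exists K
  have : Fact p.Prime := ⟨CharP.char_is_prime K p⟩
  have Rd := rgd (K := K) hF cF p
  let s : Finset (Fin 4 → ℤ) := (idxV.map fun r => vec chevF4 4 r).toFinset
  have hs : (s : Set (Fin 4 → ℤ)) = NotJ cF hF.isCartan J3 := by
    ext x
    rw [mem_NotJ_iff, Finset.mem_coe, List.mem_toFinset, List.mem_map]
    exact ⟨fun ⟨r, hr, h⟩ => ⟨r, hr, h.symm⟩, fun ⟨r, hr, h⟩ => ⟨r, hr, h.symm⟩⟩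
  have hsc : s.card = 15 := by
    rw [List.toFinset_card_of_nodup nodup_vec, List.length_map]
    rfl
  have h1 := Cfsg.Agent.Nodes.CardSup.card_sup Rd (s := s) (by
    rw [hs]
    rintro x hx
    exact ⟨hx.1, hx.2.1⟩) (by
    rw [hs]
    rintro x hx y hy z ⟨hz, m, a, b, hm, ha, hb, he⟩
    rw [mem_NotJ] at hx hy ⊢
    refine ⟨hz, ?_⟩
    have h2 := congrFun he 3
    rw [Pi.smul_apply, Pi.add_apply, Pi.smul_apply, Pi.smul_apply, smul_eq_mul, smul_eq_mul, smul_eq_mul] at h2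
    by_contra hneg
    push Not at hneg
    have h3 : m * z 3 ≤ 0 := mul_nonpos_of_nonneg_of_nonpos hm.le hneg
    have h4 := mul_pos ha hx.2
    have h5 := mul_pos hb hy.2
    linarith)
  rw [hs] at h1
  have h2 : ∏ x ∈ s, Nat.card ↥(XX chevF4 4 K x) = Nat.card K ^ 15 := by
    rw [Finset.prod_congr rfl (g := fun _ => Nat.card K), Finset.prod_const, hsc]
    intro x hx
    rw [List.mem_toFinset, List.mem_map] at hx
    obtain ⟨r, hr, rfl⟩ := hx
    exact card_XX (lt_idxV r hr)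
  rw [← h2, ← h1]
  rfl

/-- extension by zero -/
noncomputable def xt (f : ↥L14.toFinset → K) (n : ℕ) : K := if h : n ∈ L14.toFinset then f ⟨n, h⟩ else 0

theorem unique [Finite K] {c d : ℕ → K} {a b : K} (h : E L14 c * e 47 a = E L14 d * e 47 b) :
    (∀ s ∈ L14, c s = d s) ∧ a = b := by
  classical
  have hmem : ∀ (c : ℕ → K) (a : K), E L14 c * e 47 a ∈ VV K := fun c a =>
    mul_mem (E_mem_VV L14_sub c) (e_mem_VV (by decide) a)
  let Φ : (↥L14.toFinset → K) × K → ↥(VV K) := fun x => ⟨E L14 (xt x.1) * e 47 x.2, hmem _ _⟩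
  have hxt : ∀ (c : ℕ → K), E L14 (xt fun s => c s.1) = E L14 c := by
    intro c
    refine E_congr fun s hs => ?_
    unfold xt
    rw [dif_pos (List.mem_toFinset.2 hs)]
  have hsurj : Function.Surjective Φ := by
    rintro ⟨u, hu⟩
    obtain ⟨c, b, hc⟩ := exists_R hu
    refine ⟨(fun s => c s.1, b), Subtype.ext ?_⟩
    show E L14 (xt fun s => c s.1) * e 47 b = u
    rw [hxt, hc]
  have hcard : Nat.card ((↥L14.toFinset → K) × K) ≤ Nat.card ↥(VV K) := by
    have h14 : Nat.card ↥L14.toFinset = 14 := by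
      rw [Nat.card_eq_fintype_card, Fintype.card_coe]
      rfl
    rw [card_VV, Nat.card_prod, Nat.card_fun, h14, ← pow_succ]
  have hbij := Function.Surjective.bijective_of_nat_card_le hsurj hcard
  have h1 : Φ (fun s => c s.1, a) = Φ (fun s => d s.1, b) := by
    apply Subtype.ext
    show E L14 (xt fun s => c s.1) * e 47 a = E L14 (xt fun s => d s.1) * e 47 b
    rw [hxt, hxt, h]
  have h2 := hbij.1 h1
  refine ⟨fun s hs => ?_, congrArg Prod.snd h2⟩
  exact congrFun (congrArg Prod.fst h2) ⟨s, List.mem_toFinset.2 hs⟩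

/-! ### the parabolic subgroup -/

/-- `P_J` -/
abbrev PP (K : Type u) [Field K] : Subgroup ↥(chevF4.group K) :=
  PJ cF hF.isCartan (TT chevF4 K) (XX chevF4 4 K) J3

theorem e_mem_PP {r : ℕ} (hr : r ∈ idxM) (t : K) : e r t ∈ PP K :=
  LJ_le_PJ (X_le_LJ (mem_RootsJ_iff.2 ⟨r, hr, rfl⟩) ((mem_XX_vec hF (lt_idxM r hr)).2 ⟨t, rfl⟩))

theorem e_mem_PP' {r : ℕ} (hr : r ∈ idxV) (t : K) : e r t ∈ PP K := VJ_le_PJ (e_mem_VV hr t)

theorem t1 : ctr 22 24 = [(26, -1, 1, 1)] := by decide +kernel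
theorem t2 : ctr 20 26 = [(29, -2, 1, 1), (31, -1, 2, 1)] := by decide +kernel
theorem t3 : ctr 22 31 = [(32, 1, 1, 1)] := by (delta Cfsg.Agent.H797.FQ.ctr; rewrite [Cfsg.Agent.ChevFast.F4.commTerms]; decide +kernel)
theorem t4 : ctr 14 29 = [(36, -1, 1, 1)] := by decide +kernel
theorem t5 : ctr 14 31 = [(38, -2, 1, 1), (42, -1, 2, 1)] := by decide +kernel
theorem t6 : ctr 14 32 = [(39, -2, 1, 1), (43, -1, 2, 1)] := by decide +kernel
theorem t7 : ctr 20 39 = [(40, 1, 1, 1)] := by decide +kernel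
theorem t8 : ctr 14 40 = [(44, 1, 1, 1)] := by decide +kernel
theorem t9 : ctr 20 44 = [(45, 1, 1, 1)] := by decide +kernel
theorem t10 : ctr 22 45 = [(46, 1, 1, 1)] := by decide +kernel

/-- **irreducibility** -/
theorem exists_24 (h2 : (2 : K) ≠ 0) {u : ↥(chevF4.group K)} {c : ℕ → K} (hu : R u c)
    (hne : u ∉ XX chevF4 4 K (vec chevF4 4 47)) : ∃ g ∈ PP K, ∃ c, R (g * u * g⁻¹) c ∧ c 24 ≠ 0 := by
  by_contra hcon
  push Not at hcon
  let Z : ℕ → Prop := fun m => ∀ g ∈ PP K, ∀ c, R (g * u * g⁻¹) c → c m = 0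
  have z24 : Z 24 := hcon
  have stp : ∀ {γ m : ℕ}, γ ∈ idxM → m ∈ L14 → Z m → ∀ g ∈ PP K, ∀ c, R (g * u * g⁻¹) c → ∀ t : K,
      ((ctr γ m).map fun q => (q.2.1 : K) * t ^ q.2.2.1 * (c q.1) ^ q.2.2.2).sum = 0 := by
    intro γ m hγ hm hZ g hg c hc t
    have h1 := hc.conj hγ t
    have h3 : e γ t * (g * u * g⁻¹) * (e γ t)⁻¹ = (e γ t * g) * u * (e γ t * g)⁻¹ := by group
    rw [h3] at h1
    have h4 := hZ _ (mul_mem (e_mem_PP hγ t) hg) _ h1
    rw [MM'_apply γ t c hm, hZ g hg c hc, zero_add] at h4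
    exact h4
  have one : ∀ {γ m r : ℕ} {N : ℤ}, γ ∈ idxM → m ∈ L14 → ctr γ m = [(r, N, 1, 1)] → (N = 1 ∨ N = -1) → Z m → Z r := by
    intro γ m r N hγ hm ht hN hZ g hg c hc
    have h1 := stp hγ hm hZ g hg c hc 1
    rw [ht, List.map_cons, List.map_nil, List.sum_cons, List.sum_nil, add_zero] at h1
    rcases hN with rfl | rfl
    · simpa using h1
    · simpa using h1
  have two : ∀ {γ m r r' : ℕ}, γ ∈ idxM → m ∈ L14 → ctr γ m = [(r, -2, 1, 1), (r', -1, 2, 1)] → Z m → Z r ∧ Z r' := by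
    intro γ m r r' hγ hm ht hZ
    have h : ∀ g ∈ PP K, ∀ c, R (g * u * g⁻¹) c → c r = 0 ∧ c r' = 0 := by
      intro g hg c hc
      have h1 := stp hγ hm hZ g hg c hc 1
      have h3 := stp hγ hm hZ g hg c hc (-1)
      rw [ht, List.map_cons, List.map_cons, List.map_nil, List.sum_cons, List.sum_cons, List.sum_nil, add_zero] at h1 h3
      simp only [Int.cast_neg, Int.cast_ofNat, Int.cast_one, pow_one, one_pow, mul_one, even_two,
        Even.neg_pow] at h1 h3
      have h4 : 2 * c r' = 0 := by linear_combination (-1 : K) * h1 - h3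
      have h5 : c r' = 0 := (mul_eq_zero.1 h4).resolve_left h2
      have h6 : 2 * c r = 0 := by linear_combination (-1 : K) * h1 - h5
      exact ⟨(mul_eq_zero.1 h6).resolve_left h2, h5⟩
    exact ⟨fun g hg c hc => (h g hg c hc).1, fun g hg c hc => (h g hg c hc).2⟩
  have z26 := one (by decide) (by decide) t1 (by decide) z24
  obtain ⟨z29, z31⟩ := two (by decide) (by decide) t2 z26
  have z32 := one (by decide) (by decide) t3 (by decide) z31
  have z36 := one (by decide) (by decide) t4 (by decide) z29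
  obtain ⟨z38, z42⟩ := two (by decide) (by decide) t5 z31
  obtain ⟨z39, z43⟩ := two (by decide) (by decide) t6 z32
  have z40 := one (by decide) (by decide) t7 (by decide) z39
  have z44 := one (by decide) (by decide) t8 (by decide) z40
  have z45 := one (by decide) (by decide) t9 (by decide) z44
  have z46 := one (by decide) (by decide) t10 (by decide) z45
  have hu' : R (1 * u * 1⁻¹) c := by rwa [one_mul, inv_one, mul_one]
  have hc : ∀ s ∈ L14, c s = (0 : ℕ → K) s := by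
    intro s hs
    simp only [L14, List.mem_cons, List.not_mem_nil, or_false] at hs
    rcases hs with rfl | rfl | rfl | rfl | rfl | rfl | rfl | rfl | rfl | rfl | rfl | rfl | rfl | rfl
    · exact z24 1 (one_mem _) c hu'
    · exact z26 1 (one_mem _) c hu'
    · exact z29 1 (one_mem _) c hu'
    · exact z31 1 (one_mem _) c hu'
    · exact z32 1 (one_mem _) c hu'
    · exact z36 1 (one_mem _) c hu'
    · exact z38 1 (one_mem _) c hu'
    · exact z39 1 (one_mem _) c hu'
    · exact z40 1 (one_mem _) c hu'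
    · exact z42 1 (one_mem _) c hu'
    · exact z43 1 (one_mem _) c hu'
    · exact z44 1 (one_mem _) c hu'
    · exact z45 1 (one_mem _) c hu'
    · exact z46 1 (one_mem _) c hu'
  obtain ⟨b, hb⟩ := hu
  rw [E_congr hc, E_zero, one_mul] at hb
  apply hne
  rw [hb]
  exact (mem_XX_vec hF (by rw [nroots]; norm_num)).2 ⟨b, rfl⟩

/-! ### the orbit -/

/-- the radical of the Siegel parabolic subgroup of `C₃` -/
def A6 : List ℕ := [25, 28, 30, 35, 37, 41]

theorem A6_M : ∀ γ ∈ A6, γ ∈ idxM := by decide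

theorem A6_L : ∀ γ ∈ A6, γ + 1 ∈ L14 := by decide

theorem tA : ∀ γ ∈ A6, ctr γ 24 = [] ∧ ∀ δ ∈ A6, ctr γ (δ + 1) = if γ = δ then [(24, -1, 1, 1)] else [] := by
  (delta Cfsg.Agent.H797.FQ.ctr; rewrite [Cfsg.Agent.ChevFast.F4.commTerms]; decide +kernel)

theorem orb {u : ↥(chevF4.group K)} {c : ℕ → K} (hu : R u c) (t : ℕ → K) : ∀ {L : List ℕ}, L.Nodup → (∀ γ ∈ L, γ ∈ A6) →
    ∃ c', R (E L t * u * (E L t)⁻¹) c' ∧ c' 24 = c 24 ∧
      ∀ δ ∈ A6, c' (δ + 1) = c (δ + 1) - (if δ ∈ L then t δ * c 24 else 0) := by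
  intro L
  induction L with
  | nil =>
    intro _ _
    refine ⟨c, ?_, rfl, fun δ _ => ?_⟩
    · rw [E_nil, one_mul, inv_one, mul_one]
      exact hu
    · rw [if_neg (List.not_mem_nil), sub_zero]
  | cons γ L ih =>
    intro hn hL
    rw [List.nodup_cons] at hn
    obtain ⟨c', h1, h2, h3⟩ := ih hn.2 fun γ hγ => hL γ (List.mem_cons_of_mem _ hγ)
    have hγ : γ ∈ A6 := hL γ List.mem_cons_self
    obtain ⟨hA, hB⟩ := tA γ hγ
    refine ⟨MM' γ (t γ) c', ?_, ?_, ?_⟩
    · have h4 := h1.conj (A6_M γ hγ) (t γ)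
      have h5 : e γ (t γ) * (E L t * u * (E L t)⁻¹) * (e γ (t γ))⁻¹ = E (γ :: L) t * u * (E (γ :: L) t)⁻¹ := by
        rw [E_cons]; group
      rwa [h5] at h4
    · rw [MM'_apply γ (t γ) c' (by decide), hA, List.map_nil, List.sum_nil, add_zero, h2]
    · intro δ hδ
      rw [MM'_apply γ (t γ) c' (A6_L δ hδ), hB δ hδ, h3 δ hδ]
      by_cases h : γ = δ
      · subst h
        rw [if_pos rfl, if_neg hn.1, if_pos List.mem_cons_self, List.map_cons, List.map_nil, List.sum_cons,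
          List.sum_nil, h2]
        simp only [Int.cast_neg, Int.cast_one, pow_one]
        ring
      · rw [if_neg h, List.map_nil, List.sum_nil, add_zero]
        congr 1
        refine if_congr ?_ rfl rfl
        rw [List.mem_cons]
        exact ⟨Or.inr, fun h' => h'.resolve_left (Ne.symm h)⟩

theorem t46 : ∀ s ∈ L14, s ≠ 24 → chevF4.commTerms 46 s = [] ∧ s ≠ chevF4.neg 46 := by (rewrite [Cfsg.Agent.ChevFast.F4.commTerms, Cfsg.Agent.ChevFast.F4.neg]; decide +kernel)

theorem t46' : chevF4.commTerms 46 24 = [(47, -1, 1, 1)] ∧ 24 ≠ chevF4.neg 46 := by decide +kernel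

theorem comm46 {s : ℕ} (hs : s ∈ L14) (h24 : s ≠ 24) (x y : K) : e s x * e 46 y = e 46 y * e s x := by
  by_cases h : s = 46
  · subst h
    show ex hF 46 x * ex hF 46 y = ex hF 46 y * ex hF 46 x
    rw [← ex_add hF, ← ex_add hF, add_comm]
  · obtain ⟨h1, h2⟩ := t46 s hs h24
    have h3 := ex_comm hF (by rw [nroots]; norm_num : 46 < chevF4.nroots) (lt_idxV s (L14_sub s hs)) h h2 y x
    rw [h1, List.map_nil, List.prod_nil, mul_one] at h3
    exact h3

theorem E46 {L : List ℕ} (hL : ∀ s ∈ L, s ∈ L14 ∧ s ≠ 24) (c : ℕ → K) (y : K) : E L c * e 46 y = e 46 y * E L c := by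
  induction L with
  | nil => rw [E_nil, one_mul, mul_one]
  | cons s L ih =>
    have h1 := ih fun s hs => hL s (List.mem_cons_of_mem _ hs)
    obtain ⟨h3, h4⟩ := hL s List.mem_cons_self
    rw [E_cons, mul_assoc, h1, ← mul_assoc, comm46 h3 h4, mul_assoc]

/-- conjugation by `x_46` -/
theorem conj46 (c : ℕ → K) (b y : K) :
    e 46 y * (E L14 c * e 47 b) * (e 46 y)⁻¹ = E L14 c * e 47 (b - y * c 24) := by
  have hL : L14 = 24 :: L14.tail := rfl
  have h1 : E L14.tail c * e 46 y = e 46 y * E L14.tail c := E46 (by decide) c y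
  have h47 : e 47 b * (e 46 y)⁻¹ = (e 46 y)⁻¹ * e 47 b := by
    have h2 : e 46 y * e 47 b = e 47 b * e 46 y := comm47 (by decide) y b
    rw [mul_inv_eq_iff_eq_mul, mul_assoc, ← h2, ← mul_assoc, inv_mul_cancel, one_mul]
  have h3 : e 46 y * e 24 (c 24) * (e 46 y)⁻¹ = e 24 (c 24) * e 47 (-(y * c 24)) := by
    have h4 := conj_e (by rw [nroots]; norm_num : 46 < chevF4.nroots) (by rw [nroots]; norm_num : 24 < chevF4.nroots)
      (by norm_num) t46'.2 y (c 24)
    rw [t46'.1, List.map_cons, List.map_nil, List.prod_cons, List.prod_nil, mul_one] at h4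
    rw [h4]
    congr 2
    simp only [Int.cast_neg, Int.cast_one, pow_one]
    ring
  have h5 := e47_comm_E (fun s hs => List.mem_of_mem_tail hs) c (-(y * c 24)) (L := L14.tail)
  have h6 : E L14 c = e 24 (c 24) * E L14.tail c := by
    conv_lhs => rw [hL]
    exact E_cons _ _ _
  rw [h6]
  calc e 46 y * (e 24 (c 24) * E L14.tail c * e 47 b) * (e 46 y)⁻¹
      = e 46 y * e 24 (c 24) * E L14.tail c * (e 47 b * (e 46 y)⁻¹) := by group
    _ = e 46 y * e 24 (c 24) * (e 46 y)⁻¹ * (e 46 y * E L14.tail c) * (e 46 y)⁻¹ * e 47 b := by rw [h47]; group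
    _ = e 24 (c 24) * e 47 (-(y * c 24)) * E L14.tail c * e 47 b := by rw [h3, ← h1]; group
    _ = e 24 (c 24) * (E L14.tail c * e 47 (-(y * c 24))) * e 47 b := by rw [h5]; group
    _ = e 24 (c 24) * E L14.tail c * (e 47 (-(y * c 24)) * e 47 b) := by group
    _ = _ := by rw [e47_add, neg_add_eq_sub]

/-- the class of `u` under `P_J` -/
abbrev Cls (K : Type u) [Field K] (u : ↥(chevF4.group K)) : Type u :=
  {x : ↥(chevF4.group K) // ∃ g ∈ PP K, g * u * g⁻¹ = x}

/-- extension by zero -/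
noncomputable def xa (f : ↥A6.toFinset → K) (n : ℕ) : K := if h : n ∈ A6.toFinset then f ⟨n, h⟩ else 0

theorem E_mem_PP {L : List ℕ} (hL : ∀ s ∈ L, s ∈ idxM) (c : ℕ → K) : E L c ∈ PP K := by
  induction L with
  | nil => exact one_mem _
  | cons s L ih =>
    rw [E_cons]
    exact mul_mem (e_mem_PP (hL s List.mem_cons_self) _) (ih fun s hs => hL s (List.mem_cons_of_mem _ hs))

theorem card_le_of_24 [Finite K] {u : ↥(chevF4.group K)} {c : ℕ → K} (hu : R u c) (h24 : c 24 ≠ 0) :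
    Nat.card K ^ 7 ≤ Nat.card (Cls K u) := by
  classical
  let Ψ : (↥A6.toFinset → K) × K → Cls K u := fun x =>
    ⟨(e 46 x.2 * E A6 (xa x.1)) * u * (e 46 x.2 * E A6 (xa x.1))⁻¹, _,
      mul_mem (e_mem_PP' (by decide) _) (E_mem_PP A6_M _), rfl⟩
  have hcard : Nat.card ((↥A6.toFinset → K) × K) = Nat.card K ^ 7 := by
    have h6 : Nat.card ↥A6.toFinset = 6 := by
      rw [Nat.card_eq_fintype_card, Fintype.card_coe]
      rfl
    rw [Nat.card_prod, Nat.card_fun, h6, ← pow_succ]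
  rw [← hcard]
  have : Finite ↥(chevF4.group K) := inferInstance
  refine Nat.card_le_card_of_injective Ψ ?_
  rintro ⟨f, y⟩ ⟨f', y'⟩ h
  have h1 : (e 46 y * E A6 (xa f)) * u * (e 46 y * E A6 (xa f))⁻¹ =
      (e 46 y' * E A6 (xa f')) * u * (e 46 y' * E A6 (xa f'))⁻¹ := congrArg Subtype.val h
  obtain ⟨d, ⟨b, hd⟩, hd1, hd2⟩ := orb hu (xa f) (L := A6) (by decide) fun _ h => h
  obtain ⟨d', ⟨b', hd'⟩, hd1', hd2'⟩ := orb hu (xa f') (L := A6) (by decide) fun _ h => h
  have h2 : (e 46 y * E A6 (xa f)) * u * (e 46 y * E A6 (xa f))⁻¹ = E L14 d * e 47 (b - y * d 24) := by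
    rw [← conj46, ← hd]; group
  have h2' : (e 46 y' * E A6 (xa f')) * u * (e 46 y' * E A6 (xa f'))⁻¹ = E L14 d' * e 47 (b' - y' * d' 24) := by
    rw [← conj46, ← hd']; group
  rw [h2, h2'] at h1
  obtain ⟨h3, h4⟩ := unique h1
  have h5 : xa f = xa f' := by
    funext n
    by_cases hn : n ∈ A6
    · have h6 := h3 (n + 1) (A6_L n hn)
      rw [hd2 n hn, hd2' n hn, if_pos hn, if_pos hn] at h6
      exact mul_right_cancel₀ h24 (sub_right_injective h6)
    · unfold xa
      rw [dif_neg (by rwa [List.mem_toFinset]), dif_neg (by rwa [List.mem_toFinset])]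
  have h7 : f = f' := by
    funext ⟨s, hs⟩
    have h8 := congrFun h5 s
    unfold xa at h8
    rwa [dif_pos hs, dif_pos hs] at h8
  subst h7
  have h9 : E L14 d * e 47 b = E L14 d' * e 47 b' := by rw [← hd, ← hd']
  obtain ⟨-, h10⟩ := unique h9
  rw [hd1, hd1', h10] at h4
  have h11 : y = y' := mul_right_cancel₀ h24 (sub_right_injective h4)
  rw [h11]

/-- **the orbits of `P_J` outside `X_θ` have at least `q ^ 7` elements** -/
theorem oc3 [Finite K] (h2 : (2 : K) ≠ 0) {u : ↥(chevF4.group K)}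
    (hu : u ∈ VJ cF hF.isCartan (XX chevF4 4 K) {k | k ≠ 3}) (hu' : u ∉ XX chevF4 4 K (vec chevF4 4 47)) :
    Nat.card K ^ 7 ≤ Nat.card {x : ↥(chevF4.group K) //
      ∃ g ∈ PJ cF hF.isCartan (TT chevF4 K) (XX chevF4 4 K) {k | k ≠ 3}, g * u * g⁻¹ = x} := by
  obtain ⟨c, hc⟩ := exists_R (show u ∈ VV K from hu)
  obtain ⟨g, hg, d, hd, h24⟩ := exists_24 h2 hc hu'
  have h1 := card_le_of_24 hd h24
  refine h1.trans ?_
  have : Finite ↥(chevF4.group K) := inferInstance
  refine Nat.card_le_card_of_injective (fun x : Cls K (g * u * g⁻¹) =>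
    (⟨x.1, by
      obtain ⟨k, hk, hx⟩ := x.2
      exact ⟨k * g, mul_mem hk hg, by rw [← hx]; group⟩⟩ : Cls K u)) fun x y hxy => ?_
  exact Subtype.ext (congrArg (fun z : Cls K u => z.1) hxy)

end Cfsg.Agent.H797.FQ

private theorem dce_186e58102925 : _root_.True := by
  try have : _root_.True := by simp only [_root_.Cfsg.Agent.H797.FQ.L14.eq_1]
  exact _root_.True.intro
end

-- part: H7/FC/Center
section
set_option linter.all false
open scoped Cfsg.Agent.FastGrp

/-!
# S2464, `F₄(q)`, `q` odd: the centre of `U` is the root group of the highest root (helper7)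

`wds` : words for the four simple roots of the `D₄` of long roots; the roots which are dominant for this `D₄` have the
numbers `39, 40, 44` (short) and `47` (`θ`); the short ones are removed by the roots `38, 36, 29` (`s + s' = θ`, constant
`± 2`).
-/

set_option autoImplicit false
set_option linter.unusedSectionVars false

namespace Cfsg.Agent.H7.FC

open CoxeterSystem Cfsg.Agent.ChevalleyStructure.CoxeterGeom Cfsg.Agent.Tits.Roots Cfsg.Agent.Tits.Core
  Cfsg.Agent.Tits.Exchange Cfsg.Agent.Nodes.Reps Cfsg.Agent.Nodes.BNOf Cfsg.Agent.Nodes.StabComb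
  Cfsg.Agent.Nodes.Bruhat Cfsg.Agent.Nodes.OppDec Cfsg.Agent.Nodes.LeviDec Cfsg.Agent.Nodes.NormX
  Cfsg.Agent.Nodes.Coroot Cfsg.Agent.Nodes.RGDChev Cfsg.Agent.KFacts.RgdPar Cfsg.Agent.KFacts.RgdTI
  Cfsg.Agent.KFacts.RgdCent Cfsg.Agent.KFacts.RgdChevCoord Cfsg.Agent.Nodes.ChevCls
  Cfsg.Agent.OddHalf.NI.ModelChev Cfsg.Agent.H225.PPow
open Cfsg.Lie Cfsg.Agent.ChevalleyStructure Cfsg.Agent.ChevalleyStructure.Elts
  Cfsg.Agent.ChevalleyStructure.RootVec Cfsg.Agent.ChevalleyStructure.NPerm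
  Cfsg.Agent.ChevalleyStructure.CoxeterGeomTypes
open Cfsg.Agent.H701.F43.Cent (hF cF finW nroots lrF4)
open Cfsg.Agent.H520.FC

universe u

/-- words for the simple roots of `D₄` -/
def wds : List (List (Fin 4)) := [[], [3, 2], [1, 3, 2], [0, 1, 3, 2]]

theorem dom_tab : ∀ s < chevF4.nroots,
    (∀ w ∈ wds, 0 ≤ chevF4.cartan (3 : Fin 4) (wact chevF4 w.reverse s)) → s ∈ [39, 40, 44, 47] := by
  decide +kernel

theorem pos_tab : ∀ w ∈ wds, ∀ i : Fin 4, 0 ≤ vec chevF4 4 (wact chevF4 w (chevF4.simple (3 : Fin 4))) i := by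
  decide +kernel

theorem pos_tab' : ∀ r ∈ [29, 36, 38, 39, 40, 44, 47], r < chevF4.nroots ∧ ∀ i : Fin 4, 0 ≤ vec chevF4 4 r i := by
  decide +kernel

theorem comm_tab : ∀ r ∈ [39, 40, 44, 47], ∀ s ∈ [39, 40, 44, 47], s ≠ r → s ≠ chevF4.neg r ∧
    chevF4.commTerms r s = [] := by
  decide +kernel

theorem comm_tab' : ∀ x ∈ [(29, 39), (29, 40), (29, 47), (36, 39), (36, 44), (36, 47), (38, 40), (38, 44), (38, 47)],
    (x : ℕ × ℕ).2 ≠ x.1 ∧ x.2 ≠ chevF4.neg x.1 ∧ chevF4.commTerms x.1 x.2 = [] := by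
  decide +kernel

theorem comm_tab'' : ∀ x ∈ [(29, 44), (36, 40), (38, 39)],
    (x : ℕ × ℕ).2 ≠ x.1 ∧ x.2 ≠ chevF4.neg x.1 ∧ (chevF4.commTerms x.1 x.2 = [(47, 2, 1, 1)] ∨
      chevF4.commTerms x.1 x.2 = [(47, -2, 1, 1)]) := by
  decide +kernel

/-- the long roots -/
def PsiL : Set (Fin 4 → ℤ) := {a | ∃ w ∈ wds, a = rep cF hF.isCartan (cF.wordProd w) (sr 3)}

/-- the dominant roots -/
def S4 : Set (Fin 4 → ℤ) := {x | ∃ r ∈ [39, 40, 44, 47], x = vec chevF4 4 r}

theorem cpr_w (w : List (Fin 4)) {r : ℕ} (hr : r < chevF4.nroots) :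
    cpr cF hF.isCartan (vec chevF4 4 r) (rep cF hF.isCartan (cF.wordProd w) (sr 3)) =
      chevF4.cartan (3 : Fin 4) (wact chevF4 w.reverse r) := by
  have h1 : cpr cF hF.isCartan (rep cF hF.isCartan (cF.wordProd w)⁻¹ (vec chevF4 4 r)) (sr 3) =
      cpr cF hF.isCartan (vec chevF4 4 r) (rep cF hF.isCartan (cF.wordProd w) (sr 3)) := by
    rw [cpr_rep_left _ _ (isRoot_sr cF hF.isCartan 3), inv_inv]
  rw [← h1, ← wordProd_reverse, rep_word hF cF _ hr, Cfsg.Agent.Nodes.ChevCls.cpr_vec hF cF 3 (wact_lt hF _ hr)]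

theorem star_sub : Star cF hF.isCartan PsiL ⊆ S4 := by
  rintro x ⟨hx, h⟩
  obtain ⟨r, hr, rfl⟩ := (isRoot_iff hF cF x).1 hx
  exact ⟨r, dom_tab r hr fun w hw => by rw [← cpr_w w hr]; exact h _ ⟨w, hw, rfl⟩, rfl⟩

theorem vec_pos {r : ℕ} (hr : r ∈ [29, 36, 38, 39, 40, 44, 47]) :
    vec chevF4 4 r ∈ RGD.Pos cF hF.isCartan :=
  ⟨(isRoot_iff hF cF _).2 ⟨r, (pos_tab' r hr).1, rfl⟩, (pos_tab' r hr).2⟩

theorem psiL_pos {a : Fin 4 → ℤ} (ha : a ∈ PsiL) : a ∈ RGD.Pos cF hF.isCartan := by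
  obtain ⟨w, hw, rfl⟩ := ha
  refine ⟨⟨_, 3, rfl⟩, fun i => ?_⟩
  rw [← vec_simple hF 3, rep_word hF cF _ (RootVec.simple_lt hF.checked (lt_rank hF 3))]
  exact pos_tab w hw i

variable {K : Type u} [Field K]

/-- root elements -/
noncomputable abbrev XG (r : ℕ) (t : K) : GL chevF4.Idx K := xG hF.inList r t

theorem XG_add (r : ℕ) (t u : K) : XG r t * XG r u = XG r (t + u) := xG_add hF.inList r t u

theorem XG_zero (r : ℕ) : XG r (0 : K) = 1 := xG_zero hF.inList r

theorem XG_inv (r : ℕ) (t : K) : (XG r t)⁻¹ = XG r (-t) := xG_inv hF.inList r t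

theorem mul_XG {r s : ℕ} (hr : r < chevF4.nroots) (hs : s < chevF4.nroots) (h : s ≠ r) (h' : s ≠ chevF4.neg r)
    (t u : K) : XG s u * XG r t = XG r t * XG s u * wordG hF.inList (chevF4.commWord K r s t u) := by
  have h1 := comm_xG hF hr hs h h' t u
  rw [commutatorElement_def, inv_inv, inv_inv] at h1
  rw [← h1]
  group

theorem comm_XG {r s : ℕ} (hr : r < chevF4.nroots) (hs : s < chevF4.nroots) (h : s ≠ r) (h' : s ≠ chevF4.neg r)
    (h0 : chevF4.commTerms r s = []) (t u : K) : Commute (XG s u) (XG r t) := by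
  have h1 := mul_XG hr hs h h' t u
  have h2 : chevF4.commWord K r s t u = [] := by
    show (chevF4.commTerms r s).map _ = []
    rw [h0, List.map_nil]
  rw [h2, wordG_nil, mul_one] at h1
  exact h1

theorem comm4 {r s : ℕ} (hr : r ∈ [39, 40, 44, 47]) (hs : s ∈ [39, 40, 44, 47]) (t u : K) :
    Commute (XG s u) (XG r t) := by
  have hlt : ∀ r ∈ [39, 40, 44, 47], r < chevF4.nroots := by decide +kernel
  by_cases h : s = r
  · subst h
    show _ * _ = _ * _
    rw [xG_add, xG_add, add_comm]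
  · exact comm_XG (hlt r hr) (hlt s hs) h (comm_tab r hr s hs h).1 (comm_tab r hr s hs h).2 t u

theorem kill (h2 : (2 : K) ≠ 0) {r s : ℕ} (hx : (r, s) ∈ [(29, 44), (36, 40), (38, 39)]) {A C : GL chevF4.Idx K}
    (b : K) (hA : Commute A (XG r 1)) (hC : Commute C (XG r 1)) (hC' : ∀ c : K, Commute C (XG 47 c))
    (h : (A * XG s b * C) * XG r 1 = XG r 1 * (A * XG s b * C)) : b = 0 := by
  have hlt : ∀ x ∈ [(29, 44), (36, 40), (38, 39)], (x : ℕ × ℕ).1 < chevF4.nroots ∧ x.2 < chevF4.nroots := by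
    decide +kernel
  obtain ⟨h3, h4, h5⟩ := comm_tab'' _ hx
  obtain ⟨hr, hs⟩ := hlt _ hx
  simp only at h3 h4 h5 hr hs
  obtain ⟨c, hc, hcw⟩ : ∃ c : K, c ≠ 0 ∧ wordG hF.inList (chevF4.commWord K r s 1 b) = XG 47 (c * b) := by
    rcases h5 with h5 | h5
    · refine ⟨-2, neg_ne_zero.2 h2, ?_⟩
      have h6 : chevF4.commWord K r s 1 b = [(47, ((2 : ℤ) : K) * (-1) ^ 1 * b ^ 1)] := by
        show (chevF4.commTerms r s).map _ = _
        rw [h5]
        rfl
      rw [h6, wordG_cons, wordG_nil, mul_one]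
      congr 1
      push_cast
      ring
    · refine ⟨2, h2, ?_⟩
      have h6 : chevF4.commWord K r s 1 b = [(47, ((-2 : ℤ) : K) * (-1) ^ 1 * b ^ 1)] := by
        show (chevF4.commTerms r s).map _ = _
        rw [h5]
        rfl
      rw [h6, wordG_cons, wordG_nil, mul_one]
      congr 1
      push_cast
      ring
  have h7 := mul_XG hr hs h3 h4 1 b
  rw [hcw] at h7
  have h8 : (A * XG s b * C) * XG r 1 = XG r 1 * (A * XG s b * C) * XG 47 (c * b) := by
    calc (A * XG s b * C) * XG r 1 = A * XG s b * (C * XG r 1) := by group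
      _ = A * (XG s b * XG r 1) * C := by rw [hC.eq]; group
      _ = (A * XG r 1) * XG s b * (XG 47 (c * b) * C) := by rw [h7]; group
      _ = _ := by rw [hA.eq, (hC' (c * b)).symm.eq]; group
  rw [h] at h8
  have h9 : XG 47 (c * b) = 1 := (mul_eq_left.1 h8.symm)
  rw [xG_eq_one_iff hF.inList (by rw [nroots]; norm_num)] at h9
  exact (mul_eq_zero.1 h9).resolve_left hc

/-- the elements of the product of the four root groups -/
def Pr4 (K : Type u) [Field K] : Subgroup ↥(chevF4.group K) where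
  carrier := {g | ∃ a b c d : K, (g : GL chevF4.Idx K) = XG 39 a * XG 40 b * XG 44 c * XG 47 d}
  one_mem' := ⟨0, 0, 0, 0, by rw [XG_zero, XG_zero, XG_zero, XG_zero]; simp⟩
  mul_mem' := by
    rintro g g' ⟨a, b, c, d, h⟩ ⟨a', b', c', d', h'⟩
    refine ⟨a + a', b + b', c + c', d + d', ?_⟩
    rw [Subgroup.coe_mul, h, h', ← XG_add, ← XG_add, ← XG_add, ← XG_add]
    have e1 : Commute (XG 47 d) (XG 39 a') := comm4 (by simp) (by simp) _ _
    have e2 : Commute (XG 44 c) (XG 39 a') := comm4 (by simp) (by simp) _ _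
    have e3 : Commute (XG 40 b) (XG 39 a') := comm4 (by simp) (by simp) _ _
    have e4 : Commute (XG 47 d) (XG 40 b') := comm4 (by simp) (by simp) _ _
    have e5 : Commute (XG 44 c) (XG 40 b') := comm4 (by simp) (by simp) _ _
    have e6 : Commute (XG 47 d) (XG 44 c') := comm4 (by simp) (by simp) _ _
    simp only [mul_assoc]
    rw [e1.left_comm, e2.left_comm, e3.left_comm, e4.left_comm, e5.left_comm, e6.left_comm]
  inv_mem' := by
    rintro g ⟨a, b, c, d, h⟩
    refine ⟨-a, -b, -c, -d, ?_⟩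
    rw [Subgroup.coe_inv, h, ← XG_inv, ← XG_inv, ← XG_inv, ← XG_inv]
    have e1 : Commute (XG 47 d)⁻¹ (XG 39 a)⁻¹ := (comm4 (by simp) (by simp) _ _).inv_inv
    have e2 : Commute (XG 44 c)⁻¹ (XG 39 a)⁻¹ := (comm4 (by simp) (by simp) _ _).inv_inv
    have e3 : Commute (XG 40 b)⁻¹ (XG 39 a)⁻¹ := (comm4 (by simp) (by simp) _ _).inv_inv
    have e4 : Commute (XG 47 d)⁻¹ (XG 40 b)⁻¹ := (comm4 (by simp) (by simp) _ _).inv_inv
    have e5 : Commute (XG 44 c)⁻¹ (XG 40 b)⁻¹ := (comm4 (by simp) (by simp) _ _).inv_inv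
    have e6 : Commute (XG 47 d)⁻¹ (XG 44 c)⁻¹ := (comm4 (by simp) (by simp) _ _).inv_inv
    simp only [mul_inv_rev]
    rw [e3.eq, e2.left_comm, e1.left_comm, e5.eq, e4.left_comm, e6.eq]
    simp only [mul_assoc]

section

variable [Finite K] (p : ℕ) [Fact p.Prime] [CharP K p]

include p in
theorem mem_XX {r : ℕ} (hr : r < chevF4.nroots) {v : ↥(chevF4.group K)} :
    v ∈ XX chevF4 4 K (vec chevF4 4 r) ↔ ∃ c : K, (v : GL chevF4.Idx K) = XG r c := by
  rw [((coords (K := K) hF cF p).coord _ ((isRoot_iff hF cF _).2 ⟨r, hr, rfl⟩)).mem]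
  constructor
  · rintro ⟨c, rfl⟩
    exact ⟨c, coe_xc hF hr c⟩
  · rintro ⟨c, hc⟩
    exact ⟨c, Subtype.ext (by rw [coe_xc hF hr, hc])⟩

include p in
theorem sup_le_Pr4 : RGD.Sup (XX chevF4 4 K) S4 ≤ Pr4 K := by
  refine RGD.Sup_le fun x hx => ?_
  obtain ⟨r, hr, rfl⟩ := hx
  intro v hv
  have hlt : ∀ r ∈ [39, 40, 44, 47], r < chevF4.nroots := by decide +kernel
  obtain ⟨c, hc⟩ := (mem_XX p (hlt r hr)).1 hv
  simp only [List.mem_cons, List.not_mem_nil, or_false] at hr
  rcases hr with rfl | rfl | rfl | rfl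
  · exact ⟨c, 0, 0, 0, by rw [hc, XG_zero, XG_zero, XG_zero]; simp⟩
  · exact ⟨0, c, 0, 0, by rw [hc, XG_zero, XG_zero, XG_zero]; simp⟩
  · exact ⟨0, 0, c, 0, by rw [hc, XG_zero, XG_zero, XG_zero]; simp⟩
  · exact ⟨0, 0, 0, c, by rw [hc, XG_zero, XG_zero, XG_zero]; simp⟩

theorem psiL_LR : ∀ a ∈ PsiL, LR (rgd (K := K) hF cF p) a := by
  rintro a ⟨w, hw, rfl⟩
  have L : LR (rgd (K := K) hF cF p) (sr (3 : Fin 4)) := lr_tab hF cF p (d := 0) (dvd_zero _) lrF4
  exact L.act _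

end

/-- **The centre of `U`**, `F₄(q)`, `q` odd. -/
theorem center_U [Finite K] (h2 : (2 : K) ≠ 0) {u : ↥(chevF4.group K)}
    (hu : u ∈ RGD.Sup (XX chevF4 4 K) (RGD.Pos cF hF.isCartan))
    (hc : ∀ v ∈ RGD.Sup (XX chevF4 4 K) (RGD.Pos cF hF.isCartan), u * v = v * u) : u ∈ XT K := by
  obtain ⟨p, hpc⟩ := CharP.exists K
  have : Fact p.Prime := ⟨CharP.char_is_prime K p⟩
  have R := rgd (K := K) hF cF p
  have hgg : u ∈ GG cF hF.isCartan (TT chevF4 K) (XX chevF4 4 K) := by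
    have := G1_eq_top hF (K := K) cF
    have h2 : (⊤ : Subgroup ↥(chevF4.group K)) ≤ GG cF hF.isCartan (TT chevF4 K) (XX chevF4 4 K) := by
      rw [← this]
      exact le_sup_right
    exact h2 trivial
  have hcX : ∀ a ∈ RGD.Pos cF hF.isCartan, ∀ v ∈ XX chevF4 4 K a, u * v = v * u := fun a ha v hv =>
    hc v (RGD.le_Sup ha hv)
  obtain ⟨t, ht, -, q, hq, htq⟩ := cent_eq (rgd (K := K) hF cF p) (psiL_LR p) (star_comm (psiL_LR p)) hgg
    (fun a ha v hv => hcX a (psiL_pos ha) v hv)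
  have hq4 : q ∈ RGD.Sup (XX chevF4 4 K) S4 := RGD.Sup_mono star_sub hq
  have hqU : q ∈ RGD.Sup (XX chevF4 4 K) (RGD.Pos cF hF.isCartan) := by
    refine RGD.Sup_mono (fun x hx => ?_) hq4
    obtain ⟨r, hr, rfl⟩ := hx
    exact vec_pos (by
      simp only [List.mem_cons, List.not_mem_nil, or_false] at hr ⊢
      tauto)
  have ht1 : t = 1 := by
    have h3 : t ∈ RGD.Sup (XX chevF4 4 K) (RGD.Pos cF hF.isCartan) ⊓ TT chevF4 K :=
      ⟨by
        have := mul_mem hu (inv_mem hqU)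
        rwa [htq, mul_inv_cancel_right] at this, ht⟩
    rw [U_inf_T (rgd (K := K) hF cF p), Subgroup.mem_bot] at h3
    exact h3
  rw [ht1, one_mul] at htq
  rw [← htq] at hq4
  obtain ⟨a, b, c, d, he⟩ := sup_le_Pr4 p hq4
  have hy : ∀ r ∈ [29, 36, 38], (u : GL chevF4.Idx K) * XG r 1 = XG r 1 * (u : GL chevF4.Idx K) := by
    intro r hr
    have hr' : r ∈ [29, 36, 38, 39, 40, 44, 47] := by
      simp only [List.mem_cons, List.not_mem_nil, or_false] at hr ⊢
      tauto
    have hr1 := (pos_tab' r hr').1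
    have h3 := hcX _ (vec_pos hr') (xc hF (vec chevF4 4 r) 1) ((mem_XX p hr1).2 ⟨1, coe_xc hF hr1 1⟩)
    have h4 := congrArg (fun g : ↥(chevF4.group K) => (g : GL chevF4.Idx K)) h3
    simp only [Subgroup.coe_mul, coe_xc hF hr1] at h4
    exact h4
  have hlt : ∀ r ∈ [29, 36, 38, 39, 40, 44, 47], r < chevF4.nroots := fun r hr => (pos_tab' r hr).1
  have cm : ∀ x ∈ [(29, 39), (29, 40), (29, 47), (36, 39), (36, 44), (36, 47), (38, 40), (38, 44), (38, 47)],
      ∀ t u : K, Commute (XG (x : ℕ × ℕ).2 u) (XG x.1 t) := by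
    intro x hx t u
    obtain ⟨h3, h4, h5⟩ := comm_tab' x hx
    refine comm_XG (hlt _ ?_) (hlt _ ?_) h3 h4 h5 t u <;>
    · revert x
      decide +kernel
  -- `c = 0`
  have hc0 : c = 0 := by
    refine kill (r := 29) (s := 44) h2 (by simp) (A := XG 39 a * XG 40 b) (C := XG 47 d) c ?_ ?_ ?_ ?_
    · exact (cm (29, 39) (by simp) 1 a).mul_left (cm (29, 40) (by simp) 1 b)
    · exact cm (29, 47) (by simp) 1 d
    · intro e
      exact comm4 (by simp) (by simp) _ _
    · rw [← he]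
      exact hy 29 (by simp)
  have hb0 : b = 0 := by
    refine kill (r := 36) (s := 40) h2 (by simp) (A := XG 39 a) (C := XG 44 c * XG 47 d) b ?_ ?_ ?_ ?_
    · exact cm (36, 39) (by simp) 1 a
    · exact (cm (36, 44) (by simp) 1 c).mul_left (cm (36, 47) (by simp) 1 d)
    · intro e
      exact (comm4 (by simp) (by simp) _ _).mul_left (comm4 (by simp) (by simp) _ _)
    · rw [← mul_assoc, ← he]
      exact hy 36 (by simp)
  have ha0 : a = 0 := by
    refine kill (r := 38) (s := 39) h2 (by simp) (A := 1) (C := XG 40 b * XG 44 c * XG 47 d) a ?_ ?_ ?_ ?_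
    · exact Commute.one_left _
    · exact ((cm (38, 40) (by simp) 1 b).mul_left (cm (38, 44) (by simp) 1 c)).mul_left (cm (38, 47) (by simp) 1 d)
    · intro e
      exact ((comm4 (by simp) (by simp) _ _).mul_left (comm4 (by simp) (by simp) _ _)).mul_left
        (comm4 (by simp) (by simp) _ _)
    · rw [one_mul, ← mul_assoc, ← mul_assoc, ← he]
      exact hy 38 (by simp)
  rw [ha0, hb0, hc0, XG_zero, XG_zero, XG_zero, one_mul, one_mul, one_mul] at he
  exact (mem_XX p (by rw [nroots]; norm_num)).2 ⟨d, he⟩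

end Cfsg.Agent.H7.FC
end

-- part: H930/FC/Spin
section
prune_inst 0x156065444c6202080000858671201c06ee0005b2006b0c01ac010a4406c84f6280822f60b5001103522aa20500390068111000d0424000000e2004000119018000881606a148a108a0009e000084000000000000300000000000000000010004000000000
set_option linter.all false
open scoped Cfsg.Agent.FastGrp

-- part: H930/FC/Tab
section
/-!
# `F₄`: the tables of the parabolic of type `B₃` (S2464, `F₄(q)`)

`IV` : the 15 roots with `0 < x 0`; `I1` : the 8 roots with `x 0 = 1`; `I2` : the 7 roots with `x 0 = 2`;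
`IM` : the 18 roots of `B₃`.
-/

set_option autoImplicit false
set_option linter.unusedSectionVars false

namespace Cfsg.Agent.H930.FC

open Cfsg.Lie Cfsg.Agent.ChevalleyStructure Cfsg.Agent.ChevalleyStructure.RootVec Cfsg.Agent.Nodes.RGDChev

/-- the roots with `0 < x 0` -/
def IV : List ℕ := [33, 34, 35, 36, 37, 38, 39, 40, 41, 42, 43, 44, 45, 46, 47]

/-- the roots with `x 0 = 1` -/
def I1 : List ℕ := [33, 34, 35, 36, 37, 38, 39, 40]

/-- the roots with `x 0 = 2` -/
def I2 : List ℕ := [41, 42, 43, 44, 45, 46, 47]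

/-- the roots of `B₃` -/
def IM : List ℕ := [15, 16, 17, 18, 19, 20, 21, 22, 23, 24, 25, 26, 27, 28, 29, 30, 31, 32]

/-- the roots `γ` of `B₃` with `α₀ + γ` a root -/
def G6 : List ℕ := [27, 28, 29, 30, 31, 32]

theorem nroots : chevF4.nroots = 48 := by decide +kernel

theorem tabV : ∀ r < chevF4.nroots, (0 < vec chevF4 4 r 0 ↔ r ∈ IV) := by decide +kernel

theorem tab2 : ∀ r < chevF4.nroots, (2 ≤ vec chevF4 4 r 0 ↔ r ∈ I2) := by decide +kernel

theorem tabM : ∀ r < chevF4.nroots, (vec chevF4 4 r 0 = 0 ↔ r ∈ IM) := by decide +kernel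

theorem lt_IV : ∀ r ∈ IV, r < chevF4.nroots := by decide +kernel

theorem lt_IM : ∀ r ∈ IM, r < chevF4.nroots := by decide +kernel

theorem I1_sub : ∀ r ∈ I1, r ∈ IV := by decide +kernel

theorem I2_sub : ∀ r ∈ I2, r ∈ IV := by decide +kernel

theorem I1_not : ∀ r ∈ I1, r ∉ I2 := by decide +kernel

theorem G6_sub : ∀ r ∈ G6, r ∈ IM := by decide +kernel

theorem IV_cases : ∀ r ∈ IV, r ∈ I1 ∨ r ∈ I2 := by decide +kernel

theorem simple0 : chevF4.simple (0 : Fin 4) = 33 := by decide +kernel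

private noncomputable def _root_.Cfsg.Agent.LsF.f18a75b_0 : {f // @Cfsg.Lie.ChevalleyDatum.chainEntry = f} := ⟨_, by first | (delta Cfsg.Lie.ChevalleyDatum.chainEntry; rewrite [Cfsg.Agent.LsF.instDecEq_eq, Cfsg.Agent.LsF.find?_eq, Cfsg.Agent.LsF.agetD_eq, Cfsg.Agent.LsF.decide_eq]; (try delta Cfsg.Lie.ChevalleyDatum.chainEntry.match_1); (try delta Option.casesOn); exact rfl) | exact rfl⟩
private noncomputable def _root_.Cfsg.Agent.LsF.f18a75b_1 : {f // @Cfsg.Lie.ChevalleyDatum.chainRoot = f} := ⟨_, by first | (delta Cfsg.Lie.ChevalleyDatum.chainRoot Option.map; rewrite [Cfsg.Agent.LsF.f18a75b_0.2, Cfsg.Agent.LsF.nsub_pat, Cfsg.Agent.LsF.instGetElem?_eq]; (try delta Option.getD.match_1); (try delta Option.casesOn); exact rfl) | exact rfl⟩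
private noncomputable def _root_.Cfsg.Agent.LsF.f18a75b_2 : {f // @Cfsg.Lie.ChevalleyDatum.chainM = f} := ⟨_, by first | (delta Cfsg.Lie.ChevalleyDatum.chainM Option.map; rewrite [Cfsg.Agent.LsF.f18a75b_0.2, Cfsg.Agent.LsF.nsub_pat, Cfsg.Agent.LsF.instGetElem?_eq, Cfsg.Agent.LsF.ogetD_eq]; (try delta Option.getD.match_1); (try delta Option.casesOn); exact rfl) | exact rfl⟩
private noncomputable def _root_.Cfsg.Agent.LsF.f18a75b_3 : {f // @Cfsg.Lie.ChevalleyDatum.commTerms = f} := ⟨_, by first | (delta Cfsg.Lie.ChevalleyDatum.commTerms Option.bind Option.map; rewrite [Cfsg.Agent.LsF.f18a75b_1.2, Cfsg.Agent.LsF.f18a75b_2.2, Cfsg.Agent.LsF.imul_pat, Cfsg.Agent.LsF.ineg_pat, Cfsg.Agent.LsF.filterMap_eq, Cfsg.Agent.LsF.ogetD_eq]; (try delta Option.bind.match_1); (try delta Option.getD.match_1); (try delta Option.casesOn); exact rfl) | exact rfl⟩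
/-- commutators inside `V` -/
theorem tabVV : ∀ r ∈ IV, ∀ s ∈ IV, ∀ c ∈ chevF4.commTerms r s, c.1 ∈ I2 := by (refine of_decide_eq_true ?_; (try (rewrite [Cfsg.Agent.LsF.dMemE_pat, Cfsg.Agent.LsF.f18a75b_3.2, Cfsg.Agent.LsF.instDecEq_eq, Cfsg.Agent.LsF.dBAll_eq, Cfsg.Agent.LsF.decide_eq])); decide +kernel)

theorem neg_IV : ∀ r ∈ IV, ∀ s ∈ IV, s ≠ chevF4.neg r := by decide +kernel

theorem neg_IM : ∀ r ∈ IV, ∀ s ∈ IM, s ≠ r ∧ s ≠ chevF4.neg r := by decide +kernel

/-- commutators with `B₃` -/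
theorem tabMV : ∀ r ∈ IV, ∀ s ∈ IM, ∀ c ∈ chevF4.commTerms r s, c.1 ∈ IV := by (refine of_decide_eq_true ?_; (try (rewrite [Cfsg.Agent.LsF.dMemE_pat, Cfsg.Agent.LsF.f18a75b_3.2, Cfsg.Agent.LsF.instDecEq_eq, Cfsg.Agent.LsF.dBAll_eq, Cfsg.Agent.LsF.decide_eq])); decide +kernel)

/-- the coordinate of `γ + 7 = α₀ + γ` and the lower ones -/
theorem tabC : ∀ γ ∈ G6, ∀ r ∈ IV, ∀ β ∈ I1, β ≤ γ + 7 →
    (chevF4.commTerms r γ).filter (fun c => c.1 = β) =
      if β = γ + 7 ∧ r = 33 then [(β, (-1 : ℤ), 1, 1)] else [] := by (refine of_decide_eq_true ?_; (try (rewrite [Cfsg.Agent.LsF.f18a75b_3.2, Cfsg.Agent.LsF.nadd_pat, Cfsg.Agent.LsF.ineg_pat, Cfsg.Agent.LsF.dProdEq_eq, Cfsg.Agent.LsF.instDecEq_eq, Cfsg.Agent.LsF.decLe_eq, Cfsg.Agent.LsF.filter_eq, Cfsg.Agent.LsF.instIDecEq_eq, Cfsg.Agent.LsF.dAnd_eq, Cfsg.Agent.LsF.dBAll_eq, Cfsg.Agent.LsF.dListEq_eq, Cfsg.Agent.LsF.dAllP_eq, Cfsg.Agent.LsF.ite_eq, Cfsg.Agent.LsF.decide_eq])); decide +kernel)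

/-- the reflections -/
theorem tabR : ∀ i : Fin 4, i ≠ 0 → ∀ r ∈ IV, chevF4.reflectRoot i r ∈ IV := by decide +kernel

theorem tabR1 : ∀ i : Fin 4, i ≠ 0 → ∀ r ∈ I1, chevF4.reflectRoot i r ∈ I1 := by decide +kernel

private noncomputable def _root_.Cfsg.Agent.LsF.f18a75b_4 : {f // @Cfsg.Lie.ChevalleyDatum.simple = f} := ⟨_, by first | (delta Cfsg.Lie.ChevalleyDatum.simple; rewrite [Cfsg.Agent.LsF.agetD_eq]; exact rfl) | exact rfl⟩
private noncomputable def _root_.Cfsg.Agent.LsF.f18a75b_5 : {f // @Cfsg.Lie.ChevalleyDatum.cartan = f} := ⟨_, by first | (delta Cfsg.Lie.ChevalleyDatum.cartan; rewrite [Cfsg.Agent.LsF.agetD_eq]; exact rfl) | exact rfl⟩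
private noncomputable def _root_.Cfsg.Agent.LsF.f18a75b_6 : {f // @Cfsg.Lie.ChevalleyDatum.neg = f} := ⟨_, by first | (delta Cfsg.Lie.ChevalleyDatum.neg; rewrite [Cfsg.Agent.LsF.agetD_eq]; exact rfl) | exact rfl⟩
private noncomputable def _root_.Cfsg.Agent.LsF.f18a75b_7 : {f // @Cfsg.Lie.ChevalleyDatum.reflectRoot = f} := ⟨_, by first | (delta Cfsg.Lie.ChevalleyDatum.reflectRoot; rewrite [Cfsg.Agent.LsF.f18a75b_4.2, Cfsg.Agent.LsF.f18a75b_5.2, Cfsg.Agent.LsF.f18a75b_6.2, Cfsg.Agent.LsF.f18a75b_1.2, Cfsg.Agent.LsF.ineg_pat, Cfsg.Agent.LsF.instDecEq_eq, Cfsg.Agent.LsF.ogetD_eq, Cfsg.Agent.LsF.toNat_eq, Cfsg.Agent.LsF.idecLt_eq, Cfsg.Agent.LsF.ite_eq]; exact rfl) | exact rfl⟩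
theorem tabR2 : ∀ i : Fin 4, i ≠ 0 → ∀ r ∈ IV, chevF4.reflectRoot i (chevF4.reflectRoot i r) = r := by (refine of_decide_eq_true ?_; (try (rewrite [Cfsg.Agent.LsF.f18a75b_7.2, Cfsg.Agent.LsF.instDecEq_eq, Cfsg.Agent.LsF.dNot_eq, Cfsg.Agent.LsF.dFinEq_eq, Cfsg.Agent.LsF.dBAll_eq, Cfsg.Agent.LsF.dForallFin_eq, Cfsg.Agent.LsF.dAllP_eq, Cfsg.Agent.LsF.decide_eq])); decide +kernel)

theorem reach1 : chevF4.reflectRoot (1 : Fin 4) 33 = 34 ∧ chevF4.reflectRoot (2 : Fin 4) 34 = 35 ∧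
    chevF4.reflectRoot (3 : Fin 4) 35 = 36 ∧ chevF4.reflectRoot (1 : Fin 4) 35 = 37 ∧
    chevF4.reflectRoot (3 : Fin 4) 37 = 38 ∧ chevF4.reflectRoot (2 : Fin 4) 38 = 39 ∧
    chevF4.reflectRoot (1 : Fin 4) 39 = 40 := by decide +kernel

theorem cart33 : chevF4.cartan (1 : Fin 4) 33 = -1 := by decide +kernel

end Cfsg.Agent.H930.FC
end

-- part: H930/FC/Crd
section
/-!
# `F₄`: the coordinates of the unipotent radical of the parabolic of type `B₃` (S2464, `F₄(q)`)

* `xr r a` : the root element; `Q S` : generated by the root groups with numbers in `S`;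
* `conj_xr` : the commutator formula; `cf r u` : the coordinate of `u ∈ V` at the root `r ∈ I1`.
-/

set_option autoImplicit false
set_option linter.unusedSectionVars false

namespace Cfsg.Agent.H930.FC

open CoxeterSystem Cfsg.Agent.ChevalleyStructure.CoxeterGeom Cfsg.Agent.Tits.Roots Cfsg.Agent.Tits.Core
  Cfsg.Agent.Tits.Exchange Cfsg.Agent.Nodes.Reps Cfsg.Agent.Nodes.BNOf Cfsg.Agent.Nodes.StabComb
  Cfsg.Agent.Nodes.Bruhat Cfsg.Agent.Nodes.OppDec Cfsg.Agent.Nodes.LeviDec Cfsg.Agent.Nodes.NormX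
  Cfsg.Agent.Nodes.Coroot Cfsg.Agent.Nodes.RGDChev Cfsg.Agent.KFacts.RgdPar Cfsg.Agent.KFacts.RgdTI
  Cfsg.Agent.KFacts.RgdCent Cfsg.Agent.KFacts.RgdChevCoord Cfsg.Agent.Nodes.ChevCls
  Cfsg.Agent.OddHalf.NI.ModelChev Cfsg.Agent.H225.PPow
open Cfsg.Lie Cfsg.Agent.ChevalleyStructure Cfsg.Agent.ChevalleyStructure.Elts
  Cfsg.Agent.ChevalleyStructure.RootVec Cfsg.Agent.ChevalleyStructure.NPerm
  Cfsg.Agent.ChevalleyStructure.CoxeterGeomTypes
open Cfsg.Agent.H701.F43.Cent (hF cF)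
open Cfsg.Agent.H520.FC
open scoped commutatorElement

universe u

variable {K : Type u} [Field K]

/-- the nodes of `B₃` -/
abbrev J0 : Set (Fin 4) := {k | k ≠ 0}

/-- the root element with number `r` -/
noncomputable def xr (r : ℕ) (a : K) : ↥(chevF4.group K) := xc hF (vec chevF4 4 r) a

theorem coe_xr {r : ℕ} (hr : r < chevF4.nroots) (a : K) :
    ((xr r a : ↥(chevF4.group K)) : GL chevF4.Idx K) = xG hF.inList r a := coe_xc hF hr a

theorem xr_add {r : ℕ} (hr : r < chevF4.nroots) (a b : K) : xr r (a + b) = (xr r a * xr r b : ↥(chevF4.group K)) := by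
  apply Subtype.ext
  rw [Subgroup.coe_mul, coe_xr hr, coe_xr hr, coe_xr hr, xG_add]

theorem xr_zero {r : ℕ} (hr : r < chevF4.nroots) : xr r (0 : K) = (1 : ↥(chevF4.group K)) := by
  apply Subtype.ext
  rw [coe_xr hr, xG_zero]
  rfl

theorem xr_neg {r : ℕ} (hr : r < chevF4.nroots) (a : K) : xr r (-a) = ((xr r a)⁻¹ : ↥(chevF4.group K)) := by
  rw [eq_inv_iff_mul_eq_one, ← xr_add hr, neg_add_cancel, xr_zero hr]

theorem xr_inj {r : ℕ} (hr : r < chevF4.nroots) {a b : K} (h : (xr r a : ↥(chevF4.group K)) = xr r b) : a = b :=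
  xc_inj hF hr h

theorem xr_mem {r : ℕ} (hr : r < chevF4.nroots) (a : K) : (xr r a : ↥(chevF4.group K)) ∈ XX chevF4 4 K (vec chevF4 4 r) := by
  rw [Subgroup.mem_subgroupOf, XV_vec hF K hr, mem_rootSubgroup_iff hF.inList]
  exact ⟨a, (coe_xr hr a)⟩

theorem mem_X {r : ℕ} (hr : r < chevF4.nroots) {y : ↥(chevF4.group K)} (hy : y ∈ XX chevF4 4 K (vec chevF4 4 r)) :
    ∃ a : K, y = xr r a := by
  rw [Subgroup.mem_subgroupOf, XV_vec hF K hr, mem_rootSubgroup_iff hF.inList] at hy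
  obtain ⟨a, ha⟩ := hy
  exact ⟨a, Subtype.ext (by rw [coe_xr hr, ha])⟩

/-- the product of the letters of a commutator -/
noncomputable def wd (l : List (ℕ × ℤ × ℕ × ℕ)) (a s : K) : ↥(chevF4.group K) :=
  (l.map fun c => xr c.1 ((c.2.1 : K) * a ^ c.2.2.1 * (-s) ^ c.2.2.2)).prod

theorem wd_cons (c : ℕ × ℤ × ℕ × ℕ) (l : List (ℕ × ℤ × ℕ × ℕ)) (a s : K) :
    (wd (c :: l) a s : ↥(chevF4.group K)) = xr c.1 ((c.2.1 : K) * a ^ c.2.2.1 * (-s) ^ c.2.2.2) * wd l a s := by
  rw [wd, List.map_cons, List.prod_cons]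
  rfl

theorem coe_wd (l : List (ℕ × ℤ × ℕ × ℕ)) (hl : ∀ c ∈ l, c.1 < chevF4.nroots) (a s : K) :
    ((wd l a s : ↥(chevF4.group K)) : GL chevF4.Idx K) =
      wordG hF.inList (l.map fun c => (c.1, (c.2.1 : K) * a ^ c.2.2.1 * (-s) ^ c.2.2.2)) := by
  induction l with
  | nil => rfl
  | cons c l ih =>
    rw [wd_cons, Subgroup.coe_mul, ih fun d hd => hl d (List.mem_cons_of_mem _ hd), List.map_cons, wordG_cons,
      coe_xr (hl c List.mem_cons_self)]

/-- **The commutator formula.** -/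
theorem conj_xr {r s : ℕ} (hr : r < chevF4.nroots) (hs : s < chevF4.nroots) (h1 : s ≠ r) (h2 : s ≠ chevF4.neg r)
    (a t : K) : (xr s t * xr r a * (xr s t)⁻¹ : ↥(chevF4.group K)) = wd (chevF4.commTerms r s) a t * xr r a := by
  have hl : ∀ c ∈ chevF4.commTerms r s, c.1 < chevF4.nroots := by
    rintro ⟨v, C, i, j⟩ hv
    exact (commTerms_rt hF.checked hv).1
  have e : ⁅xG hF.inList s t, xG hF.inList r a⁆ = wordG hF.inList (chevF4.commWord K r s (-a) (-t)) := by
    rw [← comm_xG hF hr hs h1 h2, xG_inv, xG_inv, _root_.neg_neg, _root_.neg_neg]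
  have e2 : chevF4.commWord K r s (-a) (-t) =
      (chevF4.commTerms r s).map fun c => (c.1, (c.2.1 : K) * a ^ c.2.2.1 * (-t) ^ c.2.2.2) := by
    unfold ChevalleyDatum.commWord
    rw [_root_.neg_neg]
  apply Subtype.ext
  rw [Subgroup.coe_mul, Subgroup.coe_mul, Subgroup.coe_mul, Subgroup.coe_inv, coe_wd _ hl, ← e2, ← e, coe_xr hr,
    coe_xr hs, commutatorElement_def]
  group

/-! ### the groups `Q S` -/

/-- the group generated by the root groups with numbers in `S` -/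
def Q (K : Type u) [Field K] (S : Set ℕ) : Subgroup ↥(chevF4.group K) :=
  Subgroup.closure {g | ∃ r ∈ S, ∃ a : K, g = xr r a}

theorem mem_Q {S : Set ℕ} {r : ℕ} (hr : r ∈ S) (a : K) : (xr r a : ↥(chevF4.group K)) ∈ Q K S :=
  Subgroup.subset_closure ⟨r, hr, a, rfl⟩

theorem Q_le {S : Set ℕ} {H : Subgroup ↥(chevF4.group K)} (h : ∀ r ∈ S, ∀ a : K, xr r a ∈ H) : Q K S ≤ H := by
  refine (Subgroup.closure_le _).2 ?_
  rintro _ ⟨r, hr, a, rfl⟩
  exact h r hr a

theorem Q_mono {S S' : Set ℕ} (h : ∀ r ∈ S, r ∈ S') {v : ↥(chevF4.group K)} (hv : v ∈ Q K S) : v ∈ Q K S' :=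
  (Q_le fun r hr a => mem_Q (h r hr) a : Q K S ≤ Q K S') hv

theorem conj_Q {S : Set ℕ} {H : Subgroup ↥(chevF4.group K)} {g : ↥(chevF4.group K)}
    (h : ∀ r ∈ S, ∀ a : K, g * xr r a * g⁻¹ ∈ H) {v : ↥(chevF4.group K)} (hv : v ∈ Q K S) : g * v * g⁻¹ ∈ H := by
  have h1 : Q K S ≤ H.comap (MulAut.conj g).toMonoidHom := Q_le h
  exact h1 hv

theorem Sup_eq {S : Set ℕ} {N : Set (Fin 4 → ℤ)} (hS : ∀ r ∈ S, r < chevF4.nroots)
    (h : ∀ x, x ∈ N ↔ ∃ r ∈ S, x = vec chevF4 4 r) : RGD.Sup (XX chevF4 4 K) N = Q K S := by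
  apply le_antisymm
  · refine RGD.Sup_le fun x hx => ?_
    obtain ⟨r, hr, rfl⟩ := (h x).1 hx
    intro y hy
    obtain ⟨a, rfl⟩ := mem_X (hS r hr) hy
    exact mem_Q hr a
  · refine Q_le fun r hr a => ?_
    exact RGD.le_Sup ((h _).2 ⟨r, hr, rfl⟩) (xr_mem (hS r hr) a)

theorem mem_NotJ0 {x : Fin 4 → ℤ} : x ∈ NotJ cF hF.isCartan J0 ↔ IsRoot cF hF.isCartan x ∧ 0 < x 0 := by
  constructor
  · rintro ⟨h1, -, k, hk, h2⟩
    have h3 : k = 0 := by
      by_contra h
      exact hk h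
    exact ⟨h1, h3 ▸ h2⟩
  · rintro ⟨h1, h2⟩
    exact ⟨h1, nonneg_of_pos_apply h1 h2, 0, fun h => h rfl, h2⟩

theorem mem_RootsJ0 {x : Fin 4 → ℤ} : x ∈ RootsJ cF hF.isCartan J0 ↔ IsRoot cF hF.isCartan x ∧ x 0 = 0 := by
  constructor
  · rintro ⟨h1, h2⟩
    exact ⟨h1, h2 0 fun h => h rfl⟩
  · rintro ⟨h1, h2⟩
    refine ⟨h1, fun k hk => ?_⟩
    have h3 : k = 0 := by
      by_contra h
      exact hk h
    rw [h3, h2]

theorem VK_eq : VK K J0 = Q K {r | r ∈ IV} := by
  refine Sup_eq (fun r hr => lt_IV r hr) fun x => ?_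
  rw [mem_NotJ0]
  constructor
  · rintro ⟨h1, h2⟩
    obtain ⟨r, hr, rfl⟩ := (isRoot_iff hF cF x).1 h1
    exact ⟨r, (tabV r hr).1 h2, rfl⟩
  · rintro ⟨r, hr, rfl⟩
    exact ⟨(isRoot_iff hF cF _).2 ⟨r, lt_IV r hr, rfl⟩, (tabV r (lt_IV r hr)).2 hr⟩

theorem V2_eq : RGD.Sup (XX chevF4 4 K) {x | x ∈ NotJ cF hF.isCartan {k | k ≠ 0} ∧ 2 ≤ x 0} = Q K {r | r ∈ I2} := by
  refine Sup_eq (fun r hr => lt_IV r (I2_sub r hr)) fun x => ?_
  show (x ∈ NotJ cF hF.isCartan J0 ∧ 2 ≤ x 0) ↔ _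
  rw [mem_NotJ0]
  constructor
  · rintro ⟨⟨h1, -⟩, h2⟩
    obtain ⟨r, hr, rfl⟩ := (isRoot_iff hF cF x).1 h1
    exact ⟨r, (tab2 r hr).1 h2, rfl⟩
  · rintro ⟨r, hr, rfl⟩
    have h1 := lt_IV r (I2_sub r hr)
    exact ⟨⟨(isRoot_iff hF cF _).2 ⟨r, h1, rfl⟩, (tabV r h1).2 (I2_sub r hr)⟩, (tab2 r h1).2 hr⟩

/-! ### conjugation -/

theorem wd_mem {l : List (ℕ × ℤ × ℕ × ℕ)} {S : Set ℕ} (hl : ∀ c ∈ l, c.1 ∈ S) (a t : K) : wd l a t ∈ Q K S := by
  induction l with
  | nil => exact one_mem _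
  | cons c l ih =>
    rw [wd_cons]
    exact mul_mem (mem_Q (hl c List.mem_cons_self) _) (ih fun d hd => hl d (List.mem_cons_of_mem _ hd))

/-- the sets between `I2` and `IV` give normal subgroups -/
theorem nrm {S : Set ℕ} (h2 : ∀ r ∈ I2, r ∈ S) (hS : ∀ r ∈ S, r ∈ IV) {g v : ↥(chevF4.group K)}
    (hg : g ∈ Q K {r | r ∈ IV}) (hv : v ∈ Q K S) : g * v * g⁻¹ ∈ Q K S := by
  have key : ∀ s ∈ IV, ∀ t : K, ∀ v ∈ Q K S, xr s t * v * (xr s t)⁻¹ ∈ Q K S := by
    intro s hs t v hv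
    refine conj_Q (fun r hr a => ?_) hv
    by_cases h : s = r
    · subst h
      have e : (xr s t * xr s a * (xr s t)⁻¹ : ↥(chevF4.group K)) = xr s a := by
        rw [← xr_add (lt_IV s hs), add_comm, xr_add (lt_IV s hs)]; group
      rw [e]
      exact mem_Q hr a
    · rw [conj_xr (lt_IV r (hS r hr)) (lt_IV s hs) h (neg_IV r (hS r hr) s hs)]
      exact mul_mem (wd_mem (fun c hc => h2 _ (tabVV r (hS r hr) s hs c hc)) _ _) (mem_Q hr a)
  have h1 : Q K {r | r ∈ IV} ≤ Subgroup.normalizer (Q K S : Set ↥(chevF4.group K)) := by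
    refine Q_le fun s hs t => ?_
    rw [Subgroup.mem_normalizer_iff]
    intro v
    refine ⟨key s hs t v, fun hv => ?_⟩
    have h3 := key s hs (-t) _ hv
    rw [xr_neg (lt_IV s hs)] at h3
    have e : (xr s t)⁻¹ * (xr s t * v * (xr s t)⁻¹) * ((xr s t)⁻¹)⁻¹ = v := by group
    rwa [e] at h3
  exact (Subgroup.mem_normalizer_iff.1 (h1 hg) v).1 hv

/-- the roots of `V` except `β` -/
abbrev Nb (β : ℕ) : Set ℕ := {r | r ∈ IV ∧ r ≠ β}

theorem Nb_two {β : ℕ} (hβ : β ∈ I1) : ∀ r ∈ I2, r ∈ Nb β :=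
  fun r hr => ⟨I2_sub r hr, fun h => I1_not β hβ (h ▸ hr)⟩

/-- a decomposition -/
theorem dec {S : Set ℕ} {β : ℕ} (h2 : ∀ r ∈ I2, r ∈ S \ {β}) (hS : ∀ r ∈ S, r ∈ IV) (hβ : β ∈ S)
    {u : ↥(chevF4.group K)} (hu : u ∈ Q K S) : ∃ a : K, ∃ v ∈ Q K (S \ {β}), u = xr β a * v := by
  have hβ' := hS β hβ
  unfold Q at hu
  induction hu using Subgroup.closure_induction with
  | mem x hx =>
    obtain ⟨r, hr, a, rfl⟩ := hx
    by_cases h : r = β
    · subst h
      exact ⟨a, 1, one_mem _, (mul_one _).symm⟩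
    · exact ⟨0, xr r a, mem_Q (S := S \ {β}) ⟨hr, h⟩ a, by rw [xr_zero (lt_IV β hβ'), one_mul]⟩
  | one => exact ⟨0, 1, one_mem _, by rw [xr_zero (lt_IV β hβ'), one_mul]⟩
  | mul x y _ _ ihx ihy =>
    obtain ⟨a, v, hv, rfl⟩ := ihx
    obtain ⟨b, w, hw, rfl⟩ := ihy
    refine ⟨a + b, xr β (-b) * v * (xr β (-b))⁻¹ * w, mul_mem (nrm h2 (fun r hr => hS r hr.1) (mem_Q hβ' _) hv) hw, ?_⟩
    rw [xr_add (lt_IV β hβ'), xr_neg (lt_IV β hβ')]
    group
  | inv x _ ih =>
    obtain ⟨a, v, hv, rfl⟩ := ih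
    refine ⟨-a, xr β a * v⁻¹ * (xr β a)⁻¹, nrm h2 (fun r hr => hS r hr.1) (mem_Q hβ' _) (inv_mem hv), ?_⟩
    rw [xr_neg (lt_IV β hβ')]
    group

/-! ### the reflections -/

theorem refl_xr {i : Fin 4} {r : ℕ} (hr : r < chevF4.nroots) : ∃ c : K, c ≠ 0 ∧ ∀ a,
    nc hF K i * xr r a * (nc hF K i)⁻¹ = xr (chevF4.reflectRoot i r) (c * a) := nact hF hr

theorem refl_Q {i : Fin 4} {S S' : Set ℕ} (hS : ∀ r ∈ S, r ∈ IV) (h : ∀ r ∈ S, chevF4.reflectRoot i r ∈ S')
    {v : ↥(chevF4.group K)} (hv : v ∈ Q K S) : nc hF K i * v * (nc hF K i)⁻¹ ∈ Q K S' := by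
  refine conj_Q (fun r hr a => ?_) hv
  obtain ⟨c, -, hc⟩ := refl_xr (K := K) (i := i) (lt_IV r (hS r hr))
  rw [hc]
  exact mem_Q (h r hr) _

theorem refl_Nb {i : Fin 4} (hi : i ≠ 0) {β : ℕ} (_hβ : β ∈ IV) {v : ↥(chevF4.group K)} (hv : v ∈ Q K (Nb β)) :
    nc hF K i * v * (nc hF K i)⁻¹ ∈ Q K (Nb (chevF4.reflectRoot i β)) := by
  refine refl_Q (S := Nb β) (S' := Nb (chevF4.reflectRoot i β)) (fun r hr => hr.1)
    (fun r hr => ⟨tabR i hi r hr.1, fun h => hr.2 ?_⟩) hv
  rw [← tabR2 i hi r hr.1, h, tabR2 i hi β _hβ]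

variable [Finite K]

/-- disjointness -/
theorem disj33 {a : K} (h : (xr 33 a : ↥(chevF4.group K)) ∈ Q K (Nb 33)) : a = 0 := by
  obtain ⟨p, hpc⟩ := CharP.exists K
  have : Fact p.Prime := ⟨CharP.char_is_prime K p⟩
  have : Finite CoxeterMatrix.F₄.Group := finite_W hF cF
  have R := rgd (K := K) hF cF p
  have h33 : 33 < chevF4.nroots := by rw [nroots]; norm_num
  have e33 : vec chevF4 4 33 = sr (0 : Fin 4) := by rw [← simple0]; exact vec_simple hF 0
  have h1 : (xr 33 a : ↥(chevF4.group K)) ∈ XX chevF4 4 K (sr (0 : Fin 4)) := by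
    rw [← e33]
    exact xr_mem h33 a
  have h2 : Q K (Nb 33) ≤ RGD.Sup (XX chevF4 4 K) (RGD.PosNe cF hF.isCartan 0) := by
    refine Q_le fun r hr b => ?_
    refine RGD.le_Sup ?_ (xr_mem (lt_IV r hr.1) b)
    have h3 : vec chevF4 4 r ∈ NotJ cF hF.isCartan J0 :=
      mem_NotJ0.2 ⟨(isRoot_iff hF cF _).2 ⟨r, lt_IV r hr.1, rfl⟩, (tabV r (lt_IV r hr.1)).2 hr.1⟩
    refine ⟨h3.1, h3.2.1, fun h4 => hr.2 ?_⟩
    rw [← e33] at h4
    exact vec_inj hF (lt_IV r hr.1) h33 h4
  have h3 := eq_one_of_mem_PosNe R h1 (h2 h)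
  rw [← xr_zero h33] at h3
  exact xr_inj h33 h3

theorem disj_refl {i : Fin 4} (hi : i ≠ 0) {β : ℕ} (hβ : β ∈ IV)
    (h : ∀ a : K, (xr β a : ↥(chevF4.group K)) ∈ Q K (Nb β) → a = 0) {a : K}
    (ha : (xr (chevF4.reflectRoot i β) a : ↥(chevF4.group K)) ∈ Q K (Nb (chevF4.reflectRoot i β))) : a = 0 := by
  have h1 := refl_Nb hi (tabR i hi β hβ) ha
  obtain ⟨c, hc0, hc⟩ := refl_xr (K := K) (i := i) (lt_IV _ (tabR i hi β hβ))
  rw [hc, tabR2 i hi β hβ] at h1
  exact (mul_eq_zero.1 (h _ h1)).resolve_left hc0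

/-- everything on `I1` is reached from `33` -/
theorem reach {C : ℕ → Prop} (h0 : C 33) (hC : ∀ i : Fin 4, i ≠ 0 → ∀ r ∈ I1, C r → C (chevF4.reflectRoot i r)) :
    ∀ r ∈ I1, C r := by
  obtain ⟨e1, e2, e3, e4, e5, e6, e7⟩ := reach1
  have h1 : C 34 := e1 ▸ hC 1 (by decide) 33 (by decide) h0
  have h2 : C 35 := e2 ▸ hC 2 (by decide) 34 (by decide) h1
  have h3 : C 36 := e3 ▸ hC 3 (by decide) 35 (by decide) h2
  have h4 : C 37 := e4 ▸ hC 1 (by decide) 35 (by decide) h2
  have h5 : C 38 := e5 ▸ hC 3 (by decide) 37 (by decide) h4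
  have h6 : C 39 := e6 ▸ hC 2 (by decide) 38 (by decide) h5
  have h7 : C 40 := e7 ▸ hC 1 (by decide) 39 (by decide) h6
  intro r hr
  simp only [I1, List.mem_cons, List.not_mem_nil, or_false] at hr
  rcases hr with rfl | rfl | rfl | rfl | rfl | rfl | rfl | rfl <;> assumption

theorem disj : ∀ β ∈ I1, ∀ a : K, (xr β a : ↥(chevF4.group K)) ∈ Q K (Nb β) → a = 0 := by
  refine reach (fun a => disj33) fun i hi r hr h a ha => ?_
  exact disj_refl hi (I1_sub r hr) h ha

/-! ### the coordinates -/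

open Classical in
/-- the coordinate at `β` -/
noncomputable def cf (β : ℕ) (u : ↥(chevF4.group K)) : K :=
  if h : ∃ a : K, ∃ v ∈ Q K (Nb β), u = xr β a * v then h.choose else 0

theorem cf_eq {β : ℕ} (hβ : β ∈ I1) (a : K) {v : ↥(chevF4.group K)} (hv : v ∈ Q K (Nb β)) : cf β (xr β a * v) = a := by
  have h : ∃ b : K, ∃ w ∈ Q K (Nb β), xr β a * v = xr β b * w := ⟨a, v, hv, rfl⟩
  have h1 : cf β (xr β a * v) = h.choose := dif_pos h
  obtain ⟨w, hw, e⟩ := h.choose_spec
  rw [h1]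
  have hlt := lt_IV β (I1_sub β hβ)
  generalize h.choose = b at e ⊢
  have h2 : (xr β (-b + a) : ↥(chevF4.group K)) = w * v⁻¹ := by
    rw [xr_add hlt, xr_neg hlt, eq_mul_inv_iff_mul_eq, mul_assoc, e, inv_mul_cancel_left]
  have h3 := disj β hβ (-b + a) (by rw [h2]; exact mul_mem hw (inv_mem hv))
  exact (neg_add_eq_zero.1 h3)

theorem cf_spec {β : ℕ} (hβ : β ∈ I1) {u : ↥(chevF4.group K)} (hu : u ∈ Q K {r | r ∈ IV}) :
    ∃ v ∈ Q K (Nb β), u = xr β (cf β u) * v := by
  obtain ⟨a, v, hv, rfl⟩ := dec (β := β) (S := {r | r ∈ IV}) (fun r hr => Nb_two hβ r hr) (fun _ h => h) (I1_sub β hβ) hu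
  exact ⟨v, hv, by rw [cf_eq hβ a hv]⟩

theorem cf_mul {β : ℕ} (hβ : β ∈ I1) {u v : ↥(chevF4.group K)} (hu : u ∈ Q K {r | r ∈ IV})
    (hv : v ∈ Q K {r | r ∈ IV}) : cf β (u * v) = cf β u + cf β v := by
  have hlt := lt_IV β (I1_sub β hβ)
  obtain ⟨m, hm, e1⟩ := cf_spec hβ hu
  obtain ⟨m', hm', e2⟩ := cf_spec hβ hv
  have e : u * v = xr β (cf β u + cf β v) * (xr β (-cf β v) * m * (xr β (-cf β v))⁻¹ * m') := by
    rw [xr_add hlt, xr_neg hlt]
    nth_rw 1 [e1, e2]
    group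
  rw [e]
  exact cf_eq hβ _ (mul_mem (nrm (Nb_two hβ) (fun r hr => hr.1) (mem_Q (I1_sub β hβ) _) hm) hm')

theorem cf_of_mem {β : ℕ} (hβ : β ∈ I1) {u : ↥(chevF4.group K)} (hu : u ∈ Q K (Nb β)) : cf β u = 0 := by
  have h1 := cf_eq hβ (0 : K) hu
  rwa [xr_zero (lt_IV β (I1_sub β hβ)), one_mul] at h1

theorem cf_one {β : ℕ} (hβ : β ∈ I1) : cf β (1 : ↥(chevF4.group K)) = 0 := cf_of_mem hβ (one_mem _)

theorem cf_inv {β : ℕ} (hβ : β ∈ I1) {u : ↥(chevF4.group K)} (hu : u ∈ Q K {r | r ∈ IV}) :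
    cf β u⁻¹ = -cf β u := by
  have h1 := cf_mul hβ (inv_mem hu) hu
  rw [inv_mul_cancel, cf_one hβ] at h1
  exact (neg_eq_of_add_eq_zero_left h1.symm).symm

theorem cf_self {β : ℕ} (hβ : β ∈ I1) (a : K) : cf β (xr β a : ↥(chevF4.group K)) = a := by
  have h1 := cf_eq hβ a (one_mem (Q K (Nb β)))
  rwa [mul_one] at h1

theorem cf_ne {β r : ℕ} (hβ : β ∈ I1) (hr : r ∈ IV) (h : r ≠ β) (a : K) : cf β (xr r a : ↥(chevF4.group K)) = 0 :=
  cf_of_mem hβ (mem_Q (S := Nb β) ⟨hr, h⟩ a)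

/-- an element all of whose coordinates vanish -/
theorem mem_two {u : ↥(chevF4.group K)} (hu : u ∈ Q K {r | r ∈ IV}) (h : ∀ β ∈ I1, cf β u = 0) :
    u ∈ Q K {r | r ∈ I2} := by
  have key : ∀ l : List ℕ, (∀ β ∈ l, β ∈ I1) → u ∈ Q K {r | r ∈ IV ∧ r ∉ l} := by
    intro l
    induction l with
    | nil =>
      intro _
      exact Q_mono (S := {r | r ∈ IV}) (S' := {r | r ∈ IV ∧ r ∉ []}) (fun r hr => ⟨hr, List.not_mem_nil⟩) hu
    | cons β l ih =>
      intro hl
      have hβ : β ∈ I1 := hl β List.mem_cons_self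
      have h1 := ih fun γ hγ => hl γ (List.mem_cons_of_mem _ hγ)
      by_cases hm : β ∈ l
      · refine Q_mono (S := {r | r ∈ IV ∧ r ∉ l}) (S' := {r | r ∈ IV ∧ r ∉ β :: l}) (fun r hr => ⟨hr.1, fun h2 => ?_⟩) h1
        rcases List.mem_cons.1 h2 with h3 | h3
        · exact hr.2 (h3 ▸ hm)
        · exact hr.2 h3
      · obtain ⟨a, v, hv, e⟩ := dec (β := β) (S := {r | r ∈ IV ∧ r ∉ l})
          (fun r hr => ⟨⟨I2_sub r hr, fun h2 => I1_not r (hl r (List.mem_cons_of_mem _ h2)) hr⟩,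
            fun h2 => I1_not β hβ (h2 ▸ hr)⟩) (fun _ h => h.1) ⟨I1_sub β hβ, hm⟩ h1
        have h3 : v ∈ Q K (Nb β) :=
          Q_mono (S := {r | r ∈ IV ∧ r ∉ l} \ {β}) (S' := Nb β) (fun r hr => ⟨hr.1.1, hr.2⟩) hv
        have h4 : cf β u = a := by rw [e]; exact cf_eq hβ a h3
        have h5 : a = 0 := by rw [← h4]; exact h β hβ
        rw [e, h5, xr_zero (lt_IV β (I1_sub β hβ)), one_mul]
        refine Q_mono (S := {r | r ∈ IV ∧ r ∉ l} \ {β}) (S' := {r | r ∈ IV ∧ r ∉ β :: l})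
          (fun r hr => ⟨hr.1.1, fun h6 => ?_⟩) hv
        rcases List.mem_cons.1 h6 with h7 | h7
        · exact hr.2 h7
        · exact hr.1.2 h7
  refine Q_mono (fun r hr => ?_) (key I1 fun _ h => h)
  exact (IV_cases r hr.1).resolve_left hr.2

end Cfsg.Agent.H930.FC
end

-- part: H930/FC/Spin
section
/-!
# `F₄`: the classes of the elements of `V` outside of the second layer (S2464, `F₄(q)`)

`V` the unipotent radical of the parabolic `P` of type `B₃`.  `spin` : the class under `P` of `u ∈ V`, not in the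
second layer, has at least `(q - 1) q⁶` elements.
-/

set_option autoImplicit false
set_option linter.unusedSectionVars false

namespace Cfsg.Agent.H930.FC

open CoxeterSystem Cfsg.Agent.ChevalleyStructure.CoxeterGeom Cfsg.Agent.Tits.Roots Cfsg.Agent.Tits.Core
  Cfsg.Agent.Tits.Exchange Cfsg.Agent.Nodes.Reps Cfsg.Agent.Nodes.BNOf Cfsg.Agent.Nodes.StabComb
  Cfsg.Agent.Nodes.Bruhat Cfsg.Agent.Nodes.OppDec Cfsg.Agent.Nodes.LeviDec Cfsg.Agent.Nodes.NormX
  Cfsg.Agent.Nodes.Coroot Cfsg.Agent.Nodes.RGDChev Cfsg.Agent.KFacts.RgdPar Cfsg.Agent.KFacts.RgdTI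
  Cfsg.Agent.KFacts.RgdCent Cfsg.Agent.KFacts.RgdChevCoord Cfsg.Agent.Nodes.ChevCls
  Cfsg.Agent.OddHalf.NI.ModelChev Cfsg.Agent.H225.PPow
open Cfsg.Lie Cfsg.Agent.ChevalleyStructure Cfsg.Agent.ChevalleyStructure.Elts
  Cfsg.Agent.ChevalleyStructure.RootVec Cfsg.Agent.ChevalleyStructure.NPerm
  Cfsg.Agent.ChevalleyStructure.CoxeterGeomTypes
open Cfsg.Agent.H701.F43.Cent (hF cF)
open Cfsg.Agent.H520.FC

universe u

variable {K : Type u} [Field K]

/-- `V` -/
abbrev Vq (K : Type u) [Field K] : Subgroup ↥(chevF4.group K) := Q K {r | r ∈ IV}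

/-! ### elements of `P` -/

theorem xr_mem_PK {r : ℕ} (hr : r ∈ IM) (a : K) : (xr r a : ↥(chevF4.group K)) ∈ PK K J0 := by
  refine LJ_le_PJ (X_le_LJ ?_ (xr_mem (lt_IM r hr) a))
  exact mem_RootsJ0.2 ⟨(isRoot_iff hF cF _).2 ⟨r, lt_IM r hr, rfl⟩, (tabM r (lt_IM r hr)).2 hr⟩

variable [Finite K]

theorem nc_mem_PK {i : Fin 4} (hi : i ≠ 0) : nc hF K i ∈ PK K J0 := by
  obtain ⟨p, hpc⟩ := CharP.exists K
  have : Fact p.Prime := ⟨CharP.char_is_prime K p⟩
  exact LJ_le_PJ (n_mem_LJ (rgd (K := K) hF cF p) (J := J0) hi)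

theorem T_le_PK : TT chevF4 K ≤ PK K J0 := le_trans T_le_LJ LJ_le_PJ

theorem conj_V {g v : ↥(chevF4.group K)} (hg : g ∈ PK K J0) (hv : v ∈ Vq K) : g * v * g⁻¹ ∈ Vq K := by
  obtain ⟨p, hpc⟩ := CharP.exists K
  have : Fact p.Prime := ⟨CharP.char_is_prime K p⟩
  have h1 := PJ_le_normalizer_VJ (rgd (K := K) hF cF p) J0 hg
  have h2 := (Subgroup.mem_normalizer_iff.1 h1 v).1
  have e : (VJ cF hF.isCartan (XX chevF4 4 K) J0 : Subgroup ↥(chevF4.group K)) = Vq K := VK_eq
  have h3 : ∀ w : ↥(chevF4.group K), w ∈ VJ cF hF.isCartan (XX chevF4 4 K) J0 ↔ w ∈ Vq K := fun w => by rw [e]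
  exact (h3 _).1 (h2 ((h3 _).2 hv))

/-! ### the coordinates after conjugation -/

theorem cf_refl {i : Fin 4} (hi : i ≠ 0) {β : ℕ} (hβ : β ∈ I1) {u : ↥(chevF4.group K)} (hu : u ∈ Vq K)
    (h : cf β u ≠ 0) : cf (chevF4.reflectRoot i β) (nc hF K i * u * (nc hF K i)⁻¹) ≠ 0 := by
  obtain ⟨v, hv, e⟩ := cf_spec hβ hu
  obtain ⟨c, hc0, hc⟩ := refl_xr (K := K) (i := i) (lt_IV _ (I1_sub β hβ))
  have e2 : nc hF K i * u * (nc hF K i)⁻¹ =
      xr (chevF4.reflectRoot i β) (c * cf β u) * (nc hF K i * v * (nc hF K i)⁻¹) := by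
    rw [← hc]
    nth_rw 1 [e]
    group
  rw [e2, cf_eq (tabR1 i hi β hβ) _ (refl_Nb hi (I1_sub β hβ) hv)]
  exact mul_ne_zero hc0 h

/-- a nonzero coordinate can be moved to `33` -/
theorem move : ∀ β ∈ I1, ∀ u ∈ Vq K, cf β u ≠ 0 → ∃ g ∈ PK K J0, cf 33 (g * u * g⁻¹) ≠ 0 := by
  refine reach ?_ ?_
  · intro u _ h
    exact ⟨1, one_mem _, by rwa [one_mul, inv_one, mul_one]⟩
  · intro i hi r hr ih u hu h
    have h1 := cf_refl hi (tabR1 i hi r hr) hu h
    rw [tabR2 i hi r (I1_sub r hr)] at h1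
    obtain ⟨g, hg, h2⟩ := ih _ (conj_V (nc_mem_PK hi) hu) h1
    refine ⟨g * nc hF K i, mul_mem hg (nc_mem_PK hi), ?_⟩
    have e : g * nc hF K i * u * (g * nc hF K i)⁻¹ = g * (nc hF K i * u * (nc hF K i)⁻¹) * g⁻¹ := by group
    rwa [e]

/-- the torus -/
theorem cf_torus {b : K} (hb : b ≠ 0) {u : ↥(chevF4.group K)} (hu : u ∈ Vq K) :
    cf 33 (hc hF 1 b * u * (hc hF 1 b)⁻¹) = b⁻¹ * cf 33 u := by
  have h33 : 33 ∈ I1 := by decide
  obtain ⟨v, hv, e⟩ := cf_spec h33 hu
  have ht : hc hF 1 b ∈ TT chevF4 K := hc_mem hF 1 hb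
  have h1 : ∀ r ∈ IV, ∀ a : K, hc hF 1 b * xr r a * (hc hF 1 b)⁻¹ = xr r (ch hF (vec chevF4 4 r) (hc hF 1 b) * a) :=
    fun r hr a => (act hF (lt_IV r hr) ht).2 a
  have h2 : hc hF 1 b * v * (hc hF 1 b)⁻¹ ∈ Q K (Nb 33) := by
    refine conj_Q (fun r hr a => ?_) hv
    rw [h1 r hr.1]
    exact mem_Q hr _
  have e2 : hc hF 1 b * u * (hc hF 1 b)⁻¹ = xr 33 (b⁻¹ * cf 33 u) * (hc hF 1 b * v * (hc hF 1 b)⁻¹) := by
    have h3 := h1 33 (I1_sub 33 h33) (cf 33 u)
    rw [ch_hc hF 1 hb (lt_IV 33 (I1_sub 33 h33)), cart33, zpow_neg_one] at h3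
    rw [← h3]
    nth_rw 1 [e]
    group
  rw [e2, cf_eq h33 _ h2]

theorem cf_wd {β : ℕ} (hβ : β ∈ I1) (a s : K) : ∀ l : List (ℕ × ℤ × ℕ × ℕ), (∀ c ∈ l, c.1 ∈ IV) →
    cf β (wd l a s : ↥(chevF4.group K)) =
      ((l.filter fun c => c.1 = β).map fun c => (c.2.1 : K) * a ^ c.2.2.1 * (-s) ^ c.2.2.2).sum := by
  intro l
  induction l with
  | nil => intro _; exact cf_one hβ
  | cons c l ih =>
    intro hl
    have h1 : ∀ c ∈ l, c.1 ∈ IV := fun d hd => hl d (List.mem_cons_of_mem _ hd)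
    have h2 : c.1 ∈ IV := hl c List.mem_cons_self
    rw [wd_cons, cf_mul hβ (mem_Q h2 _) (wd_mem h1 _ _), ih h1]
    by_cases h : c.1 = β
    · rw [List.filter_cons_of_pos (by simpa using h), List.map_cons, List.sum_cons]
      congr 1
      rw [h]
      exact cf_self hβ _
    · rw [List.filter_cons_of_neg (by simpa using h), cf_ne hβ h2 h, zero_add]

/-- the action of `x_γ(s)` on the coordinates up to `γ + 7` -/
theorem cf_conj {γ β : ℕ} (hγ : γ ∈ G6) (hβ : β ∈ I1) (hle : β ≤ γ + 7) (s : K) {u : ↥(chevF4.group K)}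
    (hu : u ∈ Vq K) : cf β (xr γ s * u * (xr γ s)⁻¹) = cf β u + (if β = γ + 7 then s * cf 33 u else 0) := by
  have h33 : 33 ∈ I1 := by decide
  have hP : (xr γ s : ↥(chevF4.group K)) ∈ PK K J0 := xr_mem_PK (G6_sub γ hγ) s
  have hu' : u ∈ Vq K := hu
  unfold Vq Q at hu
  induction hu using Subgroup.closure_induction with
  | mem x hx =>
    obtain ⟨r, hr, a, rfl⟩ := hx
    have hr' : r ∈ IV := hr
    obtain ⟨n1, n2⟩ := neg_IM r hr' γ (G6_sub γ hγ)
    have h1 : ∀ c ∈ chevF4.commTerms r γ, c.1 ∈ IV := tabMV r hr' γ (G6_sub γ hγ)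
    rw [conj_xr (lt_IV r hr') (lt_IM γ (G6_sub γ hγ)) n1 n2, cf_mul hβ (wd_mem h1 _ _) (mem_Q hr' _),
      cf_wd hβ _ _ _ h1, tabC γ hγ r hr' β hβ hle, add_comm]
    congr 1
    by_cases hb : β = γ + 7
    · rw [if_pos hb]
      by_cases h3 : r = 33
      · rw [if_pos ⟨hb, h3⟩, h3, cf_self h33]
        simp [mul_comm]
      · rw [if_neg (fun h => h3 h.2), cf_ne h33 hr' h3]
        simp
    · rw [if_neg hb, if_neg (fun h => hb h.1)]
      simp
  | one =>
    rw [mul_one, mul_inv_cancel, cf_one hβ, cf_one h33]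
    simp
  | mul x y hx hy ihx ihy =>
    have e : xr γ s * (x * y) * (xr γ s)⁻¹ = (xr γ s * x * (xr γ s)⁻¹) * (xr γ s * y * (xr γ s)⁻¹) := by group
    have hx' : x ∈ Vq K := hx
    have hy' : y ∈ Vq K := hy
    rw [e, cf_mul hβ (conj_V hP hx') (conj_V hP hy'), ihx hx', ihy hy', cf_mul hβ hx' hy', cf_mul h33 hx' hy']
    split_ifs <;> ring
  | inv x hx ih =>
    have e : xr γ s * x⁻¹ * (xr γ s)⁻¹ = (xr γ s * x * (xr γ s)⁻¹)⁻¹ := by group
    have hx' : x ∈ Vq K := hx
    rw [e, cf_inv hβ (conj_V hP hx'), ih hx', cf_inv hβ hx', cf_inv h33 hx']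
    split_ifs <;> ring

/-- the coordinates `34, ..` one after the other -/
theorem run (b : ℕ → K) : ∀ n ≤ 6, ∀ u ∈ Vq K, cf 33 u ≠ 0 → b 33 = cf 33 u →
    ∃ g ∈ PK K J0, ∀ β, 33 ≤ β → β < 34 + n → cf β (g * u * g⁻¹) = b β := by
  intro n
  induction n with
  | zero =>
    intro _ u _ _ hb
    refine ⟨1, one_mem _, fun β h1 h2 => ?_⟩
    obtain rfl : β = 33 := by omega
    rw [one_mul, inv_one, mul_one, hb]
  | succ n ih =>
    intro hn u hu h0 hb
    obtain ⟨g, hg, h1⟩ := ih (by omega) u hu h0 hb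
    have hγ : 27 + n ∈ G6 := by
      have : n ≤ 5 := by omega
      interval_cases n <;> decide
    have hI : ∀ β, 33 ≤ β → β < 41 → β ∈ I1 := by
      intro β h2 h3
      interval_cases β <;> decide
    have hc : cf 33 (g * u * g⁻¹) ≠ 0 := by rw [h1 33 le_rfl (by omega), hb]; exact h0
    have hgu := conj_V hg hu
    set s : K := (b (34 + n) - cf (34 + n) (g * u * g⁻¹)) / cf 33 (g * u * g⁻¹) with hs
    refine ⟨xr (27 + n) s * g, mul_mem (xr_mem_PK (G6_sub _ hγ) s) hg, fun β h2 h3 => ?_⟩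
    have e : xr (27 + n) s * g * u * (xr (27 + n) s * g)⁻¹ = xr (27 + n) s * (g * u * g⁻¹) * (xr (27 + n) s)⁻¹ := by
      group
    rw [e, cf_conj hγ (hI β h2 (by omega)) (by omega) s hgu]
    by_cases h4 : β = 34 + n
    · rw [if_pos (by omega), hs, div_mul_cancel₀ _ hc, h4]
      ring
    · rw [if_neg (by omega), add_zero]
      exact h1 β h2 (by omega)

/-- all the coordinates -/
theorem run' (b : ℕ → K) (hb : b 33 ≠ 0) {u : ↥(chevF4.group K)} (hu : u ∈ Vq K) (h0 : cf 33 u ≠ 0) :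
    ∃ g ∈ PK K J0, ∀ β, 33 ≤ β → β < 40 → cf β (g * u * g⁻¹) = b β := by
  have hl : cf 33 u / b 33 ≠ 0 := div_ne_zero h0 hb
  have ht : hc hF 1 (cf 33 u / b 33) ∈ PK K J0 := T_le_PK (hc_mem hF 1 hl)
  have h1 : cf 33 (hc hF 1 (cf 33 u / b 33) * u * (hc hF 1 (cf 33 u / b 33))⁻¹) = b 33 := by
    rw [cf_torus hl hu, inv_div, div_mul_cancel₀ _ h0]
  obtain ⟨g, hg, h2⟩ := run b 6 le_rfl _ (conj_V ht hu) (by rw [h1]; exact hb) h1.symm
  refine ⟨g * hc hF 1 (cf 33 u / b 33), mul_mem hg ht, fun β h3 h4 => ?_⟩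
  have e : g * hc hF 1 (cf 33 u / b 33) * u * (g * hc hF 1 (cf 33 u / b 33))⁻¹ =
      g * (hc hF 1 (cf 33 u / b 33) * u * (hc hF 1 (cf 33 u / b 33))⁻¹) * g⁻¹ := by group
  rw [e]
  exact h2 β h3 (by omega)

theorem card_ne_zero (q : ℕ) (hq : Nat.card K = q) : Nat.card {a : K // a ≠ 0} = q - 1 := by
  classical
  have := Fintype.ofFinite K
  have h1 : Fintype.card {a : K // a ≠ 0} = Fintype.card K - 1 := by
    rw [Fintype.card_subtype_compl]
    simp
  rw [Nat.card_eq_fintype_card, h1, ← hq, Nat.card_eq_fintype_card]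

theorem cls_finite (P : Subgroup ↥(chevF4.group K)) (u : ↥(chevF4.group K)) : Finite ↥(cls P u) := by
  have : Finite ↥(chevF4.group K) := inferInstance
  infer_instance

/-- **The spin layer.** -/
theorem spin {u : ↥(chevF4.group K)} (hu : u ∈ VK K J0)
    (h : u ∉ RGD.Sup (XX chevF4 4 K) {x | x ∈ NotJ cF hF.isCartan {k | k ≠ 0} ∧ 2 ≤ x 0}) :
    (Nat.card K - 1) * Nat.card K ^ 6 ≤ Nat.card ↥(cls (PK K J0) u) := by
  rw [VK_eq] at hu
  rw [V2_eq] at h
  obtain ⟨β, hβ, h1⟩ : ∃ β ∈ I1, cf β u ≠ 0 := by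
    by_contra hne
    push Not at hne
    exact h (mem_two hu hne)
  obtain ⟨k, hk, h2⟩ := move β hβ u hu h1
  have hku := conj_V hk hu
  have key : ∀ f : {a : K // a ≠ 0} × (Fin 6 → K), ∃ x : ↥(cls (PK K J0) u),
      cf 33 (x : ↥(chevF4.group K)) = f.1 ∧ ∀ i : Fin 6, cf (34 + i) (x : ↥(chevF4.group K)) = f.2 i := by
    intro f
    let b : ℕ → K := fun n => if n = 33 then f.1 else if hn : n - 34 < 6 then f.2 ⟨n - 34, hn⟩ else 0
    have hb : b 33 = f.1 := if_pos rfl
    obtain ⟨g, hg, h3⟩ := run' b (by rw [hb]; exact f.1.2) hku h2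
    refine ⟨⟨g * k * u * (g * k)⁻¹, g * k, mul_mem hg hk, rfl⟩, ?_, fun i => ?_⟩
    · have e : g * k * u * (g * k)⁻¹ = g * (k * u * k⁻¹) * g⁻¹ := by group
      show cf 33 (g * k * u * (g * k)⁻¹) = _
      rw [e, h3 33 le_rfl (by omega), hb]
    · have e : g * k * u * (g * k)⁻¹ = g * (k * u * k⁻¹) * g⁻¹ := by group
      show cf (34 + i) (g * k * u * (g * k)⁻¹) = _
      have hi := i.2
      rw [e, h3 (34 + i) (by omega) (by omega)]
      show (if 34 + (i : ℕ) = 33 then (f.1 : K) else if hn : 34 + (i : ℕ) - 34 < 6 then f.2 ⟨34 + (i : ℕ) - 34, hn⟩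
        else 0) = _
      rw [if_neg (by omega), dif_pos (by omega)]
      refine congrArg f.2 (Fin.ext ?_)
      show 34 + (i : ℕ) - 34 = i
      omega
  choose F hF1 hF2 using key
  have hinj : Function.Injective F := by
    rintro ⟨a, v⟩ ⟨a', v'⟩ e
    have h3 := hF1 (a, v)
    have h4 := hF1 (a', v')
    rw [← e, h3] at h4
    have h5 : ∀ i : Fin 6, v i = v' i := by
      intro i
      have h6 := hF2 (a, v) i
      have h7 := hF2 (a', v') i
      rw [← e, h6] at h7
      exact h7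
    exact Prod.ext (Subtype.ext h4) (funext h5)
  have := cls_finite (PK K J0) u
  have h8 := Nat.card_le_card_of_injective F hinj
  rw [Nat.card_prod, card_ne_zero _ rfl, Nat.card_fun, Nat.card_fin] at h8
  exact h8

end Cfsg.Agent.H930.FC
end

private theorem dce_7016b4282436 : _root_.True := by
  try have : _root_.True := by simp only [_root_.Cfsg.Agent.H930.FC.wd.eq_1]
  try have : _root_.True := by simp only [_root_.Cfsg.Agent.H930.FC.I1.eq_1]
  exact _root_.True.intro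
end

-- part: H744/FC/CentTheta
section
prune_inst 0x300000000000000000010000000000000
set_option linter.all false
open scoped Cfsg.Agent.FastGrp

/-!
# S2464, `F₄(q)`: the order of the centralizer of a long root element (for helper520)

* `cls_theta` : `PK` permutes the non-trivial elements of `XT` transitively, through the torus of the node `3`;
* `card_cent_theta` : `|C(u)| = q ^ 24 (q ^ 2 - 1) (q ^ 4 - 1) (q ^ 6 - 1)` for `1 ≠ u ∈ XT`;
* `num_theta` : `2 |C(u)| < q ^ 6 (d₂)²` for `q = 5, 7, 17`.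
-/

set_option autoImplicit false
set_option linter.unusedSectionVars false

namespace Cfsg.Agent.H744.FC

open CoxeterSystem Cfsg.Agent.ChevalleyStructure.CoxeterGeom Cfsg.Agent.Tits.Roots Cfsg.Agent.Tits.Core
  Cfsg.Agent.Tits.Exchange Cfsg.Agent.Nodes.Reps Cfsg.Agent.Nodes.BNOf Cfsg.Agent.Nodes.StabComb
  Cfsg.Agent.Nodes.Bruhat Cfsg.Agent.Nodes.OppDec Cfsg.Agent.Nodes.LeviDec Cfsg.Agent.Nodes.NormX
  Cfsg.Agent.Nodes.Coroot Cfsg.Agent.Nodes.RGDChev Cfsg.Agent.KFacts.RgdPar Cfsg.Agent.KFacts.RgdTI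
  Cfsg.Agent.KFacts.RgdCent Cfsg.Agent.KFacts.RgdChevCoord Cfsg.Agent.Nodes.ChevCls
  Cfsg.Agent.OddHalf.NI.ModelChev Cfsg.Agent.H225.PPow
open Cfsg.Lie Cfsg.Agent.ChevalleyStructure Cfsg.Agent.ChevalleyStructure.Elts
  Cfsg.Agent.ChevalleyStructure.RootVec Cfsg.Agent.ChevalleyStructure.NPerm
  Cfsg.Agent.ChevalleyStructure.CoxeterGeomTypes
open Cfsg.Agent.H701.F43.Cent (hF cF nroots isRoot_theta cart_theta cent comm_theta VV MM J3)
open Cfsg.Agent.H520.FC (PK VK XT d2)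

universe u

variable {K : Type u} [Field K]

variable [Finite K]

theorem mem_XT {z : ↥(chevF4.group K)} : z ∈ XT K ↔ ∃ a : K, z = xc hF (vec chevF4 4 47) a := by
  obtain ⟨p, hpc⟩ := CharP.exists K
  have : Fact p.Prime := ⟨CharP.char_is_prime K p⟩
  rw [((coords (K := K) hF cF p).coord _ isRoot_theta).mem z]
  exact ⟨fun ⟨a, h⟩ => ⟨a, h.symm⟩, fun ⟨a, h⟩ => ⟨a, h.symm⟩⟩

theorem xc_zero : xc hF (vec chevF4 4 47) (0 : K) = 1 := by
  obtain ⟨p, hpc⟩ := CharP.exists K
  have : Fact p.Prime := ⟨CharP.char_is_prime K p⟩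
  exact ((coords (K := K) hF cF p).coord _ isRoot_theta).zero

theorem cent_le_PK {u : ↥(chevF4.group K)} (hu : u ∈ XT K) (hu1 : u ≠ 1) :
    Subgroup.centralizer ({u} : Set ↥(chevF4.group K)) ≤ PK K {k | k ≠ 3} := by
  obtain ⟨a, rfl⟩ := mem_XT.1 hu
  have ha : a ≠ 0 := by
    rintro rfl
    exact hu1 xc_zero
  intro g hg
  obtain ⟨v, hv, m, hm, rfl⟩ := cent ha (Subgroup.mem_centralizer_singleton_iff.1 hg)
  exact mul_mem ((le_sup_right : VJ cF hF.isCartan (XX chevF4 4 K) {k | k ≠ 3} ≤ PK K {k | k ≠ 3}) hv)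
    ((le_sup_left : LJ cF hF.isCartan (TT chevF4 K) (XX chevF4 4 K) {k | k ≠ 3} ≤ _)
      ((le_sup_right : MM K ≤ _) hm))

end Cfsg.Agent.H744.FC

private theorem dce_62d8f1da2547 : _root_.True := by
  try have : _root_.True := by simp only [_root_.Cfsg.Agent.H520.FC.d2.eq_1]
  exact _root_.True.intro
end

-- part: H92/RB/Def_mg
section
prune_inst 0x35404540746202080000859673201c26aa0004b0000b0c00dde1010605cf5e2000c22660ff101c03c28a88054839006000100080404000000e200400011901a080824604b348a10ca6009f800082000000000000300000000000000000051004000000000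
set_option linter.all false
open scoped Cfsg.Agent.FastGrp

-- part: H92/RB/Def
section
/-!
# The ratio bound for `F₄(3)` (S2464), common definitions (helper92)

* `BB` : the `Sp₆(3)`-invariant symplectic form of `V₁₄`;
* `c3` : real part of the cubic character of `F₃`;
* `FT D v = ∑ D(μ) c3 (BB μ v)`;
* `AA D` : the sum of `D` over the nonzero vectors.
-/

set_option autoImplicit false

namespace Cfsg.Agent.H92.RB

open Cfsg.Agent.H700.F43

/-- the invariant form of `V₁₄` -/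
def BB (u v : V14) : F3 :=
  u 13 * v 0 - u 0 * v 13 + (u 1 * v 7 - u 7 * v 1) + (u 2 * v 8 - u 8 * v 2) + (u 3 * v 9 - u 9 * v 3) -
    (u 4 * v 10 - u 10 * v 4) - (u 5 * v 11 - u 11 * v 5) - (u 6 * v 12 - u 12 * v 6)

/-- real part of the cubic character -/
noncomputable def c3 (t : F3) : ℝ := if t = 0 then 1 else -(1 / 2)

/-- the Fourier transform -/
noncomputable def FT (D : V14 → ℝ) (v : V14) : ℝ := ∑ μ : V14, D μ * c3 (BB μ v)

/-- the sum over the nonzero vectors -/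
noncomputable def AA (D : V14 → ℝ) : ℝ := ∑ μ ∈ Finset.univ.erase (0 : V14), D μ

/-- invariance under `Sp₆(3)` -/
def Inv (D : V14 → ℝ) : Prop := ∀ (A : Sp) (X : V14 →ₗ[F3] V14), Rel A X → ∀ μ, D (X μ) = D μ

end Cfsg.Agent.H92.RB
end

-- part: H675/F43/RelGen
section
/-!
# The action of `Sp₆(3)` on `V₁₄` (S2465, F₄(3), block E; helper675)

* `Xuu`, `Xvv` : the actions of `uu T`, `vv S`; `rel_uu`, `rel_vv`.
-/

set_option autoImplicit false

namespace Cfsg.Agent.H675.F43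

open Matrix Cfsg.Agent.H700.F43

private theorem v14 {a0 a1 a2 a3 a4 a5 a6 a7 a8 a9 a10 a11 a12 a13 b0 b1 b2 b3 b4 b5 b6 b7 b8 b9 b10 b11 b12 b13 : F3}
    (h0 : a0 = b0) (h1 : a1 = b1) (h2 : a2 = b2) (h3 : a3 = b3) (h4 : a4 = b4) (h5 : a5 = b5) (h6 : a6 = b6) (h7 : a7 = b7) (h8 : a8 = b8) (h9 : a9 = b9) (h10 : a10 = b10) (h11 : a11 = b11) (h12 : a12 = b12) (h13 : a13 = b13) :
    (![a0, a1, a2, a3, a4, a5, a6, a7, a8, a9, a10, a11, a12, a13] : V14) = ![b0, b1, b2, b3, b4, b5, b6, b7, b8, b9, b10, b11, b12, b13] := by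
  subst h0 h1 h2 h3 h4 h5 h6 h7 h8 h9 h10 h11 h12 h13; rfl

private theorem add14 {a0 a1 a2 a3 a4 a5 a6 a7 a8 a9 a10 a11 a12 a13 b0 b1 b2 b3 b4 b5 b6 b7 b8 b9 b10 b11 b12 b13 c0 c1 c2 c3 c4 c5 c6 c7 c8 c9 c10 c11 c12 c13 : F3}
    (h0 : a0 = b0 + c0) (h1 : a1 = b1 + c1) (h2 : a2 = b2 + c2) (h3 : a3 = b3 + c3) (h4 : a4 = b4 + c4) (h5 : a5 = b5 + c5) (h6 : a6 = b6 + c6) (h7 : a7 = b7 + c7) (h8 : a8 = b8 + c8) (h9 : a9 = b9 + c9) (h10 : a10 = b10 + c10) (h11 : a11 = b11 + c11) (h12 : a12 = b12 + c12) (h13 : a13 = b13 + c13) :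
    (![a0, a1, a2, a3, a4, a5, a6, a7, a8, a9, a10, a11, a12, a13] : V14) = ![b0, b1, b2, b3, b4, b5, b6, b7, b8, b9, b10, b11, b12, b13] + ![c0, c1, c2, c3, c4, c5, c6, c7, c8, c9, c10, c11, c12, c13] := by
  subst h0 h1 h2 h3 h4 h5 h6 h7 h8 h9 h10 h11 h12 h13
  ext k
  fin_cases k <;> rfl

private theorem smul14 {a0 a1 a2 a3 a4 a5 a6 a7 a8 a9 a10 a11 a12 a13 b0 b1 b2 b3 b4 b5 b6 b7 b8 b9 b10 b11 b12 b13 c : F3}
    (h0 : a0 = c * b0) (h1 : a1 = c * b1) (h2 : a2 = c * b2) (h3 : a3 = c * b3) (h4 : a4 = c * b4) (h5 : a5 = c * b5) (h6 : a6 = c * b6) (h7 : a7 = c * b7) (h8 : a8 = c * b8) (h9 : a9 = c * b9) (h10 : a10 = c * b10) (h11 : a11 = c * b11) (h12 : a12 = c * b12) (h13 : a13 = c * b13) :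
    (![a0, a1, a2, a3, a4, a5, a6, a7, a8, a9, a10, a11, a12, a13] : V14) = c • ![b0, b1, b2, b3, b4, b5, b6, b7, b8, b9, b10, b11, b12, b13] := by
  subst h0 h1 h2 h3 h4 h5 h6 h7 h8 h9 h10 h11 h12 h13
  ext k
  fin_cases k <;> rfl

private theorem neg14 {a0 a1 a2 a3 a4 a5 a6 a7 a8 a9 a10 a11 a12 a13 b0 b1 b2 b3 b4 b5 b6 b7 b8 b9 b10 b11 b12 b13 : F3}
    (h0 : -a0 = b0) (h1 : -a1 = b1) (h2 : -a2 = b2) (h3 : -a3 = b3) (h4 : -a4 = b4) (h5 : -a5 = b5) (h6 : -a6 = b6) (h7 : -a7 = b7) (h8 : -a8 = b8) (h9 : -a9 = b9) (h10 : -a10 = b10) (h11 : -a11 = b11) (h12 : -a12 = b12) (h13 : -a13 = b13) :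
    -(![a0, a1, a2, a3, a4, a5, a6, a7, a8, a9, a10, a11, a12, a13] : V14) = ![b0, b1, b2, b3, b4, b5, b6, b7, b8, b9, b10, b11, b12, b13] := by
  subst h0 h1 h2 h3 h4 h5 h6 h7 h8 h9 h10 h11 h12 h13
  ext k
  fin_cases k <;> rfl

set_option maxHeartbeats 4000000 in
/-- the action of `uu T` on `V₁₄` -/
def Xuu (T : Matrix (Fin 3) (Fin 3) F3) : V14 →ₗ[F3] V14 where
  toFun v := ![
    v 0,
    (T 0 0) * v 0 + v 1,
    (T 1 1) * v 0 + v 2,
    (T 2 2) * v 0 + v 3,
    (-2 * T 1 2) * v 0 + v 4,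
    (-2 * T 0 2) * v 0 + v 5,
    (-2 * T 0 1) * v 0 + v 6,
    (T 1 1 * T 2 2 -T 1 2 * T 1 2) * v 0 + (T 2 2) * v 2 + (T 1 1) * v 3 + (T 1 2) * v 4 + v 7,
    (T 0 0 * T 2 2 -T 0 2 * T 0 2) * v 0 + (T 2 2) * v 1 + (T 0 0) * v 3 + (T 0 2) * v 5 + v 8,
    (T 0 0 * T 1 1 -T 0 1 * T 0 1) * v 0 + (T 1 1) * v 1 + (T 0 0) * v 2 + (T 0 1) * v 6 + v 9,
    (2 * T 0 0 * T 1 2 -2 * T 0 1 * T 0 2) * v 0 + (2 * T 1 2) * v 1 + (-T 0 0) * v 4 + (T 0 1) * v 5 + (T 0 2) * v
    6 + v 10,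
    (-2 * T 0 1 * T 1 2 +2 * T 0 2 * T 1 1) * v 0 + (2 * T 0 2) * v 2 + (T 0 1) * v 4 + (-T 1 1) * v 5 + (T 1 2) *
    v 6 + v 11,
    (2 * T 0 1 * T 2 2 -2 * T 0 2 * T 1 2) * v 0 + (2 * T 0 1) * v 3 + (T 0 2) * v 4 + (T 1 2) * v 5 + (-T 2 2) * v
    6 + v 12,
    (T 0 0 * T 1 1 * T 2 2 -T 0 0 * T 1 2 * T 1 2 -T 0 1 * T 0 1 * T 2 2 +2 * T 0 1 * T 0 2 * T 1 2 -T 0 2 * T 0 2
    * T 1 1) * v 0 + (T 1 1 * T 2 2 -T 1 2 * T 1 2) * v 1 + (T 0 0 * T 2 2 -T 0 2 * T 0 2) * v 2 + (T 0 0 * T 1 1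
    -T 0 1 * T 0 1) * v 3 + (T 0 0 * T 1 2 -T 0 1 * T 0 2) * v 4 + (-T 0 1 * T 1 2 +T 0 2 * T 1 1) * v 5 + (T 0 1 *
    T 2 2 -T 0 2 * T 1 2) * v 6 + (T 0 0) * v 7 + (T 1 1) * v 8 + (T 2 2) * v 9 + (-T 1 2) * v 10 + (-T 0 2) * v 11
    + (-T 0 1) * v 12 + v 13]
  map_add' v w := by
    refine add14 ?_ ?_ ?_ ?_ ?_ ?_ ?_ ?_ ?_ ?_ ?_ ?_ ?_ ?_ <;> dsimp only [Pi.add_apply] <;> ring
  map_smul' c v := by
    refine smul14 ?_ ?_ ?_ ?_ ?_ ?_ ?_ ?_ ?_ ?_ ?_ ?_ ?_ ?_ <;> dsimp only [Pi.smul_apply, smul_eq_mul, RingHom.id_apply] <;> ring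

set_option maxHeartbeats 4000000 in
/-- the action of `vv T` on `V₁₄` -/
def Xvv (T : Matrix (Fin 3) (Fin 3) F3) : V14 →ₗ[F3] V14 where
  toFun v := ![
    v 0 + (T 0 0) * v 1 + (T 1 1) * v 2 + (T 2 2) * v 3 + (-T 1 2) * v 4 + (-T 0 2) * v 5 + (-T 0 1) * v 6 + (T 1 1
    * T 2 2 -T 1 2 * T 1 2) * v 7 + (T 0 0 * T 2 2 -T 0 2 * T 0 2) * v 8 + (T 0 0 * T 1 1 -T 0 1 * T 0 1) * v 9 +
    (T 0 0 * T 1 2 -T 0 1 * T 0 2) * v 10 + (-T 0 1 * T 1 2 +T 0 2 * T 1 1) * v 11 + (T 0 1 * T 2 2 -T 0 2 * T 1 2)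
    * v 12 + (T 0 0 * T 1 1 * T 2 2 -T 0 0 * T 1 2 * T 1 2 -T 0 1 * T 0 1 * T 2 2 +2 * T 0 1 * T 0 2 * T 1 2 -T 0 2
    * T 0 2 * T 1 1) * v 13,
    v 1 + (T 2 2) * v 8 + (T 1 1) * v 9 + (T 1 2) * v 10 + (T 1 1 * T 2 2 -T 1 2 * T 1 2) * v 13,
    v 2 + (T 2 2) * v 7 + (T 0 0) * v 9 + (T 0 2) * v 11 + (T 0 0 * T 2 2 -T 0 2 * T 0 2) * v 13,
    v 3 + (T 1 1) * v 7 + (T 0 0) * v 8 + (T 0 1) * v 12 + (T 0 0 * T 1 1 -T 0 1 * T 0 1) * v 13,
    v 4 + (2 * T 1 2) * v 7 + (-T 0 0) * v 10 + (T 0 1) * v 11 + (T 0 2) * v 12 + (2 * T 0 0 * T 1 2 -2 * T 0 1 * T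
    0 2) * v 13,
    v 5 + (2 * T 0 2) * v 8 + (T 0 1) * v 10 + (-T 1 1) * v 11 + (T 1 2) * v 12 + (-2 * T 0 1 * T 1 2 +2 * T 0 2 *
    T 1 1) * v 13,
    v 6 + (2 * T 0 1) * v 9 + (T 0 2) * v 10 + (T 1 2) * v 11 + (-T 2 2) * v 12 + (2 * T 0 1 * T 2 2 -2 * T 0 2 * T
    1 2) * v 13,
    v 7 + (T 0 0) * v 13,
    v 8 + (T 1 1) * v 13,
    v 9 + (T 2 2) * v 13,
    v 10 + (-2 * T 1 2) * v 13,
    v 11 + (-2 * T 0 2) * v 13,
    v 12 + (-2 * T 0 1) * v 13,
    v 13]
  map_add' v w := by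
    refine add14 ?_ ?_ ?_ ?_ ?_ ?_ ?_ ?_ ?_ ?_ ?_ ?_ ?_ ?_ <;> dsimp only [Pi.add_apply] <;> ring
  map_smul' c v := by
    refine smul14 ?_ ?_ ?_ ?_ ?_ ?_ ?_ ?_ ?_ ?_ ?_ ?_ ?_ ?_ <;> dsimp only [Pi.smul_apply, smul_eq_mul, RingHom.id_apply] <;> ring

theorem uu_inl (T : Matrix (Fin 3) (Fin 3) F3) (hT : Tᵀ = T) (x : V6) (i : Fin 3) :
    ((uu T hT).1.mulVec x) (Sum.inl i) =
      x (Sum.inl i) + (T i 0 * x (Sum.inr 0) + T i 1 * x (Sum.inr 1) + T i 2 * x (Sum.inr 2)) := by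
  change (Matrix.fromBlocks 1 T 0 1).mulVec x (Sum.inl i) = _
  rw [Matrix.fromBlocks_mulVec]
  simp [Matrix.mulVec, dotProduct, Fin.sum_univ_three]

theorem uu_inr (T : Matrix (Fin 3) (Fin 3) F3) (hT : Tᵀ = T) (x : V6) (i : Fin 3) :
    ((uu T hT).1.mulVec x) (Sum.inr i) = x (Sum.inr i) := by
  change (Matrix.fromBlocks 1 T 0 1).mulVec x (Sum.inr i) = _
  rw [Matrix.fromBlocks_mulVec]
  simp

theorem vv_inr (T : Matrix (Fin 3) (Fin 3) F3) (hT : Tᵀ = T) (x : V6) (i : Fin 3) :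
    ((vv T hT).1.mulVec x) (Sum.inr i) =
      x (Sum.inr i) + (T i 0 * x (Sum.inl 0) + T i 1 * x (Sum.inl 1) + T i 2 * x (Sum.inl 2)) := by
  change (Matrix.fromBlocks 1 0 T 1).mulVec x (Sum.inr i) = _
  rw [Matrix.fromBlocks_mulVec]
  simp [Matrix.mulVec, dotProduct, Fin.sum_univ_three]
  ring

theorem vv_inl (T : Matrix (Fin 3) (Fin 3) F3) (hT : Tᵀ = T) (x : V6) (i : Fin 3) :
    ((vv T hT).1.mulVec x) (Sum.inl i) = x (Sum.inl i) := by
  change (Matrix.fromBlocks 1 0 T 1).mulVec x (Sum.inl i) = _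
  rw [Matrix.fromBlocks_mulVec]
  simp

theorem sym {T : Matrix (Fin 3) (Fin 3) F3} (hT : Tᵀ = T) : T 1 0 = T 0 1 ∧ T 2 0 = T 0 2 ∧ T 2 1 = T 1 2 :=
  ⟨congrFun (congrFun hT 0) 1, congrFun (congrFun hT 0) 2, congrFun (congrFun hT 1) 2⟩

set_option maxHeartbeats 4000000 in
theorem rel_uu (T : Matrix (Fin 3) (Fin 3) F3) (hT : Tᵀ = T) : Rel (uu T hT) (Xuu T) := by
  intro x y z
  obtain ⟨h1, h2, h3⟩ := sym hT
  dsimp only [Xuu, LinearMap.coe_mk, AddHom.coe_mk, ww, Matrix.cons_val, cX, cY, d3, Fin.reduceAdd]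
  simp only [uu_inl, uu_inr, h1, h2, h3]
  refine v14 ?_ ?_ ?_ ?_ ?_ ?_ ?_ ?_ ?_ ?_ ?_ ?_ ?_ ?_ <;> ring

set_option maxHeartbeats 4000000 in
theorem rel_vv (T : Matrix (Fin 3) (Fin 3) F3) (hT : Tᵀ = T) : Rel (vv T hT) (Xvv T) := by
  intro x y z
  obtain ⟨h1, h2, h3⟩ := sym hT
  dsimp only [Xvv, LinearMap.coe_mk, AddHom.coe_mk, ww, Matrix.cons_val, cX, cY, d3, Fin.reduceAdd]
  simp only [vv_inl, vv_inr, h1, h2, h3]
  refine v14 ?_ ?_ ?_ ?_ ?_ ?_ ?_ ?_ ?_ ?_ ?_ ?_ ?_ ?_ <;> ring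

end Cfsg.Agent.H675.F43
end

-- part: H675/F43/Rel
section
/-!
# `Sp₆(3)` acts on `V₁₄` (S2465, F₄(3), block E; helper675)

* `exists_rel` : every element of `Sp` acts on `V₁₄`; `rel_unique` : the action is unique; `hom_ext` : a linear map
  from `V₁₄` is determined by the values at `ww x y z`;
* `act : Sp →* Module.End F3 V14`, `rel_act`, `act_eq`, `act_uu`, `act_vv`, `act_inv_mul`, `act_mul_inv`, `act_ng`.
-/

set_option autoImplicit false

namespace Cfsg.Agent.H675.F43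

open Matrix Cfsg.Agent.H700.F43

theorem uu_inv (T : Matrix (Fin 3) (Fin 3) F3) (hT : Tᵀ = T) :
    (uu T hT)⁻¹ = uu (-T) (by rw [Matrix.transpose_neg, hT]) := by
  refine inv_eq_of_mul_eq_one_right (Subtype.ext ?_)
  change Matrix.fromBlocks 1 T 0 1 * Matrix.fromBlocks 1 (-T) 0 1 = 1
  rw [Matrix.fromBlocks_multiply, ← Matrix.fromBlocks_one]
  congr 1 <;> simp

theorem vv_inv (T : Matrix (Fin 3) (Fin 3) F3) (hT : Tᵀ = T) :
    (vv T hT)⁻¹ = vv (-T) (by rw [Matrix.transpose_neg, hT]) := by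
  refine inv_eq_of_mul_eq_one_right (Subtype.ext ?_)
  change Matrix.fromBlocks 1 0 T 1 * Matrix.fromBlocks 1 0 (-T) 1 = 1
  rw [Matrix.fromBlocks_multiply, ← Matrix.fromBlocks_one]
  congr 1 <;> simp

/-- every element of `Sp₆(3)` acts on `V₁₄` -/
theorem exists_rel (A : Sp) : ∃ X : V14 →ₗ[F3] V14, Rel A X := by
  have h : A ∈ Subgroup.closure {A : Sp | (∃ T, ∃ hT : Tᵀ = T, A = uu T hT) ∨ ∃ S, ∃ hS : Sᵀ = S, A = vv S hS} := by
    rw [H980.F43.gen_sp]
    trivial
  induction h using Subgroup.closure_induction'' with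
  | mem x hx =>
    rcases hx with ⟨T, hT, rfl⟩ | ⟨T, hT, rfl⟩
    · exact ⟨_, rel_uu T hT⟩
    · exact ⟨_, rel_vv T hT⟩
  | inv_mem x hx =>
    rcases hx with ⟨T, hT, rfl⟩ | ⟨T, hT, rfl⟩
    · rw [uu_inv]
      exact ⟨_, rel_uu _ _⟩
    · rw [vv_inv]
      exact ⟨_, rel_vv _ _⟩
  | one => exact ⟨1, Rel.one⟩
  | mul x y _ _ hx hy =>
    obtain ⟨X, hX⟩ := hx
    obtain ⟨Y, hY⟩ := hy
    exact ⟨X * Y, hX.mul hY⟩

/-- the basis of `V₆` -/
def ee (i : Fin 6) : V6 := Pi.single (![Sum.inl 0, Sum.inl 1, Sum.inl 2, Sum.inr 0, Sum.inr 1, Sum.inr 2] i) 1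

/-- the basis of `V₁₄` as values of `ww` -/
def lift : Fin 14 → Fin 6 × Fin 6 × Fin 6 × F3 := ![(3, 4, 5, 1), (0, 4, 5, 1), (1, 3, 5, -1), (2, 3, 4, 1),
  (1, 3, 4, -1), (0, 3, 4, -1), (0, 3, 5, 1), (1, 2, 3, 1), (0, 2, 4, -1), (0, 1, 5, 1), (0, 1, 4, -1), (0, 1, 3, -1),
  (0, 2, 3, 1), (0, 1, 2, 1)]

theorem lift_eq (k : Fin 14) :
    (Pi.single k 1 : V14) = (lift k).2.2.2 • ww (ee (lift k).1) (ee (lift k).2.1) (ee (lift k).2.2.1) := by
  revert k
  decide +kernel

/-- a linear map is determined by the values at `ww x y z` -/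
theorem hom_ext {M : Type*} [AddCommGroup M] [Module F3 M] {X Y : V14 →ₗ[F3] M}
    (h : ∀ x y z, X (ww x y z) = Y (ww x y z)) : X = Y := by
  refine LinearMap.pi_ext' fun k => LinearMap.ext_ring ?_
  change X (Pi.single k 1) = Y (Pi.single k 1)
  rw [lift_eq, map_smul, map_smul, h]

theorem rel_unique {A : Sp} {X Y : V14 →ₗ[F3] V14} (hX : Rel A X) (hY : Rel A Y) : X = Y :=
  hom_ext fun x y z => (hX x y z).trans (hY x y z).symm

/-- the action of `Sp₆(3)` on `V₁₄` -/
noncomputable def act : Sp →* Module.End F3 V14 where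
  toFun A := (exists_rel A).choose
  map_one' := rel_unique (exists_rel 1).choose_spec Rel.one
  map_mul' A B := rel_unique (exists_rel (A * B)).choose_spec
    ((exists_rel A).choose_spec.mul (exists_rel B).choose_spec)

theorem rel_act (A : Sp) : Rel A (act A) := (exists_rel A).choose_spec

theorem act_eq {A : Sp} {X : V14 →ₗ[F3] V14} (hX : Rel A X) : act A = X := rel_unique (rel_act A) hX

theorem act_uu (T : Matrix (Fin 3) (Fin 3) F3) (hT : Tᵀ = T) : act (uu T hT) = Xuu T := act_eq (rel_uu T hT)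

theorem act_vv (T : Matrix (Fin 3) (Fin 3) F3) (hT : Tᵀ = T) : act (vv T hT) = Xvv T := act_eq (rel_vv T hT)

theorem rel_ng : Rel ng (-1) := by
  intro x y z
  have h : ∀ v : V6, ng.1.mulVec v = -v := by
    intro v
    change (-1 : Matrix (Fin 3 ⊕ Fin 3) (Fin 3 ⊕ Fin 3) F3).mulVec v = -v
    rw [Matrix.neg_mulVec, Matrix.one_mulVec]
  rw [h, h, h]
  change -ww x y z = _
  dsimp only [ww, cX, cY, d3, Pi.neg_apply]
  refine neg14 ?_ ?_ ?_ ?_ ?_ ?_ ?_ ?_ ?_ ?_ ?_ ?_ ?_ ?_ <;> ring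

theorem act_ng : act ng = -1 := act_eq rel_ng

theorem act_inv_mul (A : Sp) : act A⁻¹ * act A = 1 := by
  rw [← map_mul, inv_mul_cancel, map_one]

theorem act_mul_inv (A : Sp) : act A * act A⁻¹ = 1 := by
  rw [← map_mul, mul_inv_cancel, map_one]

end Cfsg.Agent.H675.F43
end

-- part: H69/F43/Num
section
/-!
# `V₁₄` in the kernel (S2464, F₄(3); helper69)

Vectors and functionals of `V₁₄` are coded by natural numbers (digits in base `4`).

* `vec c` : the vector with code `c`; `nuu T c`, `nvv T c` : codes of `Xuu T (vec c)`, `Xvv T (vec c)`;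
* `fnl c` : the functional with code `c`; `ruu T c`, `rvv T c` : codes of the pull backs.
-/

set_option autoImplicit false

namespace Cfsg.Agent.H69.F43

open Cfsg.Agent.H700.F43 Cfsg.Agent.H675.F43

/-- digits in base four -/
def dg (c i : ℕ) : ℕ := c / 4 ^ i % 4

/-- Horner -/
def ofl : List ℕ → ℕ
  | [] => 0
  | a :: l => a % 3 + 4 * ofl l

theorem dg_zero (a x : ℕ) : dg (a % 3 + 4 * x) 0 = a % 3 := by
  unfold dg
  rw [pow_zero, Nat.div_one]
  omega

theorem dg_succ (a x i : ℕ) : dg (a % 3 + 4 * x) (i + 1) = dg x i := by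
  unfold dg
  have h : (a % 3 + 4 * x) / 4 ^ (i + 1) = x / 4 ^ i := by
    rw [pow_succ, Nat.mul_comm (4 ^ i) 4, ← Nat.div_div_eq_div_mul]
    congr 1
    omega
  rw [h]

theorem dg_ofl (l : List ℕ) (i : ℕ) : dg (ofl l) i = (l.getD i 0) % 3 := by
  induction l generalizing i with
  | nil => simp [ofl, dg]
  | cons a l ih =>
    cases i with
    | zero => exact dg_zero a _
    | succ i =>
      rw [ofl, dg_succ, ih]
      rfl

/-- the vector with code `c` -/
def vec (c : ℕ) : V14 := fun i => (dg c i : F3)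

/-- the symmetric matrix with code `t` -/
def mt (t : ℕ) : Matrix (Fin 3) (Fin 3) F3 :=
  !![(dg t 0 : F3), (dg t 5 : F3), (dg t 4 : F3); (dg t 5 : F3), (dg t 1 : F3), (dg t 3 : F3);
    (dg t 4 : F3), (dg t 3 : F3), (dg t 2 : F3)]

theorem mt_sym (t : ℕ) : (mt t).transpose = mt t := by
  ext i j
  fin_cases i <;> fin_cases j <;> rfl

theorem cast_mod (n : ℕ) : ((n % 3 : ℕ) : F3) = n := ZMod.natCast_mod n 3

/-- code of `Xuu (mt t) (vec v)` -/
def nuu (t v : ℕ) : ℕ :=
  let a := dg t 0; let b := dg t 1; let c := dg t 2; let d := dg t 3; let e := dg t 4; let f := dg t 5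
  let v0 := dg v 0; let v1 := dg v 1; let v2 := dg v 2; let v3 := dg v 3; let v4 := dg v 4
  let v5 := dg v 5; let v6 := dg v 6; let v7 := dg v 7; let v8 := dg v 8; let v9 := dg v 9
  let v10 := dg v 10; let v11 := dg v 11; let v12 := dg v 12; let v13 := dg v 13
  ofl [v0, a * v0 + v1, b * v0 + v2, c * v0 + v3, d * v0 + v4, e * v0 + v5, f * v0 + v6,
    (b * c + 2 * (d * d)) * v0 + c * v2 + b * v3 + d * v4 + v7,
    (a * c + 2 * (e * e)) * v0 + c * v1 + a * v3 + e * v5 + v8,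
    (a * b + 2 * (f * f)) * v0 + b * v1 + a * v2 + f * v6 + v9,
    (2 * (a * d) + f * e) * v0 + 2 * (d * v1) + 2 * (a * v4) + f * v5 + e * v6 + v10,
    (f * d + 2 * (e * b)) * v0 + 2 * (e * v2) + f * v4 + 2 * (b * v5) + d * v6 + v11,
    (2 * (f * c) + e * d) * v0 + 2 * (f * v3) + e * v4 + d * v5 + 2 * (c * v6) + v12,
    (a * b * c + 2 * (a * d * d) + 2 * (f * f * c) + 2 * (f * e * d) + 2 * (e * e * b)) * v0 +
      (b * c + 2 * (d * d)) * v1 + (a * c + 2 * (e * e)) * v2 + (a * b + 2 * (f * f)) * v3 +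
      (a * d + 2 * (f * e)) * v4 + (2 * (f * d) + e * b) * v5 + (f * c + 2 * (e * d)) * v6 +
      a * v7 + b * v8 + c * v9 + 2 * (d * v10) + 2 * (e * v11) + 2 * (f * v12) + v13]

/-- code of `Xvv (mt t) (vec v)` -/
def nvv (t v : ℕ) : ℕ :=
  let a := dg t 0; let b := dg t 1; let c := dg t 2; let d := dg t 3; let e := dg t 4; let f := dg t 5
  let v0 := dg v 0; let v1 := dg v 1; let v2 := dg v 2; let v3 := dg v 3; let v4 := dg v 4
  let v5 := dg v 5; let v6 := dg v 6; let v7 := dg v 7; let v8 := dg v 8; let v9 := dg v 9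
  let v10 := dg v 10; let v11 := dg v 11; let v12 := dg v 12; let v13 := dg v 13
  ofl [v0 + a * v1 + b * v2 + c * v3 + 2 * (d * v4) + 2 * (e * v5) + 2 * (f * v6) +
      (b * c + 2 * (d * d)) * v7 + (a * c + 2 * (e * e)) * v8 + (a * b + 2 * (f * f)) * v9 +
      (a * d + 2 * (f * e)) * v10 + (2 * (f * d) + e * b) * v11 + (f * c + 2 * (e * d)) * v12 +
      (a * b * c + 2 * (a * d * d) + 2 * (f * f * c) + 2 * (f * e * d) + 2 * (e * e * b)) * v13,
    v1 + c * v8 + b * v9 + d * v10 + (b * c + 2 * (d * d)) * v13,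
    v2 + c * v7 + a * v9 + e * v11 + (a * c + 2 * (e * e)) * v13,
    v3 + b * v7 + a * v8 + f * v12 + (a * b + 2 * (f * f)) * v13,
    v4 + 2 * (d * v7) + 2 * (a * v10) + f * v11 + e * v12 + (2 * (a * d) + f * e) * v13,
    v5 + 2 * (e * v8) + f * v10 + 2 * (b * v11) + d * v12 + (f * d + 2 * (e * b)) * v13,
    v6 + 2 * (f * v9) + e * v10 + d * v11 + 2 * (c * v12) + (2 * (f * c) + e * d) * v13,
    v7 + a * v13, v8 + b * v13, v9 + c * v13, v10 + d * v13, v11 + e * v13, v12 + f * v13, v13]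

theorem vec_ofl (l : List ℕ) (i : Fin 14) : vec (ofl l) i = ((l.getD i 0 : ℕ) : F3) := by
  unfold vec
  rw [dg_ofl, cast_mod]

end Cfsg.Agent.H69.F43
end

-- part: H69/F43/Link
section
/-!
# The codes and the action (S2464, F₄(3); helper69)
-/

set_option autoImplicit false

namespace Cfsg.Agent.H69.F43

open Cfsg.Agent.H700.F43 Cfsg.Agent.H675.F43

theorem neg_eq2 : ∀ x : F3, -x = 2 * x := by decide

private theorem v14' {a0 a1 a2 a3 a4 a5 a6 a7 a8 a9 a10 a11 a12 a13 b0 b1 b2 b3 b4 b5 b6 b7 b8 b9 b10 b11 b12 b13 : F3}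
    (h0 : a0 = b0) (h1 : a1 = b1) (h2 : a2 = b2) (h3 : a3 = b3) (h4 : a4 = b4) (h5 : a5 = b5) (h6 : a6 = b6) (h7 : a7 = b7) (h8 : a8 = b8) (h9 : a9 = b9) (h10 : a10 = b10) (h11 : a11 = b11) (h12 : a12 = b12) (h13 : a13 = b13) :
    (![a0, a1, a2, a3, a4, a5, a6, a7, a8, a9, a10, a11, a12, a13] : V14) = ![b0, b1, b2, b3, b4, b5, b6, b7, b8, b9, b10, b11, b12, b13] := by
  subst h0 h1 h2 h3 h4 h5 h6 h7 h8 h9 h10 h11 h12 h13; rfl

private theorem vec14 (a0 a1 a2 a3 a4 a5 a6 a7 a8 a9 a10 a11 a12 a13 : ℕ) : vec (ofl [a0, a1, a2, a3, a4, a5, a6, a7, a8, a9, a10, a11, a12, a13]) =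
    ![(a0 : F3), (a1 : F3), (a2 : F3), (a3 : F3), (a4 : F3), (a5 : F3), (a6 : F3), (a7 : F3), (a8 : F3), (a9 : F3), (a10 : F3), (a11 : F3), (a12 : F3), (a13 : F3)] := by
  ext k
  rw [vec_ofl]
  fin_cases k <;> rfl

private theorem vec_e (v : ℕ) : vec v 0 = (dg v 0 : F3) ∧ vec v 1 = (dg v 1 : F3) ∧ vec v 2 = (dg v 2 : F3) ∧ vec v 3 = (dg v 3 : F3) ∧ vec v 4 = (dg v 4 : F3) ∧ vec v 5 = (dg v 5 : F3) ∧ vec v 6 = (dg v 6 : F3) ∧ vec v 7 = (dg v 7 : F3) ∧ vec v 8 = (dg v 8 : F3) ∧ vec v 9 = (dg v 9 : F3) ∧ vec v 10 = (dg v 10 : F3) ∧ vec v 11 = (dg v 11 : F3) ∧ vec v 12 = (dg v 12 : F3) ∧ vec v 13 = (dg v 13 : F3) :=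
  ⟨rfl, rfl, rfl, rfl, rfl, rfl, rfl, rfl, rfl, rfl, rfl, rfl, rfl, rfl⟩

private theorem mt_e (t : ℕ) : mt t 0 0 = (dg t 0 : F3) ∧ mt t 1 1 = (dg t 1 : F3) ∧ mt t 2 2 = (dg t 2 : F3) ∧
    mt t 1 2 = (dg t 3 : F3) ∧ mt t 0 2 = (dg t 4 : F3) ∧ mt t 0 1 = (dg t 5 : F3) := ⟨rfl, rfl, rfl, rfl, rfl, rfl⟩

set_option maxHeartbeats 4000000 in
attribute [-instance] instNoNatZeroDivisorsOfIsAddTorsionFree in
theorem vec_nuu (t v : ℕ) : vec (nuu t v) = Xuu (mt t) (vec v) := by
  rw [nuu, vec14]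
  dsimp only [Xuu, LinearMap.coe_mk, AddHom.coe_mk]
  simp only [Nat.cast_add, Nat.cast_mul, Nat.cast_ofNat, vec_e v, mt_e t]
  refine v14' ?_ ?_ ?_ ?_ ?_ ?_ ?_ ?_ ?_ ?_ ?_ ?_ ?_ ?_ <;> grobner

set_option maxHeartbeats 4000000 in
attribute [-instance] instNoNatZeroDivisorsOfIsAddTorsionFree in
theorem vec_nvv (t v : ℕ) : vec (nvv t v) = Xvv (mt t) (vec v) := by
  rw [nvv, vec14]
  dsimp only [Xvv, LinearMap.coe_mk, AddHom.coe_mk]
  simp only [Nat.cast_add, Nat.cast_mul, Nat.cast_ofNat, vec_e v, mt_e t]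
  refine v14' ?_ ?_ ?_ ?_ ?_ ?_ ?_ ?_ ?_ ?_ ?_ ?_ ?_ ?_ <;> grobner

end Cfsg.Agent.H69.F43
end

-- part: H69/F43/Tab
section
/-!
# Classification of the nonzero vectors of `V₁₄`: the table (S2464, F₄(3); helper69)

The nodes are the vectors `(1, 0, Y, β)`; `word n` leads from the node `n` to a node of the same type which is nearer to
the representative.
-/

set_option autoImplicit false

namespace Cfsg.Agent.H69.F43

open Cfsg.Agent.H700.F43 Cfsg.Agent.H675.F43

/-- code of the node `n` -/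
def nc (n : ℕ) : ℕ := ofl [1, 0, 0, 0, 0, 0, 0, n, n / 3, n / 9, n / 27, n / 81, n / 243, n / 729]

/-- index of a code -/
def idx (u : ℕ) : ℕ := dg u 7 + 3 * dg u 8 + 9 * dg u 9 + 27 * dg u 10 + 81 * dg u 11 + 243 * dg u 12 + 729 * dg u 13

/-- `-1` -/
def nneg (u : ℕ) : ℕ := ofl [2 * dg u 0, 2 * dg u 1, 2 * dg u 2, 2 * dg u 3, 2 * dg u 4, 2 * dg u 5, 2 * dg u 6, 2 * dg u 7,
  2 * dg u 8, 2 * dg u 9, 2 * dg u 10, 2 * dg u 11, 2 * dg u 12, 2 * dg u 13]

/-- normalisation, first coordinate `1` -/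
def nrm1 (u : ℕ) : ℕ := nuu (ofl [2 * dg u 1, 2 * dg u 2, 2 * dg u 3, 2 * dg u 4, 2 * dg u 5, 2 * dg u 6]) u

/-- normalisation -/
def nrm (u : ℕ) : ℕ := if dg u 0 = 1 then nrm1 u else nrm1 (nneg u)

/-- the table -/
def W : ℕ := 0x2040000001480400000050210000001480100000051040000001b24000000054804000001428000000056040000001300a00000050440000001b84000000054140000001b0040000006e2000000013a0000000056800000001300a00000052004000001488000000054810000001ba0000000056400000001b08200000050204000001b20800000050108000000da0000000054108000000d04200000054820000001580000000050820000001b20000000054108000001b42000000032080000001520000000050900000001b04000000052800000001ca0000000050900000001b84000000050500000001580000000056200000001b10800000032400000001b240000000511000000015082000000300a000000152000000006c208000001508200000030808000001b40100000054208000001b08100000050100000001d24000000075010000001510100000054480000001b0810000005010800000140810000006c5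0000000151200000004c480000001b0050000006d020000001d1080000007502000000150800000006d200000001b8800000006c4200000014a0000000050060000001490000000054208000000d08200000054420000001580000000050420000001b10000000054208000001b42000000032080000001510000000050600000001b08000000052400000001c90000000050600000001b88000000050a00000001580000000056100000001b20800000032800000001b180000000512000000015042000000300a000000150800000006e040000001480400000050110000001480100000051040000001b18000000054404000001414000000056040000001300a00000050840000001b0a000000054240000001b0040000006e100000001390000000056400000001300a00000052004000001484000000054410000001b90000000056800000001b04200000050104000001b10800000050208000000d04200000054108000000c1020000006d00400000150420000006c104000001408000000074600000001d4040000005480400000152200000006c104000001408200000050104000001b2800000005488000000132200000006c014000001b40800000074820000001d40800000054100000001b4400000006e10000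0001b40800000052400000001401800000050820000001580400000054400000001520800000030820000001b18000000054220000001b2040000005080400000150440000007442000000140600000004c180000001b2040000006c180000001b2040000005220000000150050000006d00800000152000000006c108000001404200000055800000001b880000000520200000015a000000006c048000001410800000056010000001520000000054420000000c1080000006c90000000150480000006c410000001410100000054210000001d2080000005028000000130a00000006c410000001b0a00000006c410000001484000000054014000001b40200000054400000001b4020000005020800000155000000006e100000001480800000056400000001b0120000005108000000148020000004d00800000158080000004c08000000144010000005502000000154040000005401800000158200000005001400000158200000004c014000001d8200000005208000000138200000004e08000000130200000004c0140000014a00000000500a0000001488000000052080000000c02400000050088000001402100000051080000001460000000054208000000d08200000054820000001540000000050820000001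b20000000054208000001b82000000031080000001520000000050048000001b08000000051800000001c60000000050060000001b48000000050600000001540000000054420000001b10800000030108000001b280000000522000000015042000000300a000000152000000006d040000001421000000050110000001402200000052040000001b08800000054804000001424000000055040000001300a00000050440000001b48000000054240000001b0040000006d100000001360000000055800000001300a00000051004000001444000000054208000001b60000000055100000001b04200000050420000001b20800000050208000000d04200000054108000000c2020000006e00400000150420000006c104000001408000000074a00000001d8040000005440400000151200000006c104000001408200000050104000001b1800000005448000000131200000006c044000001b80800000074420000001d80800000054100000001b8400000006d100000001b10800000051800000001401800000051040000001402800000050210000001402200000052040000001b04800000054404000001418000000055040000001300a00000050840000001b06000000054140000001b0040000006d2000000013500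00000055400000001300a00000051004000001448000000054108000001b50000000055200000001b08200000050820000001b10800000050108000000d50000000054108000000d04200000054420000001540000000050420000001b10000000054108000001b82000000031080000001510000000050048000001b04000000051400000001c50000000050060000001b44000000050900000001540000000054820000001b20800000030208000001b140000000521000000015082000000300a000000150400000006c208000001508200000030408000001b80100000054208000001b08100000050100000001d14000000076010000001520100000054880000001b0810000005010800000140810000006c90000000152200000004c880000001b0110000006e020000001d2080000007602000000150800000006e200000001b4800000006e020000001450000000050060000001410800000055010000001520000000054420000000c1080000006ca0000000150880000006c410000001410100000054110000001d2080000005018000000130600000006c410000001b0600000006c410000001402200000054050000001b80200000054400000001b0420000005010800000159000000006d20000000144080000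0055400000001b01200000050820000001540400000054400000001520800000030820000001b14000000054120000001b2040000005080400000150840000007442000000140a00000004c280000001b2040000006c280000001b2040000005008800000150140000006e00800000152000000006e008000001408200000056800000001b4400000005102000000156000000006c04800000148200000005100800000138020000005502000000130200000005200400000158080000005601000000150220000005508000000140040000005508000000130010000007508000000144200000004d08000000134200000004c0800000013005000000518000000014028000000512000000014420000000300900000014022000000500840000014020000000520800000015210000000550000000015090000000750800000014a000000006c40800000158800000006c108000001482000000030a00000001b48000000054a00000001b8100000004d100000001b04200000055400000001b28000000051040000001b81000000052004000001581000000050a0000000154400000006c88000000155000000006c018000001442000000054840000001580000000054140000001d82000000051800000001b10200000055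100000001b10200000051080000000c2400000006e10000000152400000006d04000000138800000006c20800000159000000006c90000000148100000006d040000001440100000055040000001424000000056200000001b22000000056400000001b0060000005042000000142020000006c40800000152080000005004400000150810000008c0440000014a00000000500a000000142200000006c020000001410100000054820000001d20800000052040000002328000000050820000000c0180000005048000000151100000005404800000151400000006c204000001b0500000008c028000001400900000050420000001442000000054440000001580000000054240000001d82000000051400000001b20200000055200000001b04200000051080000000c1800000006e20000000151800000006d04000000138400000006c1080000015a000000006c60000000148100000006d040000001440100000055040000001400a00000056100000001b12000000056800000001b0060000005208000000151100000005500000000150500000007508000000149000000006c80800000158400000006c808000001482000000030500000001b44000000054500000001b8100000004d200000001b082000000558000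00001b14000000051040000001b8100000005200400000158100000005002800000154800000006c48000000156000000006c018000001420800000050408000001b20200000054420000001401000000054104000002301100000052400000001402800000050480000001b0080000005080400000151080000007442000000148100000008c600000001410800000030060000001422000000054840000001500a00000054a00000001b0410000006c240000002300a0000005002400000140080000005010800000140820000005005000000140880000006c208000001588000000050120000000d2040000008c08800000140a00000006c208000001528000000050008000001408200000050208000000c04400000056040000002301200000050180000000d1400000006c028000001405000000054810000001b0060000005000800000151100000008c108000001408200000050108000001401400000050120000001b04200000056100000001408800000034410000002302200000050180000001b0420000005490000000140020000005010800000140420000003021000000158100000008c04800000140a000000034a00000001b00a0000005024000000151040000006c01800000140020000005484000000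2300200000051020000001302000000054840000001402000000034040000000b20800000050240000001408200000052000000001400800000036080000001322000000052080000001300100000034004000000c0a000000050010000000c00a00000030210000001408200000050800000001408800000050040000000c0220000003020000000140280000003020400000144200000005102000000140480000005100800000148200000006c60000000151020000005050000000154200000004c01400000142200000006d20000000150a00000006c020000001b4400000004d40000000155000000004c40800000144020000005110000000151080000006d40000000154400000006d00800000140420000006d02000000140810000003608000000150810000003420400000151040000005500000000141040000006c40000000150810000006e040000000c4100000005440000000141800000006c20000000145000000007140000000141800000006d20000000142800000005500000000154400000006c810000000c6000000006c600000001488000000054104000000c08200000054048000001b04100000054104000000c1010000006e00800000150410000006c108000001488000000075010000001d80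80000005480800000152100000006c108000001408100000050108000001b2800000005484000000132100000006c028000001b80400000074810000001d80400000054100000001b8400000006d100000001b2040000005140000000140240000005208000000150410000003410400000152040000005500000000142040000006c80000000150410000006e040000000c4100000005480000000142400000006c10000000146000000007180000000142400000006d10000000141400000005500000000154800000006c410000000c5000000006c900000001484000000054204000000c04200000054060000001b4200000005102000000140880000005100800000148200000006c900000001520200000050a0000000154200000004c01400000141200000006c14000000150600000006c020000001b4800000004d80000000156000000004c22000000144020000005120000000152080000006d80000000154800000006d00800000140820000006d020000001404100000034204000001508100000030804000001b80200000054204000001b08200000052100000001d40400000076020000001510200000054440000001b0820000005010400000140820000006c50000000151100000004c440000001b00a000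0006e010000001d1040000007601000000150800000006e200000001b4800000006e0100000014600000000500900000014104000000550200000015a0000000054410000000c1040000006d00400000150440000006c420000001410200000054220000001d2040000005024000000130900000006c420000001b0900000006c420000001410800000054028000001b80100000054400000001b0810000005020400000159000000006d100000001440400000055400000001b02100000050810000001540800000056400000001520400000030810000001b40100000054210000001b2080000005080800000150480000007441000000140500000004c140000001b2080000006c140000001b20800000050820000001500a0000006e00400000152000000006e004000001404100000056800000001b4800000005101000000156000000006c084000001481000000051004000001380100000055010000001301000000052008000001580400000056020000001500900000055040000001400a00000055040000001300a0000007504000000144100000004d04000000134100000004c040000001300a0000005140000000140140000005110000000144100000003006000000140110000005004800000148100000005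108000000150410000003410400000151040000005600000000141040000006c40000000150410000006d040000000c8100000005440000000140210000006c10000000149000000007240000000140240000006e10000000142400000005600000000154200000006c810000000c4200000006c500000001444000000054204000000c04200000054048000001b8200000005048000000140880000005004400000144200000006c11000000151020000005060000000158200000004c01400000142200000006e10000000150600000006c020000001b8800000004e40000000159000000004c40800000148020000005220000000151080000006e40000000158800000006c28000000140820000006c480000001404100000034204000001508100000030404000001b40200000054204000001b08200000051100000001d80400000075020000001520200000054840000001b0820000005010400000140820000006c90000000152100000004c840000001b1020000006d010000001d2040000007501000000150800000006d200000001b8800000006c81000000149000000005009000000148200000005005000000140480000005004400000144200000006c21000000152020000005090000000158200000004c014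00000141200000006c24000000150a00000006c020000001b8400000004e8000000015a000000004c12000000148020000005210000000152080000006e80000000158400000006c18000000140420000006c88000000140810000003508000000150810000003420400000152040000005600000000142040000006c80000000150810000006d040000000c8100000005480000000140210000006c2000000014a000000007280000000140240000006e20000000141800000005600000000154200000006c410000000c4200000006ca00000001448000000054104000000c08200000054060000001b04100000054104000000c2010000006d00800000150410000006c108000001448000000076010000001d4080000005440800000151100000006c108000001408100000050108000001b1800000005444000000131100000006c808000001b40400000074410000001d40400000054100000001b4400000006e100000001b40400000052800000001402400000050810000001580800000055400000001520400000030810000001b80100000054110000001b2080000005080800000150880000007441000000140900000004c240000001b2080000006c240000001b2080000005082000000150480000006d0040000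0152000000006c204000001408100000055800000001b840000000520100000015a000000006c084000001410400000056020000001560000000054410000000c1040000006e00400000150840000006c420000001410200000054120000001d2040000005014000000130500000006c420000001b0500000006c420000001410800000054220000001b40100000054400000001b4010000005010400000155000000006e200000001480400000056400000001b0210000005104000000148010000004d00400000158040000004c04000000144020000005501000000154080000005404400000158100000005002000000158100000004c008000001d8100000005204000000138100000004e04000000130100000004c028000001490000000050050000001484000000052040000000c018000000500440000014012000000500400000014410000000544800000015a0000000054180000001d81000000050088000001b201000000540a0000001b08100000051040000000c1400000006c40400000151400000006d08000000130010000006c20400000150040000006c50000000148200000006d080000001440200000055080000001442000000056200000001b11000000056800000001b0090000005204000000151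200000005580000000150a00000007504000000140220000006c80400000150280000006c804000001481000000030600000001b10100000054600000001b8200000004c004000001b04100000054010000001b18000000051080000001b8200000005200800000158200000005208000000154400000006c44000000156000000006c024000001420400000050404000001b20100000054410000001402200000055200000002302200000051400000001401400000050440000001b0040000005080800000151040000007441000000144200000008c500000001410400000030090000001421000000054880000001502100000054a00000001b0420000006e08000000230050000005001800000142040000005204000000152200000005540000000150600000007504000000140220000006c40400000150280000006c204000001481000000030900000001b20100000054900000001b8200000004c004000001b08100000054010000001b24000000051080000001b8200000005200800000158200000005208000000154800000006c84000000155000000006c024000001441000000054880000001590000000054280000001d81000000050088000001b101000000540a0000001b10100000051040000000c28000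00006c80400000152800000006d08000000130010000006c10400000150040000006ca0000000148200000006d080000001440200000055080000001442000000056100000001b21000000056400000001b0090000005041000000142010000006c40400000152040000005008000000154400000008c08800000146000000005005000000142100000006c010000001410200000054810000001d20400000051080000002324000000050810000000c0240000005044000000151200000005401400000151400000006c208000001b8200000008c014000001400600000050010000001408100000050104000001402800000050110000001b04100000055100000001408400000034420000002301100000050140000001b0410000005450000000140010000005010400000140410000003022000000154200000008c084000001409000000034a00000001b0050000005028000000151080000006c0240000014001000000560800000023081000000501040000014081000000500a000000140840000006c204000001548000000050110000000d2080000008c04400000140900000006c204000001518000000050004000001408100000050204000000c04800000055080000002302100000050140000000d140000000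6c014000001406000000054820000001b0090000005000400000158200000008c00400000144040000004c040000001512000000050040000000d0200000002c410000001406000000050104000001440000000050010000000d4100000004c44000000144100000004c008000000d00200000030140000001400800000030014000000c04800000050104000001410000000050110000001402000000030044000000c04000000050050000000c04200000052001000000a2800000006c140000001b2800000006c410000001d18000000050440000001b24000000050a0000000154200000006d040000001d48000000051040000001541000000054420000001d60000000052080000001d2800000004c404000001b84000000052200000001590000000050820000001d8800000006e8000000015a000000006ca000000014a000000007084000000140200000005014000000144000000006e02000000150200000005001000000158400000008c11000000140410000006c88000000152040000006e00100000092400000006c180000001d9000000006c08000000140080000005004000000150820000006c040000001da000000008c14000000141080000006c84000000148100000005401800000142000000006c20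0000001541000000052000000001d8000000008c208000001424000000051020000001410400000050800000001d2000000006c240000001ba0000000075100000001c81000000074880000001d81000000074208000001484000000050480000001420400000076020000001d20400000076040000001b8100000006e040000001b9000000007044000000140200000005024000000144000000006e02000000150200000005001000000154400000008c21000000140810000006c48000000151040000006e00100000098400000006c280000001da000000006c08000000140080000005004000000150420000006c040000001d9000000008c24000000142080000006c440000001481000000056001000000a1400000006c240000001b1400000006c810000001d80200000050840000001b1800000005050000000154200000006d040000001d44000000051040000001541000000054104000001d50000000050014000001d1400000004c804000001b880000000521000000015a0000000050044000001d8400000006e40000000159000000006c500000001400600000050400000001b04000000055040000001480000000076000000002304200000050600000001440800000050810000001410000000074400000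001b0500000006e400000001d90000000072040000001d12000000076040000001d04200000052200000001422000000050410000001d80800000076020000001d8100000006e040000001b8100000006c02400000144100000005004800000140800000006e00000000150060000005080000000158000000008d008000001404100000050840000001b81000000074200000001d88000000074280000001d0800000006c080000001c81000000074820000001408100000076040000001b9000000005200800000158100000006c180000001408100000076040000001b00900000051040000001410800000050100000001b8000000005401800000141000000005600000000234020000005020400000141100000006e040000001d04000000076100000001d06000000074100000001b02000000072040000001d10800000050104000001d8100000006e800000001480200000056040000001b0a000000052008000001d8100000006e000000001341000000034100000001441000000055010000001b02200000050400000001402800000050500000000c4100000006d20000000142400000005580000000144100000006c500000001524000000074500000000d1400000005480000400121000000006c1000000013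0400000006c08010000110400000006c40000000131000000006c500000000b6000000007084000000140200000005024000000140810000006d02000000150200000005001000000158400000008c21000000140810000006c88000000152040000006e00100000094400000006c280000001d5000000006c08000000140080000005004000000150420000006c040000001d0420000008c24000000141080000006c840000001441000000056001000000a8100000006c240000001b8100000006c410000001d04000000050440000001b2000000005090000000154200000006e040000001d20200000052040000001581000000054100000001d20000000050014000001d2400000004c404000001b48000000051100000001550000000050044000001d4400000006d80000000156000000006c900000001401200000050800000001b04000000056040000001440000000075000000002304200000050010000001480800000050408000001420000000074800000001b0500000006d800000001d60000000071040000001d22000000074880000001d04200000051200000001412000000050810000001d40800000074810000001d4100000006d040000001b4100000006e001000000a8100000006c140000001b8100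000006c810000001d08000000050840000001b1000000005060000000154200000006e040000001d08000000052040000001581000000054820000001d08800000051080000001d1800000004c804000001b44000000051200000001560000000050420000001d4800000006d40000000155000000006c60000000145000000007044000000140200000005014000000141040000006d02000000150200000005001000000154400000008c11000000140410000006c48000000151040000006e00100000091400000006c180000001d6000000006c08000000140080000005004000000150820000006c040000001d0820000008c14000000142080000006c44000000144100000005400400000141000000006c200000001581000000051000000001d4000000008c208000001400400000052020000001420200000050400000001d1000000006c240000001b50000000076100000001c41000000074480000001d12000000074208000001444000000050880000001410400000075020000001d40800000075040000001b4100000006d040000001b01800000052040000001410800000050200000001b4000000005400400000141000000005500000000238020000005012000000141100000006d040000001d08000000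075200000001d0a000000074200000001b02000000070280000001d10800000050204000001d4100000006d800000001440200000055040000001b06000000050204000001d4100000006c01000000148100000005004800000140400000006d00000000150010000005080000000154000000008e008000001408800000050840000001b41000000074100000001d44000000074180000001d0400000006c080000001c06000000074820000001404100000075040000001b5000000005100800000154100000006c280000001440200000075040000001b4000000004e040000000d0400000005204000000158040000006c0880000014100000000500a0000001424000000030090000001b01400000050400000001501100000050010000001b24000000054100000001d24000000034900000001520000100048400000001b0400000004c100000001b01004000044100000001b1000000004c400000001b2400000002c084000001412000000050018000001406000000050a00000001b2040000007402400000140810000007500000000230100000008c800000001501200000050200000001d10800000074220000001d0180000005080800000156000000008e00000000154400000006c40800000145000000006c0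20000001c2040000007412000000140810000007540000000230210000005048000000144200000005028000000142400000006c810000001d42000000050104000001d0440000008d100000002320000000054048000001404000000074420000001d04800000074010000001420200000056800000002340000000054a00000001b10200000050500000001b00800000070810000001d08800000050808000001d9000000008c800000001b1040000003410000000144000000008c050000001484000000054800040000a0040000008c210000002310400000054400000001b00a0000005001400000140100000008d10000000150040000008c40004000094400000006d000000001402800000051100000000c40000000075100000000d4400000005602000000234400000008d10000000230240000005088000000144200000005018000000141800000006c410000001d42000000050204000001d0840000008e100000002310000000054004000001408000000074820000001d08800000074060000001410200000056400000002340000000054500000001b20200000050a00000001b00800000070220000001d04800000050204000001d4000000008c04000000142200000005001800000140a00000005050000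0001b1040000007402400000140410000007500000000230100000008c400000001500100000050100000001d20800000074120000001d0040000005040800000155000000008e00000000154800000006c80800000146000000006c020000001c0480000007422000000141020000007600000000231000000006c810000000d0400000005100000000230140000005100000000151000100002801000000230440000008c81000000152000000006c028000001400500000050040000002384000000054010000002320001000026100000001b400000000500a0000001484000000031000000001d8400000003610000000158080000008e10000000238400000008c200000001b4000000008c200040000a0410000005404400000140010000008c40000000141000000005600400000230410000005401400000140010000008c100000001b0100000008c100040000900a0000005140000000155000000006d00000000144000000005480400000230220000005140000000155000000008d400000000c5000000003540000000230400000006d00000000230400100002820400000150110000005000400000231000000005040000000158010000008c20400000150050000005000400000230800000006c040000002308001000024028000001490000000056400000001b4000000005100000000151010000008c088000001490000000056400000002390000000032400000000d9000000008c100000000d02800000051000000001b02200000050044000000d0110000004d000000001b0140000004c000000000200a00000050014000000d0210000006c000000000500000000010004000001b0240000006c010000001b00000000004080000001b1400000006c20001000121400000006c0000000003040004000448000040012100001000440000000000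

/-- entry -/
def ent (n : ℕ) : ℕ := (W >>> (42 * n)) % 4398046511104
/-- type -/
def typ (n : ℕ) : ℕ := ent n % 8
/-- distance -/
def dst (n : ℕ) : ℕ := ent n / 8 % 8
def w1 (n : ℕ) : ℕ := ent n / 64 % 4096
def w2 (n : ℕ) : ℕ := ent n / 262144 % 4096
def w3 (n : ℕ) : ℕ := ent n / 1073741824 % 4096

/-- the representatives -/
def rp (t : ℕ) : ℕ := [0, 9, 18, 4, 13, 14].getD t 0

/-- one step -/
def stp (n : ℕ) : ℕ := nvv (w3 n) (nuu (w2 n) (nvv (w1 n) (nc n)))

/-- the check -/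
def chk (n : ℕ) : Bool :=
  Nat.ble (typ n) 5 && (Nat.beq n (rp (typ n)) ||
    (!(Nat.beq (dg (stp n) 0) 0) && Nat.beq (nc (idx (nrm (stp n)))) (nrm (stp n)) &&
      Nat.beq (typ (idx (nrm (stp n)))) (typ n) && Nat.blt (dst (idx (nrm (stp n)))) (dst n)))

/-- bounded conjunction -/
def allb (f : ℕ → Bool) : ℕ → Bool
  | 0 => true
  | k + 1 => f k && allb f k

theorem allb_spec {f : ℕ → Bool} {n : ℕ} (h : allb f n = true) : ∀ k < n, f k = true := by
  induction n with
  | zero => intro k hk; omega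
  | succ n ih =>
    rw [allb, Bool.and_eq_true] at h
    intro k hk
    rcases Nat.lt_succ_iff_lt_or_eq.1 hk with h1 | rfl
    · exact ih h.2 k h1
    · exact h.1

private def nuuF (t v : ℕ) : ℕ :=
  let a := (Nat.mod (Nat.div t 1) 4)
  let b := (Nat.mod (Nat.div t 4) 4)
  let c := (Nat.mod (Nat.div t 16) 4)
  let d := (Nat.mod (Nat.div t 64) 4)
  let e := (Nat.mod (Nat.div t 256) 4)
  let f := (Nat.mod (Nat.div t 1024) 4)
  let v0 := (Nat.mod (Nat.div v 1) 4)
  let v1 := (Nat.mod (Nat.div v 4) 4)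
  let v2 := (Nat.mod (Nat.div v 16) 4)
  let v3 := (Nat.mod (Nat.div v 64) 4)
  let v4 := (Nat.mod (Nat.div v 256) 4)
  let v5 := (Nat.mod (Nat.div v 1024) 4)
  let v6 := (Nat.mod (Nat.div v 4096) 4)
  let v7 := (Nat.mod (Nat.div v 16384) 4)
  let v8 := (Nat.mod (Nat.div v 65536) 4)
  let v9 := (Nat.mod (Nat.div v 262144) 4)
  let v10 := (Nat.mod (Nat.div v 1048576) 4)
  let v11 := (Nat.mod (Nat.div v 4194304) 4)
  let v12 := (Nat.mod (Nat.div v 16777216) 4)
  let v13 := (Nat.mod (Nat.div v 67108864) 4)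
  (Nat.add (Nat.mod v0 3) (Nat.mul 4 (Nat.add (Nat.mod (Nat.add (Nat.mul a v0) v1) 3) (Nat.mul 4 (Nat.add (Nat.mod (Nat.add (Nat.mul b v0) v2) 3) (Nat.mul 4 (Nat.add (Nat.mod (Nat.add (Nat.mul c v0) v3) 3) (Nat.mul 4 (Nat.add (Nat.mod (Nat.add (Nat.mul d v0) v4) 3) (Nat.mul 4 (Nat.add (Nat.mod (Nat.add (Nat.mul e v0) v5) 3) (Nat.mul 4 (Nat.add (Nat.mod (Nat.add (Nat.mul f v0) v6) 3) (Nat.mul 4 (Nat.add (Nat.mod (Nat.add (Nat.add (Nat.add (Nat.add (Nat.mul (Nat.add (Nat.mul b c) (Nat.mul 2 (Nat.mul d d))) v0) (Nat.mul c v2)) (Nat.mul b v3)) (Nat.mul d v4)) v7) 3) (Nat.mul 4 (Nat.add (Nat.mod (Nat.add (Nat.add (Nat.add (Nat.add (Nat.mul (Nat.add (Nat.mul a c) (Nat.mul 2 (Nat.mul e e))) v0) (Nat.mul c v1)) (Nat.mul a v3)) (Nat.mul e v5)) v8) 3) (Nat.mul 4 (Nat.add (Nat.mod (Nat.add (Nat.add (Nat.add (Nat.add (Nat.mul (Nat.add (Nat.mul a b) (Nat.mul 2 (Nat.mul f f))) v0) (Nat.mul b v1)) (Nat.mul a v2)) (Nat.mul f v6)) v9) 3) (Nat.mul 4 (Nat.add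 (Nat.mod (Nat.add (Nat.add (Nat.add (Nat.add (Nat.add (Nat.mul (Nat.add (Nat.mul 2 (Nat.mul a d)) (Nat.mul f e)) v0) (Nat.mul 2 (Nat.mul d v1))) (Nat.mul 2 (Nat.mul a v4))) (Nat.mul f v5)) (Nat.mul e v6)) v10) 3) (Nat.mul 4 (Nat.add (Nat.mod (Nat.add (Nat.add (Nat.add (Nat.add (Nat.add (Nat.mul (Nat.add (Nat.mul f d) (Nat.mul 2 (Nat.mul e b))) v0) (Nat.mul 2 (Nat.mul e v2))) (Nat.mul f v4)) (Nat.mul 2 (Nat.mul b v5))) (Nat.mul d v6)) v11) 3) (Nat.mul 4 (Nat.add (Nat.mod (Nat.add (Nat.add (Nat.add (Nat.add (Nat.add (Nat.mul (Nat.add (Nat.mul 2 (Nat.mul f c)) (Nat.mul e d)) v0) (Nat.mul 2 (Nat.mul f v3))) (Nat.mul e v4)) (Nat.mul d v5)) (Nat.mul 2 (Nat.mul c v6))) v12) 3) (Nat.mul 4 (Nat.add (Nat.mod (Nat.add (Nat.add (Nat.add (Nat.add (Nat.add (Nat.add (Nat.add (Nat.add (Nat.add (Nat.add (Nat.add (Nat.add (Nat.add (Nat.mul (Nat.add (Nat.add (Nat.add (Nat.add (Nat.mul (Nat.mul a b) c) (Nat.mul 2 (Nat.mul (Nat.mul a d) d))) (Nat.mul 2 (Nat.mul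 (Nat.mul f f) c))) (Nat.mul 2 (Nat.mul (Nat.mul f e) d))) (Nat.mul 2 (Nat.mul (Nat.mul e e) b))) v0) (Nat.mul (Nat.add (Nat.mul b c) (Nat.mul 2 (Nat.mul d d))) v1)) (Nat.mul (Nat.add (Nat.mul a c) (Nat.mul 2 (Nat.mul e e))) v2)) (Nat.mul (Nat.add (Nat.mul a b) (Nat.mul 2 (Nat.mul f f))) v3)) (Nat.mul (Nat.add (Nat.mul a d) (Nat.mul 2 (Nat.mul f e))) v4)) (Nat.mul (Nat.add (Nat.mul 2 (Nat.mul f d)) (Nat.mul e b)) v5)) (Nat.mul (Nat.add (Nat.mul f c) (Nat.mul 2 (Nat.mul e d))) v6)) (Nat.mul a v7)) (Nat.mul b v8)) (Nat.mul c v9)) (Nat.mul 2 (Nat.mul d v10))) (Nat.mul 2 (Nat.mul e v11))) (Nat.mul 2 (Nat.mul f v12))) v13) 3) (Nat.mul 4 0))))))))))))))))))))))))))))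

private theorem nuuF_eq (t v : ℕ) : nuu t v = nuuF t v := rfl

private def nvvF (t v : ℕ) : ℕ :=
  let a := (Nat.mod (Nat.div t 1) 4)
  let b := (Nat.mod (Nat.div t 4) 4)
  let c := (Nat.mod (Nat.div t 16) 4)
  let d := (Nat.mod (Nat.div t 64) 4)
  let e := (Nat.mod (Nat.div t 256) 4)
  let f := (Nat.mod (Nat.div t 1024) 4)
  let v0 := (Nat.mod (Nat.div v 1) 4)
  let v1 := (Nat.mod (Nat.div v 4) 4)
  let v2 := (Nat.mod (Nat.div v 16) 4)
  let v3 := (Nat.mod (Nat.div v 64) 4)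
  let v4 := (Nat.mod (Nat.div v 256) 4)
  let v5 := (Nat.mod (Nat.div v 1024) 4)
  let v6 := (Nat.mod (Nat.div v 4096) 4)
  let v7 := (Nat.mod (Nat.div v 16384) 4)
  let v8 := (Nat.mod (Nat.div v 65536) 4)
  let v9 := (Nat.mod (Nat.div v 262144) 4)
  let v10 := (Nat.mod (Nat.div v 1048576) 4)
  let v11 := (Nat.mod (Nat.div v 4194304) 4)
  let v12 := (Nat.mod (Nat.div v 16777216) 4)
  let v13 := (Nat.mod (Nat.div v 67108864) 4)
  (Nat.add (Nat.mod (Nat.add (Nat.add (Nat.add (Nat.add (Nat.add (Nat.add (Nat.add (Nat.add (Nat.add (Nat.add (Nat.add (Nat.add (Nat.add v0 (Nat.mul a v1)) (Nat.mul b v2)) (Nat.mul c v3)) (Nat.mul 2 (Nat.mul d v4))) (Nat.mul 2 (Nat.mul e v5))) (Nat.mul 2 (Nat.mul f v6))) (Nat.mul (Nat.add (Nat.mul b c) (Nat.mul 2 (Nat.mul d d))) v7)) (Nat.mul (Nat.add (Nat.mul a c) (Nat.mul 2 (Nat.mul e e))) v8)) (Nat.mul (Nat.add (Nat.mul a b) (Nat.mul 2 (Nat.mul f f))) v9)) (Nat.mul (Nat.add (Nat.mul a d) (Nat.mul 2 (Nat.mul f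 e))) v10)) (Nat.mul (Nat.add (Nat.mul 2 (Nat.mul f d)) (Nat.mul e b)) v11)) (Nat.mul (Nat.add (Nat.mul f c) (Nat.mul 2 (Nat.mul e d))) v12)) (Nat.mul (Nat.add (Nat.add (Nat.add (Nat.add (Nat.mul (Nat.mul a b) c) (Nat.mul 2 (Nat.mul (Nat.mul a d) d))) (Nat.mul 2 (Nat.mul (Nat.mul f f) c))) (Nat.mul 2 (Nat.mul (Nat.mul f e) d))) (Nat.mul 2 (Nat.mul (Nat.mul e e) b))) v13)) 3) (Nat.mul 4 (Nat.add (Nat.mod (Nat.add (Nat.add (Nat.add (Nat.add v1 (Nat.mul c v8)) (Nat.mul b v9)) (Nat.mul d v10)) (Nat.mul (Nat.add (Nat.mul b c) (Nat.mul 2 (Nat.mul d d))) v13)) 3) (Nat.mul 4 (Nat.add (Nat.mod (Nat.add (Nat.add (Nat.add (Nat.add v2 (Nat.mul c v7)) (Nat.mul a v9)) (Nat.mul e v11)) (Nat.mul (Nat.add (Nat.mul a c) (Nat.mul 2 (Nat.mul e e))) v13)) 3) (Nat.mul 4 (Nat.add (Nat.mod (Nat.add (Nat.add (Nat.add (Nat.add v3 (Nat.mul b v7)) (Nat.mul a v8)) (Nat.mul f v12)) (Nat.mul (Nat.add (Nat.mul a b) (Nat.mul 2 (Nat.mul f f))) v13)) 3) (Nat.mul 4 (Nat.add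 (Nat.mod (Nat.add (Nat.add (Nat.add (Nat.add (Nat.add v4 (Nat.mul 2 (Nat.mul d v7))) (Nat.mul 2 (Nat.mul a v10))) (Nat.mul f v11)) (Nat.mul e v12)) (Nat.mul (Nat.add (Nat.mul 2 (Nat.mul a d)) (Nat.mul f e)) v13)) 3) (Nat.mul 4 (Nat.add (Nat.mod (Nat.add (Nat.add (Nat.add (Nat.add (Nat.add v5 (Nat.mul 2 (Nat.mul e v8))) (Nat.mul f v10)) (Nat.mul 2 (Nat.mul b v11))) (Nat.mul d v12)) (Nat.mul (Nat.add (Nat.mul f d) (Nat.mul 2 (Nat.mul e b))) v13)) 3) (Nat.mul 4 (Nat.add (Nat.mod (Nat.add (Nat.add (Nat.add (Nat.add (Nat.add v6 (Nat.mul 2 (Nat.mul f v9))) (Nat.mul e v10)) (Nat.mul d v11)) (Nat.mul 2 (Nat.mul c v12))) (Nat.mul (Nat.add (Nat.mul 2 (Nat.mul f c)) (Nat.mul e d)) v13)) 3) (Nat.mul 4 (Nat.add (Nat.mod (Nat.add v7 (Nat.mul a v13)) 3) (Nat.mul 4 (Nat.add (Nat.mod (Nat.add v8 (Nat.mul b v13)) 3) (Nat.mul 4 (Nat.add (Nat.mod (Nat.add v9 (Nat.mul c v13)) 3) (Nat.mul 4 (Nat.add (Nat.mod (Nat.add v10 (Nat.mul d v13)) 3) (Nat.mul 4 (Nat.add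 (Nat.mod (Nat.add v11 (Nat.mul e v13)) 3) (Nat.mul 4 (Nat.add (Nat.mod (Nat.add v12 (Nat.mul f v13)) 3) (Nat.mul 4 (Nat.add (Nat.mod v13 3) (Nat.mul 4 0))))))))))))))))))))))))))))

private theorem nvvF_eq (t v : ℕ) : nvv t v = nvvF t v := rfl

private def ncF (n : ℕ) : ℕ := (Nat.add (Nat.mod 1 3) (Nat.mul 4 (Nat.add (Nat.mod 0 3) (Nat.mul 4 (Nat.add (Nat.mod 0 3) (Nat.mul 4 (Nat.add (Nat.mod 0 3) (Nat.mul 4 (Nat.add (Nat.mod 0 3) (Nat.mul 4 (Nat.add (Nat.mod 0 3) (Nat.mul 4 (Nat.add (Nat.mod 0 3) (Nat.mul 4 (Nat.add (Nat.mod n 3) (Nat.mul 4 (Nat.add (Nat.mod (Nat.div n 3) 3) (Nat.mul 4 (Nat.add (Nat.mod (Nat.div n 9) 3) (Nat.mul 4 (Nat.add (Nat.mod (Nat.div n 27) 3) (Nat.mul 4 (Nat.add (Nat.mod (Nat.div n 81) 3) (Nat.mul 4 (Nat.add (Nat.mod (Nat.div n 243) 3) (Nat.mul 4 (Nat.add (Nat.mod (Nat.div n 729) 3) (Nat.mul 4 0))))))))))))))))))))))))))))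

private theorem ncF_eq (n : ℕ) : nc n = ncF n := rfl

private def idxF (u : ℕ) : ℕ := (Nat.add (Nat.add (Nat.add (Nat.add (Nat.add (Nat.add (Nat.mod (Nat.div u 16384) 4) (Nat.mul 3 (Nat.mod (Nat.div u 65536) 4))) (Nat.mul 9 (Nat.mod (Nat.div u 262144) 4))) (Nat.mul 27 (Nat.mod (Nat.div u 1048576) 4))) (Nat.mul 81 (Nat.mod (Nat.div u 4194304) 4))) (Nat.mul 243 (Nat.mod (Nat.div u 16777216) 4))) (Nat.mul 729 (Nat.mod (Nat.div u 67108864) 4)))

private theorem idxF_eq (u : ℕ) : idx u = idxF u := rfl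

private def nnegF (u : ℕ) : ℕ := (Nat.add (Nat.mod (Nat.mul 2 (Nat.mod (Nat.div u 1) 4)) 3) (Nat.mul 4 (Nat.add (Nat.mod (Nat.mul 2 (Nat.mod (Nat.div u 4) 4)) 3) (Nat.mul 4 (Nat.add (Nat.mod (Nat.mul 2 (Nat.mod (Nat.div u 16) 4)) 3) (Nat.mul 4 (Nat.add (Nat.mod (Nat.mul 2 (Nat.mod (Nat.div u 64) 4)) 3) (Nat.mul 4 (Nat.add (Nat.mod (Nat.mul 2 (Nat.mod (Nat.div u 256) 4)) 3) (Nat.mul 4 (Nat.add (Nat.mod (Nat.mul 2 (Nat.mod (Nat.div u 1024) 4)) 3) (Nat.mul 4 (Nat.add (Nat.mod (Nat.mul 2 (Nat.mod (Nat.div u 4096) 4)) 3) (Nat.mul 4 (Nat.add (Nat.mod (Nat.mul 2 (Nat.mod (Nat.div u 16384) 4)) 3) (Nat.mul 4 (Nat.add (Nat.mod (Nat.mul 2 (Nat.mod (Nat.div u 65536) 4)) 3) (Nat.mul 4 (Nat.add (Nat.mod (Nat.mul 2 (Nat.mod (Nat.div u 262144) 4)) 3) (Nat.mul 4 (Nat.add (Nat.mod (Nat.mul 2 (Nat.mod (Nat.div u 1048576) 4)) 3) (Nat.mul 4 (Nat.add (Nat.mod (Nat.mul 2 (Nat.mod (Nat.div u 4194304) 4)) 3) (Nat.mul 4 (Nat.add (Nat.mod (Nat.mul 2 (Nat.mod (Nat.div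 u 16777216) 4)) 3) (Nat.mul 4 (Nat.add (Nat.mod (Nat.mul 2 (Nat.mod (Nat.div u 67108864) 4)) 3) (Nat.mul 4 0))))))))))))))))))))))))))))

private theorem nnegF_eq (u : ℕ) : nneg u = nnegF u := rfl

private def nrm1F (u : ℕ) : ℕ := nuuF (Nat.add (Nat.mod (Nat.mul 2 (Nat.mod (Nat.div u 4) 4)) 3) (Nat.mul 4 (Nat.add (Nat.mod (Nat.mul 2 (Nat.mod (Nat.div u 16) 4)) 3) (Nat.mul 4 (Nat.add (Nat.mod (Nat.mul 2 (Nat.mod (Nat.div u 64) 4)) 3) (Nat.mul 4 (Nat.add (Nat.mod (Nat.mul 2 (Nat.mod (Nat.div u 256) 4)) 3) (Nat.mul 4 (Nat.add (Nat.mod (Nat.mul 2 (Nat.mod (Nat.div u 1024) 4)) 3) (Nat.mul 4 (Nat.add (Nat.mod (Nat.mul 2 (Nat.mod (Nat.div u 4096) 4)) 3) (Nat.mul 4 0)))))))))))) u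

private theorem nrm1F_eq (u : ℕ) : nrm1 u = nrm1F u := nuuF_eq _ _

private def nrmF (u : ℕ) : ℕ := nrm1F (cond (Nat.beq (Nat.mod (Nat.div u 1) 4) 1) u (nnegF u))

private theorem nrmF_eq (u : ℕ) : nrm u = nrmF u := by
  unfold nrm nrmF
  split_ifs with h
  · have h1 : Nat.beq (Nat.mod (Nat.div u 1) 4) 1 = true := Nat.beq_eq ▸ h
    rw [h1, nrm1F_eq, cond_true]
  · have h1 : Nat.beq (Nat.mod (Nat.div u 1) 4) 1 = false := by
      cases h2 : Nat.beq (Nat.mod (Nat.div u 1) 4) 1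
      · rfl
      · exact absurd (Nat.eq_of_beq_eq_true h2) h
    rw [h1, nrm1F_eq, nnegF_eq, cond_false]

private def entF (n : ℕ) : ℕ := Nat.mod (Nat.shiftRight W (Nat.mul 42 n)) 4398046511104

private def chkF (n : ℕ) : Bool :=
  let e := entF n
  let s := nvvF (Nat.mod (Nat.div e 1073741824) 4096) (nuuF (Nat.mod (Nat.div e 262144) 4096)
    (nvvF (Nat.mod (Nat.div e 64) 4096) (ncF n)))
  let m := nrmF s
  let i := idxF m
  let e' := entF i
  Nat.ble (Nat.mod e 8) 5 && (Nat.beq n (rp (Nat.mod e 8)) ||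
    (!(Nat.beq (Nat.mod (Nat.div s 1) 4) 0) && Nat.beq (ncF i) m &&
      Nat.beq (Nat.mod e' 8) (Nat.mod e 8) && Nat.blt (Nat.mod (Nat.div e' 8) 8) (Nat.mod (Nat.div e 8) 8)))

private theorem entF_eq (n : ℕ) : ent n = entF n := rfl

private theorem chkF_eq : chk = chkF := by
  funext n
  have h : stp n = nvvF (Nat.mod (Nat.div (entF n) 1073741824) 4096) (nuuF (Nat.mod (Nat.div (entF n) 262144) 4096)
      (nvvF (Nat.mod (Nat.div (entF n) 64) 4096) (ncF n))) := by
    rw [← entF_eq, ← ncF_eq, ← nvvF_eq, ← nvvF_eq, ← nuuF_eq]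
    unfold stp w1 w2 w3
    generalize ent n = e
    generalize nc n = c
    exact congr (congrArg nvv rfl) (congr (congrArg nuu rfl) (congr (congrArg nvv rfl) rfl))
  unfold chk chkF typ dst dg
  dsimp only
  rw [← h, ← nrmF_eq, ← idxF_eq, ← ncF_eq, ← entF_eq, ← entF_eq]
  generalize stp n = s
  generalize nrm s = m
  generalize idx m = i
  generalize nc i = c
  generalize ent i = e'
  generalize ent n = e
  rfl

theorem chk_0 : allb (fun j => chk (243 * 0 + j)) 243 = true := by rw [chkF_eq]; decide +kernel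

theorem chk_1 : allb (fun j => chk (243 * 1 + j)) 243 = true := by rw [chkF_eq]; decide +kernel

theorem chk_2 : allb (fun j => chk (243 * 2 + j)) 243 = true := by rw [chkF_eq]; decide +kernel

theorem chk_3 : allb (fun j => chk (243 * 3 + j)) 243 = true := by rw [chkF_eq]; decide +kernel

theorem chk_4 : allb (fun j => chk (243 * 4 + j)) 243 = true := by rw [chkF_eq]; decide +kernel

theorem chk_5 : allb (fun j => chk (243 * 5 + j)) 243 = true := by rw [chkF_eq]; decide +kernel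

theorem chk_6 : allb (fun j => chk (243 * 6 + j)) 243 = true := by rw [chkF_eq]; decide +kernel

theorem chk_7 : allb (fun j => chk (243 * 7 + j)) 243 = true := by rw [chkF_eq]; decide +kernel

theorem chk_8 : allb (fun j => chk (243 * 8 + j)) 243 = true := by rw [chkF_eq]; decide +kernel

/-- **The check.** -/
theorem chk_all : ∀ n < 2187, chk n = true := by
  intro n hn
  have h : n = 243 * (n / 243) + n % 243 := (Nat.div_add_mod n 243).symm
  have h1 : n / 243 < 9 := by omega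
  have h2 : n % 243 < 243 := Nat.mod_lt _ (by norm_num)
  rw [h]
  generalize n % 243 = j at h2 ⊢
  generalize n / 243 = k at h1 ⊢
  interval_cases k
  · exact allb_spec chk_0 j h2
  · exact allb_spec chk_1 j h2
  · exact allb_spec chk_2 j h2
  · exact allb_spec chk_3 j h2
  · exact allb_spec chk_4 j h2
  · exact allb_spec chk_5 j h2
  · exact allb_spec chk_6 j h2
  · exact allb_spec chk_7 j h2
  · exact allb_spec chk_8 j h2

end Cfsg.Agent.H69.F43
end

-- part: H69/F43/Cls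
section
/-!
# Classification of the nonzero vectors of `V₁₄` (S2464, F₄(3); helper69)

* `Eqv u v` : `v = act A u` for some `A : Sp`;
* `node_eqv` : every node is equivalent to the representative of its type;
* `exists_node` : every vector with first coordinate `≠ 0` is equivalent to a node.
-/

set_option autoImplicit false

namespace Cfsg.Agent.H69.F43

open Cfsg.Agent.H700.F43 Cfsg.Agent.H675.F43

/-- equivalence under `Sp₆(3)` -/
def Eqv (u v : V14) : Prop := ∃ A : Sp, v = act A u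

theorem Eqv.refl (u : V14) : Eqv u u := ⟨1, by rw [map_one]; rfl⟩

theorem Eqv.trans {u v w : V14} (h : Eqv u v) (h' : Eqv v w) : Eqv u w := by
  obtain ⟨A, rfl⟩ := h
  obtain ⟨B, rfl⟩ := h'
  exact ⟨B * A, by rw [map_mul]; rfl⟩

theorem Eqv.symm {u v : V14} (h : Eqv u v) : Eqv v u := by
  obtain ⟨A, rfl⟩ := h
  refine ⟨A⁻¹, ?_⟩
  have h1 := LinearMap.congr_fun (act_inv_mul A) u
  exact h1.symm

theorem eqv_nuu (t u : ℕ) : Eqv (vec u) (vec (nuu t u)) :=
  ⟨uu (mt t) (mt_sym t), by rw [act_uu, vec_nuu]⟩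

theorem eqv_nvv (t u : ℕ) : Eqv (vec u) (vec (nvv t u)) :=
  ⟨vv (mt t) (mt_sym t), by rw [act_vv, vec_nvv]⟩

theorem vec_nneg (u : ℕ) : vec (nneg u) = -vec u := by
  ext k
  rw [nneg, vec_ofl, Pi.neg_apply, neg_eq2]
  fin_cases k <;> simp [vec]

theorem eqv_nneg (u : ℕ) : Eqv (vec u) (vec (nneg u)) :=
  ⟨ng, by rw [act_ng, vec_nneg]; rfl⟩

theorem eqv_nrm (u : ℕ) : Eqv (vec u) (vec (nrm u)) := by
  unfold nrm nrm1
  split_ifs with h
  · exact eqv_nuu _ _
  · exact (eqv_nneg u).trans (eqv_nuu _ _)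

theorem eqv_stp (n : ℕ) : Eqv (vec (nc n)) (vec (stp n)) :=
  ((eqv_nvv _ _).trans (eqv_nuu _ _)).trans (eqv_nvv _ _)

theorem dg_ofl_lt (l : List ℕ) (i : ℕ) : dg (ofl l) i < 3 := by
  rw [dg_ofl]
  exact Nat.mod_lt _ (by norm_num)

theorem idx_nrm_lt (u : ℕ) : idx (nrm u) < 2187 := by
  have h : ∀ i, dg (nrm u) i < 3 := by
    intro i
    unfold nrm nrm1
    split_ifs
    · exact dg_ofl_lt _ _
    · exact dg_ofl_lt _ _
  have h7 := h 7
  have h8 := h 8
  have h9 := h 9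
  have h10 := h 10
  have h11 := h 11
  have h12 := h 12
  have h13 := h 13
  unfold idx
  omega

theorem typ_le {n : ℕ} (hn : n < 2187) : typ n ≤ 5 := by
  have h := chk_all n hn
  rw [chk, Bool.and_eq_true] at h
  exact Nat.le_of_ble_eq_true h.1

/-- **Every node is equivalent to the representative of its type.** -/
theorem node_eqv : ∀ n < 2187, Eqv (vec (nc n)) (vec (nc (rp (typ n)))) := by
  have key : ∀ d n, n < 2187 → dst n = d → Eqv (vec (nc n)) (vec (nc (rp (typ n)))) := by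
    intro d
    induction d using Nat.strong_induction_on with
    | _ d ih =>
      intro n hn hd
      have h := chk_all n hn
      rw [chk, Bool.and_eq_true, Bool.or_eq_true] at h
      rcases h.2 with h1 | h1
      · rw [← Nat.eq_of_beq_eq_true h1]
        exact Eqv.refl _
      · simp only [Bool.and_eq_true] at h1
        obtain ⟨⟨⟨-, h2⟩, h3⟩, h4⟩ := h1
        have h2 := Nat.eq_of_beq_eq_true h2
        have h3 := Nat.eq_of_beq_eq_true h3
        have h4 : dst (idx (nrm (stp n))) < dst n := Nat.le_of_ble_eq_true h4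
        have h5 := ih _ (hd ▸ h4) (idx (nrm (stp n))) (idx_nrm_lt _) rfl
        rw [h2, h3] at h5
        exact ((eqv_stp n).trans (eqv_nrm _)).trans h5
  exact fun n hn => key _ n hn rfl

/-! ### codes of vectors -/

/-- code of a vector -/
def cd (μ : V14) : ℕ := ofl [(μ 0).val, (μ 1).val, (μ 2).val, (μ 3).val, (μ 4).val, (μ 5).val, (μ 6).val, (μ 7).val,
  (μ 8).val, (μ 9).val, (μ 10).val, (μ 11).val, (μ 12).val, (μ 13).val]

theorem vec_cd (μ : V14) : vec (cd μ) = μ := by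
  ext k
  rw [cd, vec_ofl]
  fin_cases k <;> simp

theorem dg_cd_zero (μ : V14) : dg (cd μ) 0 = (μ 0).val := by
  have h : (μ 0).val % 3 = (μ 0).val := Nat.mod_eq_of_lt (ZMod.val_lt (μ 0))
  rw [cd, dg_ofl]
  exact h

theorem dg_nrm1 {u : ℕ} (h : dg u 0 = 1) : dg (nrm1 u) 0 = 1 ∧ dg (nrm1 u) 1 = 0 ∧ dg (nrm1 u) 2 = 0 ∧
    dg (nrm1 u) 3 = 0 ∧ dg (nrm1 u) 4 = 0 ∧ dg (nrm1 u) 5 = 0 ∧ dg (nrm1 u) 6 = 0 := by
  unfold nrm1 nuu
  simp only [dg_ofl, h, List.getD_cons_zero, List.getD_cons_succ, mul_one]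
  refine ⟨trivial, ?_, ?_, ?_, ?_, ?_, ?_⟩ <;> omega

theorem dg_nrm_lt (u i : ℕ) : dg (nrm u) i < 3 := by
  unfold nrm nrm1
  split_ifs
  · exact dg_ofl_lt _ _
  · exact dg_ofl_lt _ _

theorem vec_nrm {u : ℕ} (h : dg u 0 = 1 ∨ dg u 0 = 2) : vec (nrm u) = vec (nc (idx (nrm u))) := by
  have hx : dg (nrm u) 0 = 1 ∧ dg (nrm u) 1 = 0 ∧ dg (nrm u) 2 = 0 ∧ dg (nrm u) 3 = 0 ∧ dg (nrm u) 4 = 0 ∧
      dg (nrm u) 5 = 0 ∧ dg (nrm u) 6 = 0 := by
    unfold nrm
    split_ifs with h1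
    · exact dg_nrm1 h1
    · have h2 : dg u 0 = 2 := h.resolve_left h1
      refine dg_nrm1 ?_
      unfold nneg
      rw [dg_ofl, List.getD_cons_zero, h2]
  have hl := dg_nrm_lt u
  generalize nrm u = x at hx hl ⊢
  obtain ⟨h0, h1, h2, h3, h4, h5, h6⟩ := hx
  have h7 := hl 7
  have h8 := hl 8
  have h9 := hl 9
  have h10 := hl 10
  have h11 := hl 11
  have h12 := hl 12
  have h13 := hl 13
  have key : ∀ k < 14, dg (nc (idx x)) k = dg x k := by
    intro k hk
    unfold nc idx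
    rw [dg_ofl]
    interval_cases k
    all_goals
      simp only [List.getD_cons_zero, List.getD_cons_succ]
      omega
  ext k
  unfold vec
  rw [key k k.2]

/-- **A vector with first coordinate `≠ 0` is equivalent to a node.** -/
theorem exists_node {μ : V14} (h : μ 0 ≠ 0) : ∃ n < 2187, Eqv μ (vec (nc n)) := by
  refine ⟨idx (nrm (cd μ)), idx_nrm_lt _, ?_⟩
  have h1 : dg (cd μ) 0 = 1 ∨ dg (cd μ) 0 = 2 := by
    rw [dg_cd_zero]
    have h2 : (μ 0).val < 3 := ZMod.val_lt (μ 0)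
    have h3 : (μ 0).val ≠ 0 := by
      rw [Ne, ZMod.val_eq_zero]
      exact h
    omega
  have h2 := eqv_nrm (cd μ)
  rw [vec_cd, vec_nrm h1] at h2
  exact h2

attribute [-instance] instNoNatZeroDivisorsOfIsAddTorsionFree instIsCharPOfIsLeftCancelAddOfCharP in
theorem zero_of_first {μ : V14} (h : ∀ A : Sp, act A μ 0 = 0) : μ = 0 := by
  have h' : ∀ t : ℕ, Xvv (mt t) μ 0 = 0 := by
    intro t
    have h1 := h (vv (mt t) (mt_sym t))
    rwa [act_vv] at h1
  dsimp only [Xvv, LinearMap.coe_mk, AddHom.coe_mk, Matrix.cons_val_zero] at h'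
  simp only [mt_e] at h'
  have e0 := h' 0
  have e1 := h' 1
  have e2 := h' 4
  have e3 := h' 16
  have e4 := h' 64
  have e5 := h' 256
  have e6 := h' 1024
  have e7 := h' 20
  have e8 := h' 17
  have e9 := h' 5
  have e10 := h' 65
  have e11 := h' 260
  have e12 := h' 1040
  have e13 := h' 21
  simp [dg] at e0 e1 e2 e3 e4 e5 e6 e7 e8 e9 e10 e11 e12 e13
  ext k
  fin_cases k <;> simp <;> (clear * - e0 e1 e2 e3 e4 e7 e5 e8 e6 e9 e10 e11 e12 e13; grobner)

/-- **Classification.** -/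
theorem exists_rep {μ : V14} (h : μ ≠ 0) : ∃ n < 2187, Eqv μ (vec (nc n)) := by
  by_contra hne
  push Not at hne
  refine h (zero_of_first fun A => ?_)
  by_contra hA
  obtain ⟨n, hn, hn'⟩ := exists_node hA
  exact hne n hn (Eqv.trans ⟨A, rfl⟩ hn')

end Cfsg.Agent.H69.F43
end

private theorem dce_100096637a31 : _root_.True := by
  try have : _root_.True := by simp only [_root_.Cfsg.Agent.H69.F43.nneg.eq_1]
  try have : _root_.True := by simp only [_root_.Cfsg.Agent.H675.F43.Xuu.eq_1]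
  try have : _root_.True := by simp only [_root_.Cfsg.Agent.H700.F43.cX.eq_1]
  try have : _root_.True := by simp only [_root_.Cfsg.Agent.H700.F43.ww.eq_1]
  try have : _root_.True := by simp only [_root_.Cfsg.Agent.H69.F43.ofl.eq_1]
  try have : _root_.True := by simp only [_root_.Cfsg.Agent.H69.F43.dg.eq_1]
  try have : _root_.True := by simp only [_root_.Cfsg.Agent.H69.F43.vec.eq_1]
  try have : _root_.True := by simp only [_root_.Cfsg.Agent.H69.F43.allb.eq_def]
  try have : _root_.True := by simp only [_root_.Cfsg.Agent.H69.F43.mt.eq_1]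
  try have : _root_.True := by simp only [_root_.Cfsg.Agent.H69.F43.allb.eq_2]
  try have : _root_.True := by simp only [_root_.Cfsg.Agent.H700.F43.cY.eq_1]
  try have : _root_.True := by simp only [_root_.Cfsg.Agent.H700.F43.uu.congr_simp]
  try have : _root_.True := by simp only [_root_.Cfsg.Agent.H700.F43.d3.eq_1]
  try have : _root_.True := by simp only [_root_.Cfsg.Agent.H69.F43.ofl.eq_def]
  try have : _root_.True := by simp only [_root_.Cfsg.Agent.H675.F43.Xvv.eq_1]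
  try have : _root_.True := by simp only [_root_.Cfsg.Agent.H69.F43.ofl.eq_2]
  try have : _root_.True := by simp only [_root_.Cfsg.Agent.H69.F43.cd.eq_1]
  try have : _root_.True := by simp only [_root_.Cfsg.Agent.H69.F43.allb.eq_1]
  try have : _root_.True := by simp only [_root_.Cfsg.Agent.H700.F43.vv.congr_simp]
  try have : _root_.True := by simp only [_root_.Cfsg.Agent.H69.F43.chk.eq_1]
  try have : _root_.True := by simp only [_root_.Cfsg.Agent.H69.F43.nuu.eq_1]
  try have : _root_.True := by simp only [_root_.Cfsg.Agent.H69.F43.nvv.eq_1]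
  exact _root_.True.intro
end

-- part: H144/TC/Boxes
section
set_option linter.all false

/-!
# S2464, S2452 for `PSp_2n(q)`: boxes

* `Pair B g R P Q` : `P`, `Q` totally isotropic, `P ⊕ Q = R`, `(g - 1) P ≤ Q`.
* `GP B g R` (good pair) : some `Pair` with `p ∈ P`, `q ∈ Q`, `B p q ≠ 0`, `B (g p) p = 0`, `B (g q) q = 0`.
-/

set_option autoImplicit false
open Polynomial

namespace Cfsg.Agent.H144.TC

open Cfsg.Agent.H144.War

section Defs

variable {F V : Type*} [Field F] [AddCommGroup V] [Module F V]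

/-- `P ⊕ Q = R`, totally isotropic, `(g - 1) P ≤ Q` -/
def Pair (B : LinearMap.BilinForm F V) (g : V ≃ₗ[F] V) (R P Q : Submodule F V) : Prop :=
  Orth B P P ∧ Orth B Q Q ∧ P ⊔ Q = R ∧ ∀ v ∈ P, g v - v ∈ Q

/-- good pair -/
def GP (B : LinearMap.BilinForm F V) (g : V ≃ₗ[F] V) (R : Submodule F V) : Prop :=
  ∃ P Q : Submodule F V, Pair B g R P Q ∧ ∃ p ∈ P, ∃ q ∈ Q, B p q ≠ 0 ∧ B (g p) p = 0 ∧ B (g q) q = 0

end Defs

/-- **box MJ**.  `K = F[ξ]` of degree `r + c`, `A v = X (ξ⁻¹ * v)` is `1` on `W₁`, `-1` on `W₂`, and on the quotient by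
`W₁ + W₂` (dimension `2`, spanned by `y`, `A y`) it satisfies `A² - τ A + 1 = 0`. -/
def MJCore : Prop := ∀ {F K : Type} [Field F] [Field K] [Algebra F K] [FiniteDimensional F K] {r c : ℕ} (_ : 2 ≤ c)
  (_ : c ≤ r + 1) (_ : Module.finrank F K = r + c) {ξ : K} (_ : ξ ≠ 0) (_ : (minpoly F ξ).natDegree = r + c)
  {f : F[X]} (_ : f.Monic) (_ : f.natDegree = r + c) (_ : f.coeff 0 = (-1) ^ c * (minpoly F ξ).coeff 0) (τ : F),
  ∃ (X : K ≃ₗ[F] K) (W₁ W₂ : Submodule F K) (y : K), aeval (X : Module.End F K) f = 0 ∧ Module.finrank F W₁ = r ∧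
    Module.finrank F W₂ = c - 2 ∧ (∀ v : K, ξ * v ∈ W₁ → X v = ξ * v) ∧ (∀ v : K, ξ * v ∈ W₂ → X v = -(ξ * v)) ∧
    W₁ ⊔ W₂ ⊔ Submodule.span F {y, X (ξ⁻¹ * y)} = ⊤ ∧ X (ξ⁻¹ * X (ξ⁻¹ * y)) - τ • X (ξ⁻¹ * y) + y ∈ W₁ ⊔ W₂

end Cfsg.Agent.H144.TC
end

-- part: H843/TC6/Fac
section
prune_inst 0x342001007c0000080018801062001c62ea00000200480c002ca10f0207c90c4280420820af9005135022004408300008001000000000000000200000011801800000140480080008820080000000000000000000300000000000000000000000000000000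
set_option linter.all false
open scoped Cfsg.Agent.FastGrp

-- part: H843/TC6/Eng
section
/-!
# S2464, S2452 for `PSp_2n(q)`: the engine

* `LT B f X` : the isometry `X` preserves the members of a pair of totally isotropic complements `P`, `Q`, and
  `f (X) = 0` on `P`.
* `CC B f g` : `g = X Z` with `LT B f X`, `LT B f Z`.
* `cc_of_corner` : `V = P ⊕ Q`, `g v - A v ∈ Q` for `v ∈ P`, `A = x z`, `f (x) = 0`, `f (z⁻¹) = 0`, `f = minpoly ξ` and
  `ξ`, `ξ⁻¹` not conjugate: `CC B f g`.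
-/

set_option autoImplicit false
open Polynomial

noncomputable section

namespace Cfsg.Agent.H843.TC6

open Cfsg.Agent.H144 Cfsg.Agent.H144.War

section Defs

variable {F V : Type*} [Field F] [AddCommGroup V] [Module F V]

/-- `A = x z` with `f (x) = 0`, `f (z⁻¹) = 0` -/
def FF (f : F[X]) (A : V ≃ₗ[F] V) : Prop :=
  ∃ x z : V ≃ₗ[F] V, aeval (x : Module.End F V) f = 0 ∧ aeval ((z⁻¹ : V ≃ₗ[F] V) : Module.End F V) f = 0 ∧
    ∀ v, A v = x (z v)

/-- Levi elements of type `f` -/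
def LT (B : LinearMap.BilinForm F V) (f : F[X]) (X : V ≃ₗ[F] V) : Prop :=
  Iso B X ∧ ∃ P Q : Submodule F V, Orth B P P ∧ Orth B Q Q ∧ P ⊔ Q = ⊤ ∧ (∀ v ∈ P, X v ∈ P) ∧ (∀ v ∈ Q, X v ∈ Q) ∧
    ∀ v ∈ P, aeval (X : Module.End F V) f v = 0

/-- product of two Levi elements of type `f` -/
def CC (B : LinearMap.BilinForm F V) (f : F[X]) (g : V ≃ₗ[F] V) : Prop :=
  ∃ X Z : V ≃ₗ[F] V, LT B f X ∧ LT B f Z ∧ g = X * Z

end Defs

section

variable {F V M : Type*} [Field F] [AddCommGroup V] [Module F V] [AddCommGroup M] [Module F M]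

theorem conj_aeval (u X : V ≃ₗ[F] V) (f : F[X]) (v : V) :
    aeval ((u * X * u⁻¹ : V ≃ₗ[F] V) : Module.End F V) f v = u (aeval (X : Module.End F V) f (u⁻¹ v)) := by
  have hk : ∀ (k : ℕ) (v : V), ((((u * X * u⁻¹ : V ≃ₗ[F] V) : Module.End F V)) ^ k) v =
      u (((X : Module.End F V) ^ k) (u⁻¹ v)) := by
    intro k
    induction k with
    | zero => intro v; simp only [pow_zero, Module.End.one_apply, app_inv]
    | succ k ih =>
      intro v
      rw [pow_succ, Module.End.mul_apply, ih, pow_succ, Module.End.mul_apply]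
      congr 2
      change u⁻¹ (u (X (u⁻¹ v))) = _
      rw [inv_app]
      rfl
  induction f using Polynomial.induction_on' with
  | add p q hp hq => simp only [map_add, LinearMap.add_apply, hp, hq]
  | monomial k a =>
    simp only [aeval_monomial, Module.algebraMap_end_eq_smul_id, Module.End.mul_apply, LinearMap.smul_apply,
      LinearMap.id_apply, hk, map_smul]

theorem aeval_tr (φ : V ≃ₗ[F] M) (x : M ≃ₗ[F] M) (f : F[X]) (v : V) :
    aeval ((tr φ x : V ≃ₗ[F] V) : Module.End F V) f v = φ.symm (aeval (x : Module.End F M) f (φ v)) := by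
  have hk : ∀ (k : ℕ) (v : V), (((tr φ x : V ≃ₗ[F] V) : Module.End F V) ^ k) v =
      φ.symm (((x : Module.End F M) ^ k) (φ v)) := by
    intro k
    induction k with
    | zero => intro v; simp
    | succ k ih =>
      intro v
      rw [pow_succ, Module.End.mul_apply, ih, pow_succ, Module.End.mul_apply]
      congr 2
      change φ (φ.symm (x (φ v))) = _
      rw [φ.apply_symm_apply]
      rfl
  induction f using Polynomial.induction_on' with
  | add p q hp hq => simp only [map_add, LinearMap.add_apply, hp, hq]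
  | monomial k a =>
    simp only [aeval_monomial, Module.algebraMap_end_eq_smul_id, Module.End.mul_apply, LinearMap.smul_apply,
      LinearMap.id_apply, hk, map_smul]

theorem tr_inv (φ : V ≃ₗ[F] M) (x : M ≃ₗ[F] M) : (tr φ x)⁻¹ = tr φ x⁻¹ := by
  rw [inv_eq_iff_mul_eq_one, ← tr_mul, mul_inv_cancel, tr_one]

theorem FF.conj {f : F[X]} {A : M ≃ₗ[F] M} (hA : FF f A) (φ : V ≃ₗ[F] M) {A' : V ≃ₗ[F] V}
    (h : ∀ v, φ (A' v) = A (φ v)) : FF f A' := by
  obtain ⟨x, z, hx, hz, hxz⟩ := hA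
  refine ⟨tr φ x, tr φ z, ?_, ?_, fun v => ?_⟩
  · ext v
    rw [aeval_tr, hx]
    simp
  · ext v
    rw [tr_inv, aeval_tr, hz]
    simp only [_root_.LinearMap.zero_apply, _root_.map_zero]
  · rw [tr_apply, tr_apply, φ.apply_symm_apply, ← hxz, ← h, φ.symm_apply_apply]

theorem LT.conj {B : LinearMap.BilinForm F V} {f : F[X]} {X : V ≃ₗ[F] V} (hX : LT B f X) {u : V ≃ₗ[F] V}
    (hu : Iso B u) : LT B f (u * X * u⁻¹) := by
  obtain ⟨hI, P, Q, hP, hQ, hPQ, hXP, hXQ, hf⟩ := hX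
  have hm : ∀ (R : Submodule F V) (v : V), v ∈ R.map (u : V →ₗ[F] V) ↔ u⁻¹ v ∈ R := by
    intro R v
    rw [Submodule.mem_map]
    constructor
    · rintro ⟨w, hw, rfl⟩
      change u⁻¹ (u w) ∈ R
      rwa [inv_app]
    · intro h
      exact ⟨_, h, app_inv u v⟩
  have ho : ∀ R : Submodule F V, Orth B R R → Orth B (R.map (u : V →ₗ[F] V)) (R.map (u : V →ₗ[F] V)) := by
    intro R hR x hx y hy
    rw [← hu.inv x y]
    exact hR _ ((hm R x).1 hx) _ ((hm R y).1 hy)
  refine ⟨(hu.mul hI).mul hu.inv, P.map (u : V →ₗ[F] V), Q.map (u : V →ₗ[F] V), ho P hP, ho Q hQ, ?_, ?_, ?_, ?_⟩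
  · rw [← Submodule.map_sup, hPQ, Submodule.map_top]
    exact LinearMap.range_eq_top.2 u.surjective
  · intro v hv
    rw [hm]
    change u⁻¹ (u (X (u⁻¹ v))) ∈ P
    rw [inv_app]
    exact hXP _ ((hm P v).1 hv)
  · intro v hv
    rw [hm]
    change u⁻¹ (u (X (u⁻¹ v))) ∈ Q
    rw [inv_app]
    exact hXQ _ ((hm Q v).1 hv)
  · intro v hv
    rw [conj_aeval, hf _ ((hm P v).1 hv), map_zero]

theorem LT.inv {B : LinearMap.BilinForm F V} (hN : Nond B) {f : F[X]} {X : V ≃ₗ[F] V} [FiniteDimensional F V]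
    (hX : LT B f X) : LT B f X⁻¹ := by
  obtain ⟨hI, P, Q, hP, hQ, hPQ, hXP, hXQ, hf⟩ := hX
  refine ⟨hI.inv, Q, P, hQ, hP, by rw [sup_comm]; exact hPQ, inv_mem_of_mem hXQ, inv_mem_of_mem hXP, ?_⟩
  intro v hv
  apply eq_zero_of_orth hN hPQ
  · intro w hw
    rw [← aeval_adj hI f v w, hf w hw, map_zero]
  · exact hQ _ (aeval_mem (inv_mem_of_mem hXQ) f v hv)

theorem CC.ng {B : LinearMap.BilinForm F V} {f : F[X]} {g h : V ≃ₗ[F] V} (hc : CC B f g) (e : g = h) : CC B f h := e ▸ hc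

end

section

variable {F V : Type*} [Field F] [AddCommGroup V] [Module F V] [FiniteDimensional F V]

/-- the two eigenvalue conditions -/
def Gx (F : Type*) {K : Type*} [Field F] [Field K] [Algebra F K] (s : ℕ) (ξ : K) : Prop :=
  ξ ≠ 0 ∧ Module.finrank F K = s ∧ (minpoly F ξ).natDegree = s ∧ aeval ξ⁻¹ (minpoly F ξ) ≠ 0 ∧
    aeval ξ (minpoly F ξ⁻¹) ≠ 0

theorem cc_of_corner {K : Type*} [Field K] [Algebra F K] [FiniteDimensional F K] {s : ℕ} {ξ : K} (hξ : Gx F s ξ)
    {B : LinearMap.BilinForm F V} (hB : Alt B) (hN : Nond B) {P Q : Submodule F V}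
    (hP : Orth B P P) (hQ : Orth B Q Q) (hPQ : P ⊔ Q = ⊤) {A : P ≃ₗ[F] P} (hA : FF (minpoly F ξ) A)
    {g : V ≃ₗ[F] V} (hg : Iso B g) (hc : ∀ v : P, g v - A v ∈ Q) : CC B (minpoly F ξ) g := by
  obtain ⟨hξ0, hfr, hdeg, c1, c2⟩ := hξ
  have hdeg' : (minpoly F ξ).natDegree = Module.finrank F K := by rw [hdeg, hfr]
  obtain ⟨x, z, hx, hz, hxz⟩ := hA
  have hf₁ := sing_of_aeval hξ0 hdeg' c1 c2 hx
  have hf₂ : Sing z (minpoly F ξ⁻¹) (minpoly F ξ) := by
    have := sing_inv (sing_of_aeval hξ0 hdeg' c1 c2 hz)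
    rwa [inv_inv] at this
  obtain ⟨X, hX, hXx, hXQ⟩ := levi hB hN hP hQ hPQ x
  obtain ⟨Z, hZ, hZz, hZQ⟩ := levi hB hN hP hQ hPQ z
  obtain ⟨a1, a2, -, -⟩ := sing_levi hB hN hQ hPQ hf₁ hX hXx hXQ
  obtain ⟨-, -, b3, b4⟩ := sing_levi hB hN hQ hPQ hf₂ hZ hZz hZQ
  have hXP : ∀ v ∈ P, X v ∈ P := fun v hv => by rw [hXx ⟨v, hv⟩]; exact (x ⟨v, hv⟩).2
  have hZP : ∀ v ∈ P, Z v ∈ P := fun v hv => by rw [hZz ⟨v, hv⟩]; exact (z ⟨v, hv⟩).2
  have hLX : LT B (minpoly F ξ) X := ⟨hX, P, Q, hP, hQ, hPQ, hXP, hXQ, a1⟩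
  have hLZ : LT B (minpoly F ξ) Z := ⟨hZ, Q, P, hQ, hP, by rw [sup_comm]; exact hPQ, hZQ, hZP, b3⟩
  -- `h = g (X Z)⁻¹`
  have hXZP : ∀ v ∈ P, (X * Z) v ∈ P := fun v hv => hXP _ (hZP v hv)
  obtain ⟨n, m, hn, hm, hnm⟩ := c1_factor hB hN hP hQ hPQ (g := g * (X * Z)⁻¹) (hg.mul (hX.mul hZ).inv) (by
    intro v hv
    have h1 := inv_mem_of_mem hXZP v hv
    have h2 := hc ⟨_, h1⟩
    have h3 : ((A ⟨_, h1⟩ : P) : V) = v := by
      rw [hxz, ← hXx, ← hZz]
      exact app_inv (X * Z) v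
    rw [h3] at h2
    exact h2)
  have hgn : g = uni n (skew_sq hn) * uni m (skew_sq hm) * (X * Z) := by
    rw [← hnm]; group
  have hm' := skew_conj hX hXP hm
  have e0 : uni m (skew_sq hm) * X = X * uni (X.symm.conj m) (skew_sq hm') := by
    ext v
    rw [LinearEquiv.mul_apply, LinearEquiv.mul_apply, uni_apply, uni_apply, map_add]
    congr 1
    exact (X.apply_symm_apply _).symm
  obtain ⟨s, hs, hsX⟩ := _root_.Cfsg.Agent.H144.sylvester hPQ hX hXQ (minpoly F ξ) a1 a2 hn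
  have e1 : uni s (skew_sq hs) * X = uni n (skew_sq hn) * X * uni s (skew_sq hs) := by
    ext v
    simp only [LinearEquiv.mul_apply, uni_apply, map_add]
    have : n (X (s v)) = 0 := hn.2.1 _ (hXQ _ (hs.1 v))
    rw [hsX, this]
    abel
  have hQP : Q ⊔ P = ⊤ := by rw [sup_comm]; exact hPQ
  obtain ⟨t, ht, htZ⟩ := _root_.Cfsg.Agent.H144.sylvester hQP hZ hZP (minpoly F ξ) b3 b4 hm'
  have e2 : uni t (skew_sq ht) * Z = uni (X.symm.conj m) (skew_sq hm') * Z * uni t (skew_sq ht) := by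
    ext v
    simp only [LinearEquiv.mul_apply, uni_apply, map_add]
    have : (X.symm.conj m) (Z (t v)) = 0 := hm'.2.1 _ (hZP _ (ht.1 v))
    rw [htZ, this]
    abel
  have hui : Iso B (uni s (skew_sq hs)) := skew_iso hQ hs
  have hti : Iso B (uni t (skew_sq ht)) := skew_iso hP ht
  generalize uni n (skew_sq hn) = a at *
  generalize uni m (skew_sq hm) = b at *
  generalize uni (X.symm.conj m) (skew_sq hm') = b' at *
  generalize uni s (skew_sq hs) = u at *
  generalize uni t (skew_sq ht) = w at *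
  have k1 : a * X = u * X * u⁻¹ := by rw [e1]; group
  have k2 : b' * Z = w * Z * w⁻¹ := by rw [e2]; group
  refine ⟨u * X * u⁻¹, w * Z * w⁻¹, hLX.conj hui, hLZ.conj hti, ?_⟩
  rw [← k1, ← k2, hgn]
  calc a * b * (X * Z) = a * (b * X) * Z := by group
    _ = a * (X * b') * Z := by rw [e0]
    _ = _ := by group

/-! ### orthogonal sums -/

theorem ds_aeval {R S : Submodule F V} (h : IsCompl R S) {x : R ≃ₗ[F] R} {y : S ≃ₗ[F] S} {f : F[X]}
    (hx : ∀ v, aeval (x : Module.End F R) f v = 0) (hy : ∀ v, aeval (y : Module.End F S) f v = 0) :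
    aeval ((ds h x y : V ≃ₗ[F] V) : Module.End F V) f = 0 := by
  ext v
  obtain ⟨r, hr, s, hs, rfl⟩ := mem_sup_top h.sup_eq_top v
  have e1 : ∀ v : R, ((ds h x y : V ≃ₗ[F] V) : Module.End F V) v = (x : Module.End F R) v := by
    intro v
    have := ds_apply h x y v 0
    simpa using this
  have e2 : ∀ v : S, ((ds h x y : V ≃ₗ[F] V) : Module.End F V) v = (y : Module.End F S) v := by
    intro v
    have := ds_apply h x y 0 v
    simpa only [_root_.LinearEquiv.coe_coe, _root_.ZeroMemClass.coe_zero, _root_.zero_add, _root_.map_zero] using this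
  have k1 := aeval_restrict e1 f ⟨r, hr⟩
  have k2 := aeval_restrict e2 f ⟨s, hs⟩
  rw [map_add, k1, k2, hx, hy]
  simp

theorem ds_inv {R S : Submodule F V} (h : IsCompl R S) (x : R ≃ₗ[F] R) (y : S ≃ₗ[F] S) :
    (ds h x y)⁻¹ = ds h x⁻¹ y⁻¹ := by
  rw [inv_eq_iff_mul_eq_one]
  ext v
  obtain ⟨r, hr, s, hs, rfl⟩ := mem_sup_top h.sup_eq_top v
  rw [LinearEquiv.mul_apply]
  have h1 := ds_apply h x⁻¹ y⁻¹ ⟨r, hr⟩ ⟨s, hs⟩
  simp only at h1
  rw [h1, ds_apply, app_inv, app_inv]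
  rfl

theorem FF.ds {R S : Submodule F V} (h : IsCompl R S) {x : R ≃ₗ[F] R} {y : S ≃ₗ[F] S} {f : F[X]}
    (hx : FF f x) (hy : FF f y) : FF f (ds h x y) := by
  obtain ⟨a, b, ha, hb, hab⟩ := hx
  obtain ⟨c, d, hc, hd, hcd⟩ := hy
  refine ⟨War.ds h a c, War.ds h b d, ds_aeval h (fun v => by rw [ha]; rfl) (fun v => by rw [hc]; rfl), ?_, ?_⟩
  · rw [ds_inv]
    exact ds_aeval h (fun v => by rw [hb]; rfl) (fun v => by rw [hd]; rfl)
  · intro v
    obtain ⟨r, hr, s, hs, rfl⟩ := mem_sup_top h.sup_eq_top v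
    have h1 := ds_apply h b d ⟨r, hr⟩ ⟨s, hs⟩
    have h2 := ds_apply h x y ⟨r, hr⟩ ⟨s, hs⟩
    simp only at h1 h2
    rw [h1, ds_apply, h2, hab, hcd]

theorem LT.ds {B : LinearMap.BilinForm F V} (hB : Alt B) {R S : Submodule F V} (h : IsCompl R S) (hRS : Orth B R S)
    {x : R ≃ₗ[F] R} {y : S ≃ₗ[F] S} {f : F[X]} (hx : LT (B.restrict R) f x) (hy : LT (B.restrict S) f y) :
    LT B f (ds h x y) := by
  obtain ⟨hI, P, Q, hP, hQ, hPQ, hXP, hXQ, hf⟩ := hx
  obtain ⟨hI', P', Q', hP', hQ', hPQ', hXP', hXQ', hf'⟩ := hy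
  have m1 : ∀ {T : Submodule F R} {v : V}, v ∈ T.map R.subtype → ∃ hv : v ∈ R, (⟨v, hv⟩ : R) ∈ T := by
    rintro T v ⟨w, hw, rfl⟩
    exact ⟨w.2, hw⟩
  have m2 : ∀ {T : Submodule F S} {v : V}, v ∈ T.map S.subtype → ∃ hv : v ∈ S, (⟨v, hv⟩ : S) ∈ T := by
    rintro T v ⟨w, hw, rfl⟩
    exact ⟨w.2, hw⟩
  have o1 : ∀ {T : Submodule F R} {T' : Submodule F S}, Orth (B.restrict R) T T → Orth (B.restrict S) T' T' →
      Orth B (T.map R.subtype ⊔ T'.map S.subtype) (T.map R.subtype ⊔ T'.map S.subtype) := by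
    intro T T' hT hT' v hv w hw
    obtain ⟨a, ha, b, hb, rfl⟩ := Submodule.mem_sup.1 hv
    obtain ⟨c, hc, d, hd, rfl⟩ := Submodule.mem_sup.1 hw
    obtain ⟨ha1, ha2⟩ := m1 ha
    obtain ⟨hb1, hb2⟩ := m2 hb
    obtain ⟨hc1, hc2⟩ := m1 hc
    obtain ⟨hd1, hd2⟩ := m2 hd
    have k1 : B a c = 0 := hT _ ha2 _ hc2
    have k2 : B b d = 0 := hT' _ hb2 _ hd2
    simp only [map_add, LinearMap.add_apply]
    rw [k1, k2, hRS a ha1 d hd1, hB.zero (hRS c hc1 b hb1)]
    simp
  have dm : ∀ {T : Submodule F R} {T' : Submodule F S}, (∀ v ∈ T, x v ∈ T) → (∀ v ∈ T', y v ∈ T') →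
      ∀ v ∈ T.map R.subtype ⊔ T'.map S.subtype, War.ds h x y v ∈ T.map R.subtype ⊔ T'.map S.subtype := by
    intro T T' hT hT' v hv
    obtain ⟨a, ha, b, hb, rfl⟩ := Submodule.mem_sup.1 hv
    obtain ⟨ha1, ha2⟩ := m1 ha
    obtain ⟨hb1, hb2⟩ := m2 hb
    have h1 := ds_apply h x y ⟨a, ha1⟩ ⟨b, hb1⟩
    simp only at h1
    rw [h1]
    exact Submodule.add_mem_sup ⟨_, hT _ ha2, rfl⟩ ⟨_, hT' _ hb2, rfl⟩
  refine ⟨ds_iso hB h hRS hI hI', P.map R.subtype ⊔ P'.map S.subtype, Q.map R.subtype ⊔ Q'.map S.subtype, o1 hP hP',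
    o1 hQ hQ', ?_, dm hXP hXP', dm hXQ hXQ', ?_⟩
  · rw [sup_sup_sup_comm, ← Submodule.map_sup, ← Submodule.map_sup, hPQ, hPQ', Submodule.map_subtype_top,
      Submodule.map_subtype_top, h.sup_eq_top]
  · intro v hv
    obtain ⟨a, ha, b, hb, rfl⟩ := Submodule.mem_sup.1 hv
    obtain ⟨ha1, ha2⟩ := m1 ha
    obtain ⟨hb1, hb2⟩ := m2 hb
    have e1 : ∀ v : R, ((War.ds h x y : V ≃ₗ[F] V) : Module.End F V) v = (x : Module.End F R) v := by
      intro v
      have := ds_apply h x y v 0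
      simpa using this
    have e2 : ∀ v : S, ((War.ds h x y : V ≃ₗ[F] V) : Module.End F V) v = (y : Module.End F S) v := by
      intro v
      have := ds_apply h x y 0 v
      simpa only [_root_.LinearEquiv.coe_coe, _root_.ZeroMemClass.coe_zero, _root_.zero_add, _root_.map_zero] using this
    have k1 := aeval_restrict e1 f ⟨a, ha1⟩
    have k2 := aeval_restrict e2 f ⟨b, hb1⟩
    simp only at k1 k2
    rw [map_add, k1, k2, hf _ ha2, hf' _ hb2]
    simp

theorem CC.sup {B : LinearMap.BilinForm F V} (hB : Alt B) {R S : Submodule F V} (hRS : Orth B R S) (hR : Nd B R)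
    (htop : R ⊔ S = ⊤) {f : F[X]} {g : V ≃ₗ[F] V} (hIR : _root_.Cfsg.Agent.H144.Inv g R) (hIS : _root_.Cfsg.Agent.H144.Inv g S)
    (h : CC (B.restrict R) f (gr g R hIR)) (h' : CC (B.restrict S) f (gr g S hIS)) : CC B f g := by
  have hc : IsCompl R S := ⟨disjoint_of_orth hB hRS hR, codisjoint_iff.2 htop⟩
  obtain ⟨x, y, hx, hy, hxy⟩ := h
  obtain ⟨x', y', hx', hy', hxy'⟩ := h'
  refine ⟨War.ds hc x x', War.ds hc y y', hx.ds hB hc hRS hx', hy.ds hB hc hRS hy', ?_⟩
  ext v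
  obtain ⟨r, hr, s, hs, rfl⟩ := mem_sup_top hc.sup_eq_top v
  rw [LinearEquiv.mul_apply]
  have h1 := ds_apply hc y y' ⟨r, hr⟩ ⟨s, hs⟩
  simp only at h1
  rw [h1, ds_apply, map_add]
  have h2 := congrArg (fun t : R ≃ₗ[F] R => (t ⟨r, hr⟩ : V)) hxy
  have h3 := congrArg (fun t : S ≃ₗ[F] S => (t ⟨s, hs⟩ : V)) hxy'
  simp only [LinearEquiv.mul_apply] at h2 h3
  rw [← h2, ← h3]
  rfl

end

end Cfsg.Agent.H843.TC6
end
end

-- part: H143/War/MJ
section
/-!
# The core of box MJ (`H144/TC/Boxes`)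

`K = F[ξ]` of degree `r + c`, `p = -z ^ (r + 1) + ω z ^ (r + 2 - c) + 1`, basis `ξ ^ i` (`i ≤ r`), `(-ξ) ^ j p(ξ)` (`j ≤ c - 2`), `X` the
companion map of `f` in this basis.
-/

set_option autoImplicit false
open Polynomial

namespace Cfsg.Agent.H143.War.MJ

open Cfsg.Agent.H143.War.Mix

section WV

variable {F K : Type} [Field F] [Field K] [Algebra F K]

/-- the subspace `η F[ξ]_(< n)` -/
noncomputable def WV (F : Type) {K : Type} [Field F] [Field K] [Algebra F K] (n : ℕ) (η ξ : K) : Submodule F K :=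
  LinearMap.range (((LinearMap.mulLeft F η).comp (aeval (R := F) ξ).toLinearMap).domRestrict (degreeLT F n))

theorem mem_WV {n : ℕ} {η ξ : K} {v : K} : v ∈ WV F n η ξ ↔ ∃ q ∈ degreeLT F n, η * aeval ξ q = v := by
  unfold WV
  rw [LinearMap.mem_range]
  constructor
  · rintro ⟨⟨q, hq⟩, h⟩
    exact ⟨q, hq, h⟩
  · rintro ⟨q, hq, h⟩
    exact ⟨⟨q, hq⟩, h⟩

theorem finrank_WV {n : ℕ} {η ξ : K} (hξ : IsIntegral F ξ) (h0 : η ≠ 0) (hr : n ≤ (minpoly F ξ).natDegree) :
    Module.finrank F (WV F n η ξ) = n := by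
  unfold WV
  rw [LinearMap.finrank_range_of_inj]
  · rw [(degreeLTEquiv F n).finrank_eq, Module.finrank_fin_fun]
  · rw [injective_iff_map_eq_zero]
    rintro ⟨q, hq⟩ h
    have h1 : η * aeval ξ q = 0 := h
    have h2 : aeval ξ q = 0 := (mul_eq_zero.1 h1).resolve_left h0
    by_contra hne
    have hq0 : q ≠ 0 := fun h => hne (Subtype.ext h)
    have h3 := minpoly.degree_le_of_ne_zero F ξ hq0 h2
    rw [mem_degreeLT] at hq
    rw [degree_eq_natDegree (minpoly.ne_zero hξ)] at h3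
    have h5 := lt_of_le_of_lt h3 hq
    have h6 : (minpoly F ξ).natDegree < n := by exact_mod_cast h5
    omega

theorem pow_mem_WV {n : ℕ} {η ξ : K} {i : ℕ} (hi : i < n) : η * ξ ^ i ∈ WV F n η ξ := by
  refine mem_WV.2 ⟨X ^ i, mem_degreeLT.2 ?_, by rw [map_pow, aeval_X]⟩
  rw [degree_X_pow]
  exact_mod_cast hi

end WV

/-- **box MJ** -/
theorem mjCore : Cfsg.Agent.H144.TC.MJCore := by
  intro F K _ _ _ _ r c hc hcr hfr ξ hξ0 hdeg f hf hfd hf0 τ
  have hint : IsIntegral F ξ := .of_finite F ξ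
  set g := minpoly F ξ with hg
  have hgm : g.Monic := minpoly.monic hint
  have hgξ : aeval ξ g = 0 := minpoly.aeval F ξ
  have hg0 : g.coeff 0 ≠ 0 := minpoly.coeff_zero_ne_zero hint hξ0
  set s : F := (-1) ^ c with hs
  have hss : s * s = 1 := by
    rw [hs, ← mul_pow]
    norm_num
  set ω : F := -(g.coeff 0 * (τ + 2)) - g.coeff (r + 1) - s * f.coeff (r + 1) with hω
  set p : F[X] := -X ^ (r + 1) + C ω * X ^ (r + 2 - c) + 1 with hp
  have hpd : p.degree = ((r + 1 : ℕ) : WithBot ℕ) := by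
    have h1 : (C ω * X ^ (r + 2 - c) + 1 : F[X]).degree < (-X ^ (r + 1) : F[X]).degree := by
      rw [degree_neg, degree_X_pow]
      refine (degree_add_le _ _).trans_lt (max_lt ?_ ?_)
      · refine lt_of_le_of_lt (degree_C_mul_X_pow_le _ _) ?_
        exact_mod_cast (by omega : r + 2 - c < r + 1)
      · rw [degree_one]
        exact_mod_cast Nat.succ_pos r
    rw [hp, add_assoc, degree_add_eq_left_of_degree_lt h1, degree_neg, degree_X_pow]
  set π : K := aeval ξ p with hπdef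
  have hπ : π = -ξ ^ (r + 1) + ω • ξ ^ (r + 2 - c) + 1 := by
    rw [hπdef, hp, map_add, map_add, map_neg, map_pow, aeval_X, map_mul, aeval_C, map_pow, aeval_X, map_one,
      Algebra.smul_def]
  have hp0 : p ≠ 0 := by
    intro h
    rw [h, degree_zero] at hpd
    exact WithBot.bot_ne_coe hpd
  have hπ0 : π ≠ 0 := by
    intro h
    have h1 := minpoly.degree_le_of_ne_zero F ξ hp0 h
    rw [degree_eq_natDegree (minpoly.ne_zero hint), ← hg, hdeg, hpd] at h1
    have h2 : r + c ≤ r + 1 := by exact_mod_cast h1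
    omega
  -- the basis
  let B : ℕ → K := fun i => aeval ξ (PP r p i)
  have hB1 : ∀ i ≤ r, B i = ξ ^ i := by
    intro i hi
    show aeval ξ (PP r p i) = ξ ^ i
    rw [PP, if_pos hi, map_pow, aeval_X]
  have hB2 : ∀ j, B (r + 1 + j) = (-ξ) ^ j * π := by
    intro j
    show aeval ξ (PP r p (r + 1 + j)) = _
    rw [PP, if_neg (by omega), map_mul, map_pow, map_neg, aeval_X, show r + 1 + j - r - 1 = j by omega]
  have hlin : LinearIndependent F (fun i : Fin (r + c) => B i) :=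
    linInd hint hdeg.ge fun i _ => degree_PP hpd i
  have hne : Nonempty (Fin (r + c)) := ⟨⟨0, by omega⟩⟩
  let b := basisOfLinearIndependentOfCardEqFinrank hlin (by rw [Fintype.card_fin, hfr])
  have hb : ∀ i : Fin (r + c), b i = B i := by
    intro i
    show (basisOfLinearIndependentOfCardEqFinrank hlin _) i = _
    rw [coe_basisOfLinearIndependentOfCardEqFinrank]
  have hsp : ∀ v, v ∈ Submodule.span F (Set.range fun i : Fin (r + c) => B i) := by
    intro v
    have h1 : (Set.range fun i : Fin (r + c) => B i) = Set.range b := by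
      congr 1
      funext i
      exact (hb i).symm
    rw [h1, b.span_eq]
    trivial
  let T : K →ₗ[F] K := b.constr F (fun i : Fin (r + c) => if (i : ℕ) + 1 < r + c then B (i + 1) else
    -∑ j ∈ Finset.range (r + c), f.coeff j • B j)
  have hT : ∀ i (hi : i < r + c), T (B i) = if i + 1 < r + c then B (i + 1) else
      -∑ j ∈ Finset.range (r + c), f.coeff j • B j := by
    intro i hi
    have h1 := b.constr_basis F (fun i : Fin (r + c) => if (i : ℕ) + 1 < r + c then B (i + 1) else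
      -∑ j ∈ Finset.range (r + c), f.coeff j • B j) ⟨i, hi⟩
    rw [hb] at h1
    exact h1
  have hT1 : ∀ i, i + 1 < r + c → T (B i) = B (i + 1) := fun i hi => by rw [hT i (by omega), if_pos hi]
  have hT2 : T (B (r + c - 1)) = -∑ j ∈ Finset.range (r + c), f.coeff j • B j := by
    rw [hT _ (by omega), if_neg (by omega)]
  have hTf : aeval (R := F) T f = 0 := _root_.Cfsg.Agent.H143.War.Mix.aeval_comp (by omega) hf hfd hT1 hT2 hsp
  have hf00 : f.coeff 0 ≠ 0 := by
    rw [hf0]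
    exact mul_ne_zero (pow_ne_zero _ (by norm_num)) hg0
  have hinj := injective_of_aeval hf00 hTf
  -- the values
  have hTlow : ∀ i, i < r → T (ξ ^ i) = ξ ^ (i + 1) := by
    intro i hi
    rw [← hB1 i (by omega), hT1 i (by omega), hB1 (i + 1) (by omega)]
  have hTr : T (ξ ^ r) = π := by
    rw [← hB1 r le_rfl, hT1 r (by omega), show r + 1 = r + 1 + 0 from rfl, hB2 0, pow_zero, one_mul]
  have hneg : ∀ j : ℕ, (-ξ) ^ j * π = ((-1 : F) ^ j) • (ξ ^ j * π) := by
    intro j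
    rw [Algebra.smul_def, map_pow, map_neg, map_one, neg_pow ξ]
    ring
  have hsq : ∀ j : ℕ, ((-1 : F) ^ j) * (-1) ^ j = 1 := fun j => by rw [← mul_pow]; norm_num
  have hpi : ∀ j : ℕ, ξ ^ j * π = ((-1 : F) ^ j) • B (r + 1 + j) := by
    intro j
    rw [hB2, hneg, smul_smul, hsq, one_smul]
  have hTpi : ∀ j, j + 2 < c → T (ξ ^ j * π) = -(ξ ^ (j + 1) * π) := by
    intro j hj
    rw [hpi j, map_smul, hT1 _ (by omega), hpi (j + 1), show r + 1 + j + 1 = r + 1 + (j + 1) by ring, pow_succ,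
      mul_neg_one, neg_smul, neg_neg]
  -- the subspaces
  set W₁ := WV F r ξ ξ with hW1
  set W₂ := WV F (c - 2) (ξ * π) ξ with hW2
  have m1 : ∀ i, 1 ≤ i → i ≤ r → ξ ^ i ∈ W₁ ⊔ W₂ := by
    intro i h1 h2
    refine Submodule.mem_sup_left ?_
    obtain ⟨j, rfl⟩ : ∃ j, i = j + 1 := ⟨i - 1, by omega⟩
    rw [pow_succ']
    exact pow_mem_WV (by omega)
  have m2 : ∀ j, 1 ≤ j → j ≤ c - 2 → ξ ^ j * π ∈ W₁ ⊔ W₂ := by
    intro j h1 h2
    refine Submodule.mem_sup_right ?_
    obtain ⟨i, rfl⟩ : ∃ i, j = i + 1 := ⟨j - 1, by omega⟩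
    have h3 : ξ ^ (i + 1) * π = ξ * π * ξ ^ i := by ring
    rw [h3]
    exact pow_mem_WV (by omega)
  have mT : ∀ i, i < r → T (ξ ^ i) ∈ W₁ ⊔ W₂ := fun i hi => by rw [hTlow i hi]; exact m1 _ (by omega) (by omega)
  -- the last vector
  have hlast : T (B (r + c - 1)) + f.coeff 0 • (1 : K) + f.coeff (r + 1) • π ∈ W₁ ⊔ W₂ := by
    have h1 : ∑ j ∈ Finset.range (r + c), (f.coeff j • B j - (if j = 0 then f.coeff 0 • (1 : K) else 0) -
        (if j = r + 1 then f.coeff (r + 1) • π else 0)) ∈ W₁ ⊔ W₂ := by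
      refine Submodule.sum_mem _ fun j hj => ?_
      have hj' := Finset.mem_range.1 hj
      by_cases h0 : j = 0
      · subst h0
        rw [if_pos rfl, if_neg (by omega), hB1 0 (by omega), pow_zero, sub_self, sub_zero]
        exact zero_mem _
      · rw [if_neg h0, sub_zero]
        by_cases h2 : j = r + 1
        · subst h2
          rw [if_pos rfl, show r + 1 = r + 1 + 0 from rfl, hB2 0, pow_zero, one_mul, sub_self]
          exact zero_mem _
        · rw [if_neg h2, sub_zero]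
          refine Submodule.smul_mem _ _ ?_
          rcases Nat.lt_or_ge r j with h3 | h3
          · obtain ⟨i, rfl⟩ : ∃ i, j = r + 1 + i := ⟨j - r - 1, by omega⟩
            rw [hB2, hneg]
            exact Submodule.smul_mem _ _ (m2 _ (by omega) (by omega))
          · rw [hB1 j h3]
            exact m1 _ (by omega) h3
    rw [Finset.sum_sub_distrib, Finset.sum_sub_distrib, Finset.sum_ite_eq', Finset.sum_ite_eq',
      if_pos (Finset.mem_range.2 (by omega)), if_pos (Finset.mem_range.2 (by omega))] at h1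
    rw [hT2]
    have h2 := Submodule.neg_mem _ h1
    have h3 : -(∑ j ∈ Finset.range (r + c), f.coeff j • B j - f.coeff 0 • (1 : K) - f.coeff (r + 1) • π) =
      -∑ j ∈ Finset.range (r + c), f.coeff j • B j + f.coeff 0 • (1 : K) + f.coeff (r + 1) • π := by abel
    rwa [h3] at h2
  -- powers beyond `r`
  have hpow : ∀ i, ξ ^ (r + 1 + i) = -(ξ ^ i * π) + ω • ξ ^ (r + 2 - c + i) + ξ ^ i := by
    intro i
    rw [hπ, Algebra.smul_def, Algebra.smul_def, pow_add ξ (r + 1), pow_add ξ (r + 2 - c)]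
    ring
  have hmid : ∀ k, k < r + c - 1 → k ≠ r → T (ξ ^ k) ∈ W₁ ⊔ W₂ := by
    intro k hk hkr
    rcases Nat.lt_or_ge k r with h1 | h1
    · exact mT k h1
    · obtain ⟨i, rfl⟩ : ∃ i, k = r + 1 + i := ⟨k - r - 1, by omega⟩
      rw [hpow, map_add, map_add, map_neg, map_smul, hTpi i (by omega), neg_neg]
      exact Submodule.add_mem _ (Submodule.add_mem _ (m2 _ (by omega) (by omega))
        (Submodule.smul_mem _ _ (mT _ (by (clear * - hc hcr hk; omega))))) (mT _ (by omega))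
  have htop : T (ξ ^ (r + c - 1)) - (g.coeff 0 • (1 : K) + (s * f.coeff (r + 1) + ω) • π) ∈ W₁ ⊔ W₂ := by
    have h1 : r + c - 1 = r + 1 + (c - 2) := by (clear * - hc; omega)
    have h2 : ((-1 : F) ^ (c - 2)) = s := by
      obtain ⟨d, rfl⟩ : ∃ d, c = d + 2 := ⟨c - 2, by omega⟩
      rw [hs, Nat.add_sub_cancel, pow_add]
      norm_num only [_root_.mul_one]
    have h3 : ξ ^ (r + c - 1) = -(s • B (r + c - 1)) + ω • ξ ^ r + ξ ^ (c - 2) := by
      rw [h1, hpow, hpi, h2, show r + 2 - c + (c - 2) = r by (clear * - hc hcr; omega)]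
    have h4 : g.coeff 0 = s * f.coeff 0 := by rw [hf0, ← mul_assoc, hss, one_mul]
    rw [h3, map_add, map_add, map_neg, map_smul, map_smul, hTr, h4]
    have h5 : -(s • T (B (r + c - 1))) + ω • π + T (ξ ^ (c - 2)) -
        ((s * f.coeff 0) • (1 : K) + (s * f.coeff (r + 1) + ω) • π) =
        -(s • (T (B (r + c - 1)) + f.coeff 0 • (1 : K) + f.coeff (r + 1) • π)) + T (ξ ^ (c - 2)) := by module
    rw [h5]
    exact Submodule.add_mem _ (Submodule.neg_mem _ (Submodule.smul_mem _ _ hlast)) (mT _ (by omega))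
  -- `A 1`
  have hinv : T ξ⁻¹ + (1 : K) - (τ + 2) • π ∈ W₁ ⊔ W₂ := by
    have e1 : aeval ξ g.divX * ξ + algebraMap F K (g.coeff 0) = 0 := by
      have h2 := congrArg (aeval ξ) (divX_mul_X_add g)
      rw [map_add, map_mul, aeval_X, aeval_C, hgξ] at h2
      exact h2
    have e2 : ξ⁻¹ = (-(g.coeff 0)⁻¹) • aeval ξ g.divX := by
      have h3 : algebraMap F K (g.coeff 0) ≠ 0 := by
        rw [Ne, map_eq_zero]
        exact hg0
      rw [Algebra.smul_def, map_neg, map_inv₀]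
      field_simp
      linear_combination e1
    have hdd : g.divX.natDegree < r + c := by
      rw [natDegree_divX_eq_natDegree_tsub_one, hdeg]
      omega
    have h1 : ∑ k ∈ Finset.range (r + c), (g.divX.coeff k • T (ξ ^ k) - (if k = r then g.coeff (r + 1) • π else 0) -
        (if k = r + c - 1 then (g.coeff 0 • (1 : K) + (s * f.coeff (r + 1) + ω) • π) else 0)) ∈ W₁ ⊔ W₂ := by
      refine Submodule.sum_mem _ fun k hk => ?_
      have hk' := Finset.mem_range.1 hk
      by_cases h2 : k = r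
      · subst h2
        rw [if_pos rfl, if_neg (by omega), hTr, coeff_divX, sub_self, sub_zero]
        exact zero_mem _
      · rw [if_neg h2, sub_zero]
        by_cases h3 : k = r + c - 1
        · subst h3
          have h4 : g.divX.coeff (r + c - 1) = 1 := by
            rw [coeff_divX, show r + c - 1 + 1 = r + c by (clear * - hk'; omega), ← hdeg]
            exact hgm
          rw [if_pos rfl, h4, one_smul]
          exact htop
        · rw [if_neg h3, sub_zero]
          exact Submodule.smul_mem _ _ (hmid k (by omega) h2)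
    rw [Finset.sum_sub_distrib, Finset.sum_sub_distrib, Finset.sum_ite_eq', Finset.sum_ite_eq',
      if_pos (Finset.mem_range.2 (by omega)), if_pos (Finset.mem_range.2 (by omega))] at h1
    have h2 : ∑ k ∈ Finset.range (r + c), g.divX.coeff k • T (ξ ^ k) = T (aeval ξ g.divX) := by
      rw [aeval_eq_sum_range' hdd, map_sum]
      exact Finset.sum_congr rfl fun k _ => (map_smul _ _ _).symm
    rw [h2] at h1
    have h3 := Submodule.smul_mem _ (-(g.coeff 0)⁻¹) h1
    have h4 : (-(g.coeff 0)⁻¹) • (T (aeval ξ g.divX) - g.coeff (r + 1) • π -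
        (g.coeff 0 • (1 : K) + (s * f.coeff (r + 1) + ω) • π)) = T ξ⁻¹ + (1 : K) - (τ + 2) • π := by
      rw [e2, map_smul]
      have h5 : s * f.coeff (r + 1) + ω = -(g.coeff 0 * (τ + 2)) - g.coeff (r + 1) := by rw [hω]; ring
      rw [h5]
      have h6 : (g.coeff 0)⁻¹ * g.coeff 0 = 1 := inv_mul_cancel₀ hg0
      have h7 : (-(g.coeff 0)⁻¹) • (T (aeval ξ g.divX) - g.coeff (r + 1) • π -
        (g.coeff 0 • (1 : K) + (-(g.coeff 0 * (τ + 2)) - g.coeff (r + 1)) • π)) =
        (-(g.coeff 0)⁻¹) • T (aeval ξ g.divX) + ((g.coeff 0)⁻¹ * g.coeff 0) • ((1 : K) - (τ + 2) • π) := by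
        module
      rw [h7, h6, one_smul]
      abel
    rwa [h4] at h3
  refine ⟨LinearEquiv.ofInjectiveEndo T hinj, W₁, W₂, ξ ^ (r + 1), ?_, finrank_WV hint hξ0 (by rw [← hg, hdeg]; omega),
    finrank_WV hint (mul_ne_zero hξ0 hπ0) (by rw [← hg, hdeg]; omega), ?_, ?_, ?_, ?_⟩
  · have h1 : ((LinearEquiv.ofInjectiveEndo T hinj : K ≃ₗ[F] K) : Module.End F K) = T := by
      ext v
      rfl
    rw [h1]
    exact hTf
  · intro v hv
    show T v = ξ * v
    obtain ⟨q, hq, e⟩ := mem_WV.1 hv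
    have hv' : v = aeval ξ q := (mul_left_cancel₀ hξ0 e).symm
    rw [mem_degreeLT] at hq
    by_cases hq0 : q = 0
    · rw [hv', hq0, map_zero, map_zero, mul_zero]
    · have h1 : q.natDegree < r := (natDegree_lt_iff_degree_lt hq0).2 hq
      rw [hv', aeval_eq_sum_range' h1, map_sum, Finset.mul_sum]
      refine Finset.sum_congr rfl fun i hi => ?_
      have hi' := Finset.mem_range.1 hi
      rw [map_smul, hTlow i hi', mul_smul_comm, pow_succ']
  · intro v hv
    show T v = -(ξ * v)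
    obtain ⟨q, hq, e⟩ := mem_WV.1 hv
    have hv' : v = π * aeval ξ q := by
      rw [mul_assoc] at e
      exact (mul_left_cancel₀ hξ0 e).symm
    rw [mem_degreeLT] at hq
    by_cases hq0 : q = 0
    · rw [hv', hq0, map_zero, mul_zero, map_zero, mul_zero, neg_zero]
    · have h1 : q.natDegree < c - 2 := (natDegree_lt_iff_degree_lt hq0).2 hq
      rw [hv', aeval_eq_sum_range' h1, Finset.mul_sum, map_sum, Finset.mul_sum, ← Finset.sum_neg_distrib]
      refine Finset.sum_congr rfl fun i hi => ?_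
      have hi' := Finset.mem_range.1 hi
      have h2 : π * q.coeff i • ξ ^ i = q.coeff i • (ξ ^ i * π) := by
        rw [mul_smul_comm, mul_comm]
      rw [h2, map_smul, hTpi i (by omega), mul_smul_comm, ← smul_neg]
      congr 1
      ring
  · have hAy : LinearEquiv.ofInjectiveEndo T hinj (ξ⁻¹ * ξ ^ (r + 1)) = π := by
      show T (ξ⁻¹ * ξ ^ (r + 1)) = π
      rw [pow_succ', inv_mul_cancel_left₀ hξ0, hTr]
    rw [hAy, eq_top_iff]
    intro v _
    have key : Submodule.span F (Set.range fun i : Fin (r + c) => B i) ≤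
        W₁ ⊔ W₂ ⊔ Submodule.span F {ξ ^ (r + 1), π} := by
      rw [Submodule.span_le]
      rintro _ ⟨⟨i, hi⟩, rfl⟩
      show B i ∈ W₁ ⊔ W₂ ⊔ Submodule.span F {ξ ^ (r + 1), π}
      have ha : ξ ^ (r + 1) ∈ W₁ ⊔ W₂ ⊔ Submodule.span F {ξ ^ (r + 1), π} :=
        Submodule.mem_sup_right (Submodule.subset_span (by simp))
      have hb : π ∈ W₁ ⊔ W₂ ⊔ Submodule.span F {ξ ^ (r + 1), π} :=
        Submodule.mem_sup_right (Submodule.subset_span (by simp))
      rcases Nat.lt_or_ge r i with h3 | h3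
      · obtain ⟨j, rfl⟩ : ∃ j, i = r + 1 + j := ⟨i - r - 1, by omega⟩
        rw [hB2, hneg]
        refine Submodule.smul_mem _ _ ?_
        rcases Nat.eq_zero_or_pos j with h4 | h4
        · subst h4
          rw [pow_zero, one_mul]
          exact hb
        · exact Submodule.mem_sup_left (m2 _ h4 (by omega))
      · rw [hB1 i h3]
        rcases Nat.eq_zero_or_pos i with h4 | h4
        · subst h4
          have h5 : ξ ^ 0 = π + ξ ^ (r + 1) - ω • ξ ^ (r + 2 - c) := by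
            rw [hπ, pow_zero]
            abel
          rw [h5]
          exact Submodule.sub_mem _ (Submodule.add_mem _ hb ha)
            (Submodule.smul_mem _ _ (Submodule.mem_sup_left (m1 _ (by omega) (by omega))))
        · exact Submodule.mem_sup_left (m1 _ h4 h3)
    exact key (hsp v)
  · have hAy : LinearEquiv.ofInjectiveEndo T hinj (ξ⁻¹ * ξ ^ (r + 1)) = π := by
      show T (ξ⁻¹ * ξ ^ (r + 1)) = π
      rw [pow_succ', inv_mul_cancel_left₀ hξ0, hTr]
    rw [hAy]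
    show T (ξ⁻¹ * π) - τ • π + ξ ^ (r + 1) ∈ W₁ ⊔ W₂
    have h1 : ξ⁻¹ * π = -ξ ^ r + ω • ξ ^ (r + 1 - c) + ξ⁻¹ := by
      rw [hπ, show r + 2 - c = r + 1 - c + 1 by (clear * - hcr; omega), pow_succ', pow_succ', Algebra.smul_def, Algebra.smul_def]
      field_simp
    rw [h1, map_add, map_add, map_neg, map_smul, hTr]
    have h2 : -π + ω • T (ξ ^ (r + 1 - c)) + T ξ⁻¹ - τ • π + ξ ^ (r + 1) =
        (T ξ⁻¹ + (1 : K) - (τ + 2) • π) + ω • T (ξ ^ (r + 1 - c)) + (π + ξ ^ (r + 1) - 1) := by module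
    have h3 : π + ξ ^ (r + 1) - 1 = ω • ξ ^ (r + 2 - c) := by
      rw [hπ]
      abel
    rw [h2, h3]
    exact Submodule.add_mem _ (Submodule.add_mem _ hinv (Submodule.smul_mem _ _ (mT _ (by omega))))
      (Submodule.smul_mem _ _ (m1 _ (by omega) (by omega)))

end Cfsg.Agent.H143.War.MJ
end

-- part: H843/TC6/Fac
section
/-!
# S2464, S2452 for `PSp_2n(q)`: factorizations in `GL(P)`

`f = minpoly ξ` of degree `s`.
* `ff_one` : `A = 1`, `dim = s`.
* `ff_mix` : `A = diag (1_a, -1_b)`, `a + b = s`, `a ≥ 1`, `b` even.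
* `ff_mix2` : `A = diag (1_a, -1_b)`, `a + b = 2 s`, `a ≥ 2`, `a`, `b` even, `s` odd.
* `ff_J` : `A = diag (1_r, -1_d, J)`, `r + d + 2 = s`, `d` even, `d + 2 ≤ r + 1`, `J² = -1`.
-/

set_option autoImplicit false
open Polynomial

noncomputable section

namespace Cfsg.Agent.H843.TC6

open Cfsg.Agent.H144 Cfsg.Agent.H144.War

variable {F V K : Type} [Field F] [AddCommGroup V] [Module F V] [FiniteDimensional F V] [Field K] [Algebra F K]
  [FiniteDimensional F K]

omit [FiniteDimensional F K] in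
theorem ff_mu {ξ : K} (hξ : ξ ≠ 0) {X : K ≃ₗ[F] K} (hX : aeval (X : Module.End F K) (minpoly F ξ) = 0) :
    FF (minpoly F ξ) (X * (mu F ξ hξ)⁻¹) :=
  ⟨X, (mu F ξ hξ)⁻¹, hX, by rw [inv_inv]; exact aeval_mu ξ hξ, fun v => rfl⟩

theorem ff_one {s : ℕ} {ξ : K} (hξ : Gx F s ξ) (hV : Module.finrank F V = s) :
    FF (minpoly F ξ) (1 : V ≃ₗ[F] V) := by
  obtain ⟨h0, hK, -⟩ := hξ
  let φ : V ≃ₗ[F] K := LinearEquiv.ofFinrankEq _ _ (by rw [hV, hK])
  refine (ff_mu h0 (X := mu F ξ h0) (aeval_mu ξ h0)).conj φ fun v => ?_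
  rw [mul_inv_cancel]
  rfl

theorem isCompl_of_finrank {U W : Submodule F V} {a b : ℕ} (hV : Module.finrank F V = a + b)
    (hU : Module.finrank F U = a) (hW : Module.finrank F W = b) (hUW : U ⊔ W = ⊤) : IsCompl U W := by
  refine ⟨?_, codisjoint_iff.2 hUW⟩
  rw [disjoint_iff, ← Submodule.finrank_eq_zero (R := F)]
  have h3 := Submodule.finrank_sup_add_finrank_inf_eq U W
  rw [hUW, finrank_top, hV, hU, hW] at h3
  omega

theorem ff_mix (h2 : (2 : F) ≠ 0) {s a b : ℕ} {ξ : K} (hξ : Gx F s ξ) (ha : 1 ≤ a) (hb : Even b) (hab : a + b = s)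
    (hV : Module.finrank F V = s) {U W : Submodule F V} (hU : Module.finrank F U = a) (hW : Module.finrank F W = b)
    (hUW : U ⊔ W = ⊤) {A : V ≃ₗ[F] V} (hA1 : ∀ v ∈ U, A v = v) (hA2 : ∀ v ∈ W, A v = -v) : FF (minpoly F ξ) A := by
  have hcU : IsCompl U W := isCompl_of_finrank (by rw [hV, hab]) hU hW hUW
  rcases Nat.eq_zero_or_pos b with hb0 | hbpos
  · subst hb0
    have hW0 : W = ⊥ := Submodule.finrank_eq_zero.1 hW
    rw [hW0, sup_bot_eq] at hUW
    have h3 : A = 1 := by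
      ext v
      exact hA1 v (by rw [hUW]; trivial)
    rw [h3]
    exact ff_one hξ hV
  obtain ⟨h0, hK, hdeg, -, -⟩ := hξ
  have finE : ∀ {W' E : Submodule F K} {w : ℕ}, IsCompl W' E → Module.finrank F W' = w →
      Module.finrank F E = a + b - w := by
    intro W' E w hc hw
    have := Submodule.finrank_add_eq_of_isCompl hc
    rw [hK, hw] at this
    (clear * - hab this; omega)
  rcases Nat.lt_or_ge (a + 1) b with hlt | hge
  · -- `b > a + 1` : use `-A`
    set g := minpoly F ξ with hg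
    have hgm : g.Monic := minpoly.monic (Algebra.IsIntegral.isIntegral (R := F) ξ)
    obtain ⟨X, W', hXf, hW', hX1, hX2⟩ := H143.War.Mix.mixCore (r := b) (c := a) ha (by omega) (by rw [hK]; omega) h0
      (by rw [← hg, hdeg]; omega) (f := (-1) ^ (a + b) * g.comp (-Polynomial.X))
      (by
        have := hgm.neg_one_pow_natDegree_mul_comp_neg_X
        rwa [hdeg, ← hab] at this)
      (by
        have h3 : ((-1 : F[X]) ^ (a + b)) = C ((-1) ^ (a + b)) := by simp only [_root_.map_pow, _root_.map_neg, _root_.map_one]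
        rw [h3, natDegree_C_mul (pow_ne_zero _ (neg_ne_zero.2 one_ne_zero)), natDegree_comp, natDegree_neg,
          natDegree_X, mul_one, hdeg, ← hab, add_comm])
      (by
        have h3 : ((-1 : F[X]) ^ (a + b)) = C ((-1) ^ (a + b)) := by simp only [_root_.map_pow, _root_.map_neg, _root_.map_one]
        rw [h3, coeff_C_mul, coeff_zero_eq_eval_zero, coeff_zero_eq_eval_zero, eval_comp, eval_neg, eval_X, neg_zero,
          pow_add, hb.neg_one_pow, mul_one])
    have hX : aeval ((ng X : K ≃ₗ[F] K) : Module.End F K) g = 0 := by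
      have h3 : ((ng X : K ≃ₗ[F] K) : Module.End F K) = aeval (X : Module.End F K) (-Polynomial.X : F[X]) := by
        rw [map_neg, aeval_X]
        ext v
        rfl
      rw [map_mul] at hXf
      rw [h3, ← aeval_comp]
      have h4 : aeval (X : Module.End F K) ((-1 : F[X]) ^ (a + b)) * aeval (X : Module.End F K) ((-1 : F[X]) ^ (a + b))
          = 1 := by
        rw [← map_mul, ← mul_pow]
        simp
      calc aeval (X : Module.End F K) (g.comp (-Polynomial.X))
          = (aeval (X : Module.End F K) ((-1 : F[X]) ^ (a + b)) * aeval (X : Module.End F K) ((-1 : F[X]) ^ (a + b))) *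
            aeval (X : Module.End F K) (g.comp (-Polynomial.X)) := by rw [h4, one_mul]
        _ = 0 := by rw [mul_assoc, hXf, mul_zero]
    have hA' : ∀ v : K, (ng X * (mu F ξ h0)⁻¹) v = - X (ξ⁻¹ * v) := fun v => rfl
    have k1 : ∀ v ∈ W', (ng X * (mu F ξ h0)⁻¹) v = (-1 : F) • v := by
      intro v hv
      rw [hA', hX1 _ (by rw [mul_inv_cancel_left₀ h0]; exact hv), mul_inv_cancel_left₀ h0, neg_one_smul]
    have k2 : ∀ v, (ng X * (mu F ξ h0)⁻¹) v + (-1 : F) • v ∈ W' := by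
      intro v
      have h3 := W'.neg_mem (hX2 (ξ⁻¹ * v))
      rw [mul_inv_cancel_left₀ h0] at h3
      rw [hA', neg_one_smul, ← neg_add]
      exact h3
    obtain ⟨E, hcE, hEv⟩ := isCompl_of_mod h2 (by ring) k1 k2
    have hfE := finE hcE hW'
    obtain ⟨φ, hφ⟩ := exists_conj_of_split hcU hcE.symm (by rw [hU, hfE]; (clear * -; omega)) (by rw [hW, hW']) (A := A) (c₁ := 1)
      (c₂ := -1) (fun v hv => by rw [one_smul, hA1 v hv]) (fun v hv => by rw [neg_one_smul, hA2 v hv])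
      (fun v hv => by rw [hEv v hv, neg_neg]) k1
    exact (ff_mu h0 hX).conj φ hφ
  · obtain ⟨X, W', hXf, hW', hX1, hX2⟩ := H143.War.Mix.mixCore (r := a) (c := b) hbpos (by omega) (by rw [hK, hab]) h0
      (by rw [hdeg, hab]) (f := minpoly F ξ)
      (minpoly.monic (Algebra.IsIntegral.isIntegral (R := F) ξ)) (by rw [hdeg, hab])
      (by rw [hb.neg_one_pow, one_mul])
    have hA' : ∀ v : K, (X * (mu F ξ h0)⁻¹) v = X (ξ⁻¹ * v) := fun v => rfl
    have k1 : ∀ v ∈ W', (X * (mu F ξ h0)⁻¹) v = (1 : F) • v := by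
      intro v hv
      rw [hA', hX1 _ (by rw [mul_inv_cancel_left₀ h0]; exact hv), mul_inv_cancel_left₀ h0, one_smul]
    have k2 : ∀ v, (X * (mu F ξ h0)⁻¹) v + (1 : F) • v ∈ W' := by
      intro v
      have h3 := hX2 (ξ⁻¹ * v)
      rw [mul_inv_cancel_left₀ h0] at h3
      rw [hA', one_smul]
      exact h3
    obtain ⟨E, hcE, hEv⟩ := isCompl_of_mod h2 (by ring) k1 k2
    have hfE := finE hcE hW'
    obtain ⟨φ, hφ⟩ := exists_conj_of_split hcU hcE (by rw [hU, hW']) (by rw [hW, hfE]; (clear * -; omega)) (A := A) (c₁ := 1)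
      (c₂ := -1) (fun v hv => by rw [one_smul, hA1 v hv]) (fun v hv => by rw [neg_one_smul, hA2 v hv])
      k1 hEv
    exact (ff_mu h0 hXf).conj φ hφ

/-! ### two blocks -/

/-- a subspace of given dimension -/
theorem exists_le_finrank {W : Submodule F V} {k : ℕ} (hk : k ≤ Module.finrank F W) :
    ∃ W₁ W₂ : Submodule F V, W₁ ≤ W ∧ W₂ ≤ W ∧ W₁ ⊔ W₂ = W ∧ Module.finrank F W₁ = k ∧
      Module.finrank F W₂ = Module.finrank F W - k := by
  obtain ⟨S, hS⟩ : ∃ S : Submodule F W, Module.finrank F S = k := by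
    refine ⟨Submodule.span F (Set.range (Module.finBasis F W ∘ Fin.castLE hk)), ?_⟩
    rw [finrank_span_eq_card ((Module.finBasis F W).linearIndependent.comp _ (Fin.castLE_injective hk)),
      Fintype.card_fin]
  obtain ⟨T, hT⟩ := S.exists_isCompl
  have h1 := Submodule.finrank_add_eq_of_isCompl hT
  refine ⟨S.map W.subtype, T.map W.subtype, Submodule.map_subtype_le W S, Submodule.map_subtype_le W T, ?_, ?_, ?_⟩
  · rw [← Submodule.map_sup, hT.sup_eq_top, Submodule.map_subtype_top]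
  · rw [Submodule.finrank_map_subtype_eq, hS]
  · rw [Submodule.finrank_map_subtype_eq]
    omega

theorem ff_ds {S T : Submodule F V} (h : IsCompl S T) {A : V ≃ₗ[F] V} (hS : ∀ v ∈ S, A v ∈ S) (hT : ∀ v ∈ T, A v ∈ T)
    {f : F[X]} (h1 : FF f (gr A S hS)) (h2 : FF f (gr A T hT)) : FF f A := by
  have e : A = War.ds h (gr A S hS) (gr A T hT) := by
    ext v
    obtain ⟨r, hr, s, hs, rfl⟩ := mem_sup_top h.sup_eq_top v
    have h3 := ds_apply h (gr A S hS) (gr A T hT) ⟨r, hr⟩ ⟨s, hs⟩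
    simp only at h3
    rw [h3, map_add]
    rfl
  rw [e]
  exact h1.ds h h2

theorem ff_mix2 (h2 : (2 : F) ≠ 0) {s a b : ℕ} {ξ : K} (hξ : Gx F s ξ) (hs : Odd s) (ha : 2 ≤ a) (hb : Even b)
    (hab : a + b = 2 * s) (hV : Module.finrank F V = 2 * s) {U W : Submodule F V} (hU : Module.finrank F U = a)
    (hW : Module.finrank F W = b) (hUW : U ⊔ W = ⊤) {A : V ≃ₗ[F] V} (hA1 : ∀ v ∈ U, A v = v)
    (hA2 : ∀ v ∈ W, A v = -v) : FF (minpoly F ξ) A := by
  have hcU : IsCompl U W := isCompl_of_finrank (by rw [hV, hab]) hU hW hUW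
  obtain ⟨b₁, b₂, h1e, hb₁s, hb₂s, hbb⟩ : ∃ b₁ b₂ : ℕ, Even b₁ ∧ b₁ + 1 ≤ s ∧ b₂ + 1 ≤ s ∧ b₁ + b₂ = b := by
    obtain ⟨t, ht⟩ := hs
    obtain ⟨c, hc⟩ := hb
    rcases Nat.lt_or_ge b s with h | h
    · exact ⟨b, 0, ⟨c, hc⟩, by omega, by omega, by omega⟩
    · exact ⟨s - 1, b - (s - 1), ⟨t, by omega⟩, by omega, by (clear * - ha hab; omega), by (clear * - h; omega)⟩
  have h2e : Even b₂ := by
    have : Even (b₁ + b₂) := by rw [hbb]; exact hb
    exact (Nat.even_add.1 this).1 h1e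
  obtain ⟨W₁, W₂, w1, w2, w3, w4, w5⟩ := exists_le_finrank (W := W) (k := b₁) (by omega)
  obtain ⟨U₁, U₂, u1, u2, u3, u4, u5⟩ := exists_le_finrank (W := U) (k := s - b₁) (by omega)
  have hd : ∀ {S T : Submodule F V}, S ≤ U → T ≤ W → Module.finrank F ↥(S ⊔ T) = Module.finrank F S + Module.finrank F T := by
    intro S T hS hT
    have h3 := Submodule.finrank_sup_add_finrank_inf_eq S T
    have h4 : S ⊓ T = ⊥ := (hcU.disjoint.mono hS hT).eq_bot
    rw [h4, finrank_bot] at h3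
    omega
  have hinv : ∀ {S T : Submodule F V}, S ≤ U → T ≤ W → ∀ v ∈ S ⊔ T, A v ∈ S ⊔ T := by
    intro S T hS hT v hv
    obtain ⟨x, hx, y, hy, rfl⟩ := Submodule.mem_sup.1 hv
    rw [map_add, hA1 x (hS hx), hA2 y (hT hy)]
    exact Submodule.add_mem_sup hx (T.neg_mem hy)
  have key : ∀ {S T : Submodule F V} (hS : S ≤ U) (hT : T ≤ W) {a' b' : ℕ}, Module.finrank F S = a' →
      Module.finrank F T = b' → a' + b' = s → 1 ≤ a' → Even b' → FF (minpoly F ξ) (gr A (S ⊔ T) (hinv hS hT)) := by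
    intro S T hS hT a' b' hSa hTb hs' ha' hb'
    have hle : ∀ v : ↥(S ⊔ T), v ∈ S.comap (S ⊔ T).subtype ⊔ T.comap (S ⊔ T).subtype := by
      intro v
      obtain ⟨u, hu, w, hw, huw⟩ := Submodule.mem_sup.1 v.2
      have e1 : v = (⟨u, Submodule.mem_sup_left hu⟩ : ↥(S ⊔ T)) + ⟨w, Submodule.mem_sup_right hw⟩ := Subtype.ext huw.symm
      rw [e1]
      exact Submodule.add_mem_sup hu hw
    refine ff_mix h2 hξ ha' hb' hs' (by rw [hd hS hT, hSa, hTb, hs']) (U := S.comap (S ⊔ T).subtype)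
      (W := T.comap (S ⊔ T).subtype) ?_ ?_ (eq_top_iff.2 fun v _ => hle v) ?_ ?_
    · rw [(Submodule.comapSubtypeEquivOfLe le_sup_left).finrank_eq, hSa]
    · rw [(Submodule.comapSubtypeEquivOfLe le_sup_right).finrank_eq, hTb]
    · intro v hv
      exact Subtype.ext (hA1 v (hS hv))
    · intro v hv
      exact Subtype.ext (hA2 v (hT hv))
  have hc : IsCompl (U₁ ⊔ W₁) (U₂ ⊔ W₂) := by
    apply isCompl_of_finrank (a := s) (b := s) (by omega)
    · rw [hd u1 w1]; (clear * - hb₁s w4 u4; omega)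
    · rw [hd u2 w2]; (clear * - hab hU hW hb₁s hb₂s hbb w5 u5; omega)
    · rw [sup_sup_sup_comm, u3, w3, hUW]
  exact ff_ds hc (hinv u1 w1) (hinv u2 w2) (key u1 w1 u4 w4 (by (clear * - hab hU hW hb₁s hb₂s hbb w4; omega)) (by omega) h1e)
    (key u2 w2 u5 w5 (by omega) (by omega) (by rw [show Module.finrank F W - b₁ = b₂ by (clear * - hW hbb; omega)]; exact h2e))

/-! ### the block with `J` -/

theorem exists_conj_J {r d : ℕ} {M : Type} [AddCommGroup M] [Module F M] [FiniteDimensional F M]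
    (hV : Module.finrank F V = r + d + 2) (hM : Module.finrank F M = r + d + 2)
    {U W : Submodule F V} {U' W' : Submodule F M} (hU : Module.finrank F U = r) (hW : Module.finrank F W = d)
    (hU' : Module.finrank F U' = r) (hW' : Module.finrank F W' = d) {p₁ p₂ : V} {y₁ y₂ : M}
    (htop : U ⊔ W ⊔ Submodule.span F {p₁, p₂} = ⊤) (htop' : U' ⊔ W' ⊔ Submodule.span F {y₁, y₂} = ⊤)
    {A : V ≃ₗ[F] V} {A' : M ≃ₗ[F] M} (hA1 : ∀ v ∈ U, A v = v) (hA2 : ∀ v ∈ W, A v = -v) (hA3 : A p₁ = p₂)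
    (hA4 : A p₂ = -p₁) (hA1' : ∀ v ∈ U', A' v = v) (hA2' : ∀ v ∈ W', A' v = -v) (hA3' : A' y₁ = y₂)
    (hA4' : A' y₂ = -y₁) : ∃ φ : V ≃ₗ[F] M, ∀ v, φ (A v) = A' (φ v) := by
  have mk : ∀ {L : Type} [AddCommGroup L] [Module F L] [FiniteDimensional F L] (S T : Submodule F L) (p q : L),
      Module.finrank F L = r + d + 2 → Module.finrank F S = r → Module.finrank F T = d →
      S ⊔ T ⊔ Submodule.span F {p, q} = ⊤ →
      ∃ φ : (S × T × F × F) ≃ₗ[F] L, ∀ (u : S) (w : T) (x y : F), φ (u, w, x, y) = u + (w + (x • p + y • q)) := by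
    intro L _ _ _ S T p q hL hS hT htop
    let τ : (S × T × F × F) →ₗ[F] L := S.subtype.coprod (T.subtype.coprod
      ((LinearMap.toSpanSingleton F L p).coprod (LinearMap.toSpanSingleton F L q)))
    have hτ : ∀ (u : S) (w : T) (x y : F), τ (u, w, x, y) = u + (w + (x • p + y • q)) := fun u w x y => rfl
    have hsurj : Function.Surjective τ := by
      intro v
      obtain ⟨u, hu, w, hw, rfl⟩ := mem_sup_top htop v
      obtain ⟨u1, hu1, u2, hu2, rfl⟩ := Submodule.mem_sup.1 hu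
      obtain ⟨x, y, rfl⟩ := Submodule.mem_span_pair.1 hw
      exact ⟨(⟨u1, hu1⟩, ⟨u2, hu2⟩, x, y), by rw [hτ, add_assoc]⟩
    have hfin : Module.finrank F (S × T × F × F) = Module.finrank F L := by
      rw [Module.finrank_prod, Module.finrank_prod, Module.finrank_prod, Module.finrank_self, hS, hT, hL]
      omega
    have hinj : Function.Injective τ := by
      have h1 := LinearMap.finrank_range_add_finrank_ker τ
      rw [LinearMap.range_eq_top.2 hsurj, finrank_top, ← hfin] at h1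
      have h2 : Module.finrank F (LinearMap.ker τ) = 0 := by omega
      exact LinearMap.ker_eq_bot.1 (Submodule.finrank_eq_zero.1 h2)
    exact ⟨LinearEquiv.ofBijective τ ⟨hinj, hsurj⟩, hτ⟩
  obtain ⟨φ₁, h1⟩ := mk U W p₁ p₂ hV hU hW htop
  obtain ⟨φ₂, h2⟩ := mk U' W' y₁ y₂ hM hU' hW' htop'
  let e₁ : U ≃ₗ[F] U' := LinearEquiv.ofFinrankEq _ _ (by rw [hU, hU'])
  let e₂ : W ≃ₗ[F] W' := LinearEquiv.ofFinrankEq _ _ (by rw [hW, hW'])
  let E : (U × W × F × F) ≃ₗ[F] (U' × W' × F × F) := e₁.prodCongr (e₂.prodCongr (LinearEquiv.refl F (F × F)))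
  refine ⟨φ₁.symm.trans (E.trans φ₂), fun v => ?_⟩
  obtain ⟨⟨u, w, x, y⟩, rfl⟩ := φ₁.surjective v
  have e3 : A (φ₁ (u, w, x, y)) = φ₁ (u, -w, -y, x) := by
    rw [h1, h1, map_add, map_add, map_add, map_smul, map_smul, hA1 _ u.2, hA2 _ w.2, hA3, hA4]
    push_cast
    module
  have e4 : ∀ (u : U') (w : W') (x y : F), A' (φ₂ (u, w, x, y)) = φ₂ (u, -w, -y, x) := by
    intro u w x y
    rw [h2, h2, map_add, map_add, map_add, map_smul, map_smul, hA1' _ u.2, hA2' _ w.2, hA3', hA4']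
    push_cast
    module
  rw [e3]
  change φ₂ (E (φ₁.symm (φ₁ (u, -w, -y, x)))) = A' (φ₂ (E (φ₁.symm (φ₁ (u, w, x, y)))))
  rw [φ₁.symm_apply_apply, φ₁.symm_apply_apply]
  change φ₂ (e₁ u, e₂ (-w), -y, x) = A' (φ₂ (e₁ u, e₂ w, x, y))
  rw [e4, map_neg]

theorem ff_J (h2 : (2 : F) ≠ 0) {s r d : ℕ} {ξ : K} (hξ : Gx F s ξ) (hd : Even d) (hrd : d + 1 ≤ r)
    (hs : r + d + 2 = s) (hV : Module.finrank F V = s) {U W : Submodule F V} (hU : Module.finrank F U = r)
    (hW : Module.finrank F W = d) {p₁ p₂ : V} (htop : U ⊔ W ⊔ Submodule.span F {p₁, p₂} = ⊤)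
    {A : V ≃ₗ[F] V} (hA1 : ∀ v ∈ U, A v = v) (hA2 : ∀ v ∈ W, A v = -v) (hA3 : A p₁ = p₂) (hA4 : A p₂ = -p₁) :
    FF (minpoly F ξ) A := by
  obtain ⟨h0, hK, hdeg, -, -⟩ := hξ
  obtain ⟨X, W₁, W₂, y, hXf, hW₁, hW₂, hX1, hX2, hsup, hX3⟩ := H143.War.MJ.mjCore (r := r) (c := d + 2) (by omega)
    (by omega) (by rw [hK]; omega) h0 (by rw [hdeg]; omega) (f := minpoly F ξ)
    (minpoly.monic (Algebra.IsIntegral.isIntegral (R := F) ξ)) (by rw [hdeg]; omega)
    (by rw [pow_add, hd.neg_one_pow]; norm_num) 0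
  rw [Nat.add_sub_cancel] at hW₂
  rw [zero_smul, sub_zero] at hX3
  set A' := X * (mu F ξ h0)⁻¹ with hA'
  have hA'v : ∀ v : K, A' v = X (ξ⁻¹ * v) := fun v => rfl
  have k1 : ∀ v ∈ W₁, A' v = v := by
    intro v hv
    rw [hA'v, hX1 _ (by rw [mul_inv_cancel_left₀ h0]; exact hv), mul_inv_cancel_left₀ h0]
  have k2 : ∀ v ∈ W₂, A' v = -v := by
    intro v hv
    rw [hA'v, hX2 _ (by rw [mul_inv_cancel_left₀ h0]; exact hv), mul_inv_cancel_left₀ h0]
  have hAA : ∀ v ∈ W₁ ⊔ W₂, A' (A' v) = v := by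
    intro v hv
    obtain ⟨a, ha, b, hb, rfl⟩ := Submodule.mem_sup.1 hv
    rw [map_add, k1 a ha, k2 b hb, map_add, k1 a ha, map_neg, k2 b hb, neg_neg]
  have hAW : ∀ v ∈ W₁ ⊔ W₂, A' v ∈ W₁ ⊔ W₂ := by
    intro v hv
    obtain ⟨a, ha, b, hb, rfl⟩ := Submodule.mem_sup.1 hv
    rw [map_add, k1 a ha, k2 b hb]
    exact Submodule.add_mem_sup ha (W₂.neg_mem hb)
  obtain ⟨w, hw⟩ : ∃ w, w = A' (A' y) + y := ⟨_, rfl⟩
  have hwm : w ∈ W₁ ⊔ W₂ := by rw [hw]; exact hX3
  have hw2 : (2 : F)⁻¹ • w ∈ W₁ ⊔ W₂ := Submodule.smul_mem _ _ hwm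
  set y' := y - (2 : F)⁻¹ • w with hy'
  have hy2 : A' (A' y') = -y' := by
    have h3 := hAA _ hw2
    have h4 : A' (A' y) = w - y := by rw [hw]; abel
    rw [hy', map_sub, map_sub, h3, h4]
    have h5 : w = (2 : F)⁻¹ • w + (2 : F)⁻¹ • w := by
      rw [← two_smul F ((2 : F)⁻¹ • w), smul_smul, mul_inv_cancel₀ h2, one_smul]
    nth_rewrite 1 [h5]
    abel
  have htop' : W₁ ⊔ W₂ ⊔ Submodule.span F {y', A' y'} = ⊤ := by
    rw [eq_top_iff, ← hsup]
    refine sup_le le_sup_left ?_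
    rw [Submodule.span_le]
    rintro v hv
    rcases hv with rfl | hv
    · have e1 : v = (2 : F)⁻¹ • w + y' := by rw [hy']; abel
      rw [e1]
      exact Submodule.add_mem_sup hw2 (Submodule.subset_span (by simp))
    · rw [Set.mem_singleton_iff] at hv
      subst hv
      have e1 : A' y = A' ((2 : F)⁻¹ • w) + A' y' := by rw [← map_add, hy']; congr 1; abel
      change A' y ∈ _
      rw [e1]
      exact Submodule.add_mem_sup (hAW _ hw2) (Submodule.subset_span (by simp))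
  obtain ⟨φ, hφ⟩ := exists_conj_J (r := r) (d := d) (by omega) (by rw [hK]; omega) hU hW hW₁ hW₂ htop htop' hA1 hA2 hA3
    hA4 k1 k2 rfl hy2
  exact (ff_mu h0 hXf).conj φ hφ

end Cfsg.Agent.H843.TC6
end
end
end

-- part: H144/TC/Types
section
prune_inst 0x300000000000000000010000000000000
set_option linter.all false
open scoped Cfsg.Agent.FastGrp

/-!
# Two fixed classes (S4173): types of isometries

`ξ` an automorphism of a space `M` (the model).  `HasType B ξ X` : the isometry `X` preserves `P` and `Q`, `V = P ⊕ Q`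
totally isotropic, and `X` on `P` is isomorphic to `ξ` on `M`.  All isometries of type `ξ` are conjugate.
* `TT B ξ ζ g` : `g = X Z`, `X` of type `ξ`, `Z` of type `ζ`.
* `FacT ξ ζ A` : `A = x z` in `GL(P)`, `x ≅ ξ`, `z ≅ ζ`.
* `tt_of_corner`.
-/

set_option autoImplicit false
open Polynomial

noncomputable section

namespace Cfsg.Agent.H144.TC

open Cfsg.Agent.H144.War

variable {F V M N : Type*} [Field F] [AddCommGroup V] [Module F V] [AddCommGroup M] [Module F M]
  [AddCommGroup N] [Module F N]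

/-- `X` is of type `ξ` -/
def HasType (B : LinearMap.BilinForm F V) (ξ : M ≃ₗ[F] M) (X : V ≃ₗ[F] V) : Prop :=
  Iso B X ∧ ∃ P Q : Submodule F V, Orth B P P ∧ Orth B Q Q ∧ P ⊔ Q = ⊤ ∧ (∀ v ∈ Q, X v ∈ Q) ∧
    ∃ φ : P ≃ₗ[F] M, ∀ v : P, X v = (tr φ ξ v : P)

/-- `g = X Z` -/
def TT (B : LinearMap.BilinForm F V) (ξ : M ≃ₗ[F] M) (ζ : N ≃ₗ[F] N) (g : V ≃ₗ[F] V) : Prop :=
  ∃ X Z : V ≃ₗ[F] V, HasType B ξ X ∧ HasType B ζ Z ∧ g = X * Z

/-- `A = x z` -/
def FacT (ξ : M ≃ₗ[F] M) (ζ : N ≃ₗ[F] N) (A : V ≃ₗ[F] V) : Prop :=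
  ∃ (φ : V ≃ₗ[F] M) (ψ : V ≃ₗ[F] N), ∀ v, A v = tr φ ξ (tr ψ ζ v)

theorem FacT.conj {M' : Type*} [AddCommGroup M'] [Module F M'] {ξ : M ≃ₗ[F] M} {ζ : N ≃ₗ[F] N} {A : M' ≃ₗ[F] M'}
    (hA : FacT ξ ζ A) (θ : V ≃ₗ[F] M') {A' : V ≃ₗ[F] V} (h : ∀ v, θ (A' v) = A (θ v)) : FacT ξ ζ A' := by
  obtain ⟨φ, ψ, hφψ⟩ := hA
  refine ⟨θ.trans φ, θ.trans ψ, fun v => ?_⟩
  apply θ.injective
  rw [h, hφψ]
  simp only [tr_apply, LinearEquiv.trans_apply, LinearEquiv.symm_trans_apply, LinearEquiv.apply_symm_apply]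

theorem HasType.conj {B : LinearMap.BilinForm F V} {ξ : M ≃ₗ[F] M} {X : V ≃ₗ[F] V} (h : HasType B ξ X)
    {u : V ≃ₗ[F] V} (hu : Iso B u) : HasType B ξ (u * X * u⁻¹) := by
  obtain ⟨hX, P, Q, hP, hQ, hPQ, hXQ, φ, hφ⟩ := h
  refine ⟨(hu.mul hX).mul hu.inv, P.map (u : V →ₗ[F] V), Q.map (u : V →ₗ[F] V), ?_, ?_, ?_, ?_,
    (u.submoduleMap P).symm.trans φ, ?_⟩
  · rintro _ ⟨x, hx, rfl⟩ _ ⟨y, hy, rfl⟩
    exact (hu x y).trans (hP x hx y hy)
  · rintro _ ⟨x, hx, rfl⟩ _ ⟨y, hy, rfl⟩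
    exact (hu x y).trans (hQ x hx y hy)
  · rw [← Submodule.map_sup, hPQ, Submodule.map_top]
    exact LinearMap.range_eq_top.2 u.surjective
  · rintro _ ⟨y, hy, rfl⟩
    refine ⟨X y, hXQ y hy, ?_⟩
    change u (X y) = u (X (u⁻¹ (u y)))
    rw [inv_app]
  · intro v
    obtain ⟨w, rfl⟩ := (u.submoduleMap P).surjective v
    rw [tr_apply, LinearEquiv.trans_apply, LinearEquiv.symm_apply_apply, LinearEquiv.symm_trans_apply,
      LinearEquiv.symm_symm]
    change u (X (u⁻¹ (u w))) = u (φ.symm (ξ (φ w)) : P)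
    rw [inv_app, hφ, tr_apply]

section FD

variable [FiniteDimensional F V]

/-- extension of `P ≃ P'` to an isometry -/
theorem levi_two {B : LinearMap.BilinForm F V} (hB : Alt B) (hN : Nond B) {P Q P' Q' : Submodule F V}
    (hP : Orth B P P) (hQ : Orth B Q Q) (hPQ : P ⊔ Q = ⊤) (hP' : Orth B P' P') (hQ' : Orth B Q' Q')
    (hPQ' : P' ⊔ Q' = ⊤) (x : P ≃ₗ[F] P') :
    ∃ X : V ≃ₗ[F] V, Iso B X ∧ (∀ v : P, X v = x v) ∧ (∀ v ∈ Q, X v ∈ Q') := by
  have hc := isCompl_of hN hP hQ hPQ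
  have hc' := isCompl_of hN hP' hQ' hPQ'
  have mk : ∀ P Q : Submodule F V, Orth B P P → Orth B Q Q → P ⊔ Q = ⊤ →
      ∃ e : Q ≃ₗ[F] Module.Dual F P, ∀ (q : Q) (p : P), e q p = B p q := by
    intro P Q hP hQ hPQ
    let e₀ : Q →ₗ[F] Module.Dual F P := (B.compl₁₂ P.subtype Q.subtype).flip
    have he₀ : Function.Injective e₀ := by
      rw [← LinearMap.ker_eq_bot, LinearMap.ker_eq_bot']
      intro q hq
      have : (q : V) = 0 := by
        apply eq_zero_of_orth hN hPQ _ (hQ q q.2)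
        intro w hw
        have := LinearMap.congr_fun hq ⟨w, hw⟩
        exact hB.zero this
      exact Subtype.ext this
    exact ⟨LinearEquiv.ofInjectiveOfFinrankEq e₀ he₀ (by
      rw [Subspace.dual_finrank_eq]; exact (finrank_eq hB hN hP hQ hPQ).symm), fun q p => rfl⟩
  obtain ⟨e, he⟩ := mk P Q hP hQ hPQ
  obtain ⟨e', he'⟩ := mk P' Q' hP' hQ' hPQ'
  let x' : Q ≃ₗ[F] Q' := e.trans (x.symm.dualMap.trans e'.symm)
  have hx' : ∀ (p : P) (q : Q), B (x p) (x' q) = B p q := by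
    intro p q
    rw [← he, ← he']
    change e' (e'.symm (x.symm.dualMap (e q))) (x p) = _
    rw [e'.apply_symm_apply, LinearEquiv.dualMap_apply, x.symm_apply_apply]
  let E := Submodule.prodEquivOfIsCompl P Q hc
  let E' := Submodule.prodEquivOfIsCompl P' Q' hc'
  have hE : ∀ (p : P) (q : Q), E.symm (p + q) = (p, q) := by
    intro p q
    rw [E.symm_apply_eq]
    rfl
  let X : V ≃ₗ[F] V := E.symm.trans ((x.prodCongr x').trans E')
  have hX : ∀ (p : P) (q : Q), X (p + q) = x p + x' q := by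
    intro p q
    change E' ((x.prodCongr x') (E.symm (p + q))) = _
    rw [hE]
    rfl
  refine ⟨X, ?_, fun v => ?_, fun v hv => ?_⟩
  · intro v w
    obtain ⟨p, hp, q, hq, rfl⟩ := mem_sup_top hPQ v
    obtain ⟨p', hp', q', hq', rfl⟩ := mem_sup_top hPQ w
    have h1 := hX ⟨p, hp⟩ ⟨q, hq⟩
    have h2 := hX ⟨p', hp'⟩ ⟨q', hq'⟩
    simp only at h1 h2
    rw [h1, h2]
    simp only [map_add, LinearMap.add_apply]
    rw [hP' _ (x ⟨p, hp⟩).2 _ (x ⟨p', hp'⟩).2, hQ' _ (x' ⟨q, hq⟩).2 _ (x' ⟨q', hq'⟩).2,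
      hP p hp p' hp', hQ q hq q' hq', hx', hB.neg (x' ⟨q, hq⟩ : V), hx', hB.neg q]
  · have := hX v 0
    simpa using this
  · have := hX 0 ⟨v, hv⟩
    simp only [Submodule.coe_zero, zero_add, map_zero] at this
    rw [this]
    exact (x' ⟨v, hv⟩).2

/-- two isometries of the same type are conjugate -/
theorem HasType.unique {B : LinearMap.BilinForm F V} (hB : Alt B) (hN : Nond B) {ξ : M ≃ₗ[F] M} {X X' : V ≃ₗ[F] V}
    (h : HasType B ξ X) (h' : HasType B ξ X') : ∃ u : V ≃ₗ[F] V, Iso B u ∧ X' = u * X * u⁻¹ := by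
  obtain ⟨hX, P, Q, hP, hQ, hPQ, hXQ, φ, hφ⟩ := h
  obtain ⟨hX', P', Q', hP', hQ', hPQ', hXQ', φ', hφ'⟩ := h'
  obtain ⟨u, hu, huP, huQ⟩ := levi_two hB hN hP hQ hPQ hP' hQ' hPQ' (φ.trans φ'.symm)
  refine ⟨u, hu, ?_⟩
  have huQi : ∀ v ∈ Q', u⁻¹ v ∈ Q := by
    have h1 : Q.map (u : V →ₗ[F] V) = Q' := by
      apply Submodule.eq_of_le_of_finrank_eq
      · rintro _ ⟨v, hv, rfl⟩
        exact huQ v hv
      · rw [LinearEquiv.finrank_map_eq, ← finrank_eq hB hN hP hQ hPQ, ← finrank_eq hB hN hP' hQ' hPQ',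
          (φ.trans φ'.symm).finrank_eq]
    intro v hv
    rw [← h1] at hv
    obtain ⟨w, hw, rfl⟩ := hv
    have : u⁻¹ ((u : V →ₗ[F] V) w) = w := inv_app u w
    rw [this]
    exact hw
  have h1 := levi_unique hB hN hP' hQ' hPQ' (D := X'⁻¹ * (u * X * u⁻¹)) (hX'.inv.mul ((hu.mul hX).mul hu.inv))
    (fun v hv => inv_mem_of_mem hXQ' _ (huQ _ (hXQ _ (huQi v hv)))) 1 (one_mul 1) (fun v hv => by
      rw [one_smul]
      have h2 : v = u ((φ.symm (φ' ⟨v, hv⟩) : P) : V) := by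
        rw [huP]
        simp
      change X'⁻¹ (u (X (u⁻¹ v))) = v
      have h3 : u (X (u⁻¹ v)) = X' v := by
        have h4 : u⁻¹ v = ((φ.symm (φ' ⟨v, hv⟩) : P) : V) := by
          nth_rewrite 1 [h2]
          rw [inv_app]
        rw [h4, hφ, tr_apply, φ.apply_symm_apply, huP]
        have h5 := hφ' ⟨v, hv⟩
        simp only at h5
        rw [h5, tr_apply]
        simp
      rw [h3, inv_app])
  ext v
  have h2 := h1 v
  rw [one_smul] at h2
  have h3 := congrArg (fun t => X' t) h2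
  simp only [LinearEquiv.mul_apply] at h3 ⊢
  rw [app_inv] at h3
  exact h3.symm

/-- **the engine** -/
theorem tt_of_corner {B : LinearMap.BilinForm F V} (hB : Alt B) (hN : Nond B) {P Q : Submodule F V}
    (hP : Orth B P P) (hQ : Orth B Q Q) (hPQ : P ⊔ Q = ⊤) {ξ : M ≃ₗ[F] M} {ζ : N ≃ₗ[F] N} {f₁ f₁' f₂ f₂' : F[X]}
    (hξ : Sing ξ f₁ f₁') (hζ : Sing ζ f₂ f₂') {A : P ≃ₗ[F] P} (hA : FacT ξ ζ A)
    {g : V ≃ₗ[F] V} (hg : Iso B g) (hc : ∀ v : P, g v - A v ∈ Q) : TT B ξ ζ g := by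
  obtain ⟨φ, ψ, hxz⟩ := hA
  obtain ⟨X, hX, hXx, hXQ⟩ := levi hB hN hP hQ hPQ (tr φ ξ)
  obtain ⟨Z, hZ, hZz, hZQ⟩ := levi hB hN hP hQ hPQ (tr ψ ζ)
  have hf₁ : Sing (tr φ ξ) f₁ f₁' := hξ.conj φ (fun v => rfl)
  have hf₂ : Sing (tr ψ ζ) f₂ f₂' := hζ.conj ψ (fun v => rfl)
  obtain ⟨a1, a2, -, -⟩ := sing_levi hB hN hQ hPQ hf₁ hX hXx hXQ
  obtain ⟨-, -, b3, b4⟩ := sing_levi hB hN hQ hPQ hf₂ hZ hZz hZQ
  have tX : HasType B ξ X := ⟨hX, P, Q, hP, hQ, hPQ, hXQ, φ, hXx⟩
  have tZ : HasType B ζ Z := ⟨hZ, P, Q, hP, hQ, hPQ, hZQ, ψ, hZz⟩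
  have hXP : ∀ v ∈ P, X v ∈ P := fun v hv => by rw [hXx ⟨v, hv⟩]; exact (tr φ ξ ⟨v, hv⟩).2
  have hZP : ∀ v ∈ P, Z v ∈ P := fun v hv => by rw [hZz ⟨v, hv⟩]; exact (tr ψ ζ ⟨v, hv⟩).2
  have hXZP : ∀ v ∈ P, (X * Z) v ∈ P := fun v hv => hXP _ (hZP v hv)
  obtain ⟨n, m, hn, hm, hnm⟩ := c1_factor hB hN hP hQ hPQ (g := g * (X * Z)⁻¹) (hg.mul (hX.mul hZ).inv) (by
    intro v hv
    have h1 := inv_mem_of_mem hXZP v hv
    have h2 := hc ⟨_, h1⟩
    have h3 : ((A ⟨_, h1⟩ : P) : V) = v := by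
      rw [hxz, ← hXx, ← hZz]
      exact app_inv (X * Z) v
    rw [h3] at h2
    exact h2)
  have hgn : g = uni n (skew_sq hn) * uni m (skew_sq hm) * (X * Z) := by
    rw [← hnm]; group
  have hm' := skew_conj hX hXP hm
  have e0 : uni m (skew_sq hm) * X = X * uni (X.symm.conj m) (skew_sq hm') := by
    ext v
    rw [LinearEquiv.mul_apply, LinearEquiv.mul_apply, uni_apply, uni_apply, map_add]
    congr 1
    exact (X.apply_symm_apply _).symm
  obtain ⟨s, hs, hsX⟩ := sylvester hPQ hX hXQ f₁ a1 a2 hn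
  have e1 : uni s (skew_sq hs) * X = uni n (skew_sq hn) * X * uni s (skew_sq hs) := by
    ext v
    simp only [LinearEquiv.mul_apply, uni_apply, map_add]
    have : n (X (s v)) = 0 := hn.2.1 _ (hXQ _ (hs.1 v))
    rw [hsX, this]
    abel
  have hQP : Q ⊔ P = ⊤ := by rw [sup_comm]; exact hPQ
  obtain ⟨t, ht, htZ⟩ := sylvester hQP hZ hZP f₂' b3 b4 hm'
  have e2 : uni t (skew_sq ht) * Z = uni (X.symm.conj m) (skew_sq hm') * Z * uni t (skew_sq ht) := by
    ext v
    simp only [LinearEquiv.mul_apply, uni_apply, map_add]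
    have : (X.symm.conj m) (Z (t v)) = 0 := hm'.2.1 _ (hZP _ (ht.1 v))
    rw [htZ, this]
    abel
  have hui : Iso B (uni s (skew_sq hs)) := skew_iso hQ hs
  have hti : Iso B (uni t (skew_sq ht)) := skew_iso hP ht
  generalize uni n (skew_sq hn) = a at *
  generalize uni m (skew_sq hm) = b at *
  generalize uni (X.symm.conj m) (skew_sq hm') = b' at *
  generalize uni s (skew_sq hs) = u at *
  generalize uni t (skew_sq ht) = w at *
  have k1 : a * X = u * X * u⁻¹ := by rw [e1]; group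
  have k2 : b' * Z = w * Z * w⁻¹ := by rw [e2]; group
  refine ⟨u * X * u⁻¹, w * Z * w⁻¹, tX.conj hui, tZ.conj hti, ?_⟩
  rw [← k1, ← k2, hgn]
  calc a * b * (X * Z) = a * (b * X) * Z := by group
    _ = a * (X * b') * Z := by rw [e0]
    _ = _ := by group

end FD

theorem aeval_prodCongr (ξ : M ≃ₗ[F] M) (ζ : N ≃ₗ[F] N) (f : F[X]) (v : M × N) :
    aeval ((ξ.prodCongr ζ : (M × N) ≃ₗ[F] (M × N)) : Module.End F (M × N)) f v =
      (aeval (ξ : Module.End F M) f v.1, aeval (ζ : Module.End F N) f v.2) := by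
  induction f using Polynomial.induction_on' generalizing v with
  | add p q hp hq => simp only [map_add, LinearMap.add_apply, hp, hq, Prod.mk_add_mk]
  | monomial k a =>
    have hk : ∀ k : ℕ, ∀ v : M × N, (((ξ.prodCongr ζ : (M × N) ≃ₗ[F] (M × N)) : Module.End F (M × N)) ^ k) v =
        (((ξ : Module.End F M) ^ k) v.1, ((ζ : Module.End F N) ^ k) v.2) := by
      intro k
      induction k with
      | zero => intro v; simp
      | succ k ih =>
        intro v
        rw [pow_succ, Module.End.mul_apply, ih, pow_succ, pow_succ, Module.End.mul_apply, Module.End.mul_apply]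
        rfl
    simp only [aeval_monomial, Module.algebraMap_end_eq_smul_id, Module.End.mul_apply, LinearMap.smul_apply,
      LinearMap.id_apply, hk, map_smul, Prod.smul_mk]

end Cfsg.Agent.H144.TC
end
end

-- part: H311/TC6/Xi
section
prune_inst 0x346025047c6202080000858643203c66ee0001b0006b080069810e460f890d2380c02f20beb0031213aeb0854878406811100090424000000e000400411b0080008116063174ac08960098000000000000000000000000000000000000010004000000000
set_option linter.all false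
open scoped Cfsg.Agent.FastGrp

/-!
# S2464 for `PSp_2n(q)`: field elements of order prime to 6 (helper311)

* `xi_of` : an element of order `N` of degree `s`, not conjugate to its inverse;
* `xi_odd` : `s` odd, prime order `r ≥ 5`;
* `xi_four` : `4 ∣ s`, `q` odd, order `r₁ r₂` prime to 6.
-/

set_option autoImplicit false
open Polynomial

namespace Cfsg.Agent.H311.TC6

open Cfsg.Agent.H143.War

section conj

variable {F K : Type*} [Field F] [Finite F] [Field K] [Algebra F K] [FiniteDimensional F K]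

theorem not_conj {s N : ℕ} (hs : Module.finrank F K = s) {u : Kˣ} (hu : orderOf u = N)
    (h : ∀ j, j < s → ¬ N ∣ Nat.card F ^ j + 1) : ¬ IsConjRoot F (u : K) (u⁻¹ : Kˣ) := by
  intro hc
  obtain ⟨j, hj, hj1⟩ := conj_pow hc
  rw [hs] at hj
  have h1 : (u⁻¹ : Kˣ) ^ Nat.card F ^ j = u := by
    apply Units.ext
    rw [Units.val_pow_eq_pow_val]
    exact hj1
  have h2 : u ^ (Nat.card F ^ j + 1) = 1 := by
    have h3 : u ^ Nat.card F ^ j = u⁻¹ := by
      rw [← inv_inj, inv_inv, ← inv_pow]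
      exact h1
    rw [pow_succ, h3, inv_mul_cancel]
  exact h j hj (hu ▸ orderOf_dvd_of_pow_eq_one h2)

theorem natDegree_eq {s N : ℕ} (hs : Module.finrank F K = s) {u : Kˣ} (hu : orderOf u = N)
    (h : ∀ k, 0 < k → k < s → ¬ N ∣ Nat.card F ^ k - 1) : (minpoly F (u : K)).natDegree = s := by
  have hfin : Finite K := Module.finite_of_finite F
  have hint : IsIntegral F (u : K) := .of_finite F _
  set L := IntermediateField.adjoin F {(u : K)} with hL
  have h1 : Module.finrank F L = (minpoly F (u : K)).natDegree := IntermediateField.adjoin.finrank hint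
  set d := (minpoly F (u : K)).natDegree with hd
  have h2 : d * Module.finrank L K = s := by
    rw [← h1, ← hs]
    exact Module.finrank_mul_finrank F L K
  have hs0 : 0 < s := hs ▸ Module.finrank_pos
  have hd0 : 0 < d := Nat.pos_of_ne_zero (by rintro h3; rw [h3, zero_mul] at h2; omega)
  have hds : d ≤ s := Nat.le_of_dvd hs0 (Dvd.intro _ h2)
  by_contra hne
  have hfinL : Finite L := Module.finite_of_finite F
  have hcard : Nat.card L = Nat.card F ^ d := by
    rw [Module.natCard_eq_pow_finrank (K := F) (V := L), h1]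
  have := Fintype.ofFinite L
  have hmem : (u : K) ∈ L := IntermediateField.mem_adjoin_simple_self F _
  have h5 : (⟨(u : K), hmem⟩ : L) ^ (Fintype.card L - 1) = 1 := by
    apply FiniteField.pow_card_sub_one_eq_one
    intro h6
    exact u.ne_zero (congrArg Subtype.val h6)
  have h6 : u ^ (Nat.card F ^ d - 1) = 1 := by
    apply Units.ext
    have h7 := congrArg Subtype.val h5
    rw [← Nat.card_eq_fintype_card, hcard] at h7
    simpa using h7
  exact h d hd0 (by omega) (hu ▸ orderOf_dvd_of_pow_eq_one h6)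

end conj

/-- an element of order `N` -/
theorem xi_of (F : Type) [Field F] [Finite F] {s N : ℕ} (hs : 0 < s) (hN : N ∣ Nat.card F ^ s - 1)
    (h1 : ∀ k, 0 < k → k < s → ¬ N ∣ Nat.card F ^ k - 1) (h2 : ∀ j, j < s → ¬ N ∣ Nat.card F ^ j + 1) :
    ∃ (K : Type) (_ : Field K) (_ : Algebra F K) (_ : FiniteDimensional F K) (ξ : K),
      (ξ ≠ 0 ∧ Module.finrank F K = s ∧ (minpoly F ξ).natDegree = s ∧ aeval ξ⁻¹ (minpoly F ξ) ≠ 0 ∧
        aeval ξ (minpoly F ξ⁻¹) ≠ 0) ∧ ξ ^ N = 1 := by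
  have : NeZero s := ⟨by omega⟩
  obtain ⟨p, hp⟩ := CharP.exists F
  have : Fact p.Prime := ⟨CharP.char_is_prime F p⟩
  have hq : 1 < Nat.card F := Finite.one_lt_card
  have hpos : 0 < Nat.card F ^ s - 1 := by
    have := Nat.one_lt_pow (by omega : s ≠ 0) hq
    omega
  have hfr : Module.finrank F (FiniteField.Extension F p s) = s := FiniteField.finrank_extension F p s
  refine ⟨FiniteField.Extension F p s, inferInstance, inferInstance, inferInstance, ?_⟩
  obtain ⟨u, hu⟩ := IsCyclic.exists_generator (α := (FiniteField.Extension F p s)ˣ)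
  have hcard : Nat.card (FiniteField.Extension F p s) = Nat.card F ^ s := FiniteField.natCard_extension F p s
  have hord : orderOf u = Nat.card F ^ s - 1 := by
    rw [orderOf_eq_card_of_forall_mem_zpowers hu, Nat.card_units, hcard]
  obtain ⟨t, ht⟩ := hN
  have ht0 : t ≠ 0 := by rintro rfl; rw [mul_zero] at ht; omega
  have hz : orderOf (u ^ t) = N := by
    rw [orderOf_pow_of_dvd ht0 (by rw [hord, ht]; exact dvd_mul_left _ _), hord, ht,
      Nat.mul_div_cancel _ (by omega)]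
  have key := not_conj hfr hz h2
  refine ⟨((u ^ t : _ˣ) : FiniteField.Extension F p s), ⟨(u ^ t).ne_zero, hfr, natDegree_eq hfr hz h1, ?_, ?_⟩, ?_⟩
  · intro h0
    apply key
    rw [← Units.val_inv_eq_inv_val] at h0
    exact minpoly.eq_of_irreducible_of_monic (minpoly.irreducible (Algebra.IsIntegral.isIntegral _)) h0
      (minpoly.monic (Algebra.IsIntegral.isIntegral _))
  · intro h0
    apply key
    rw [← Units.val_inv_eq_inv_val] at h0
    exact (minpoly.eq_of_irreducible_of_monic (minpoly.irreducible (Algebra.IsIntegral.isIntegral _)) h0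
      (minpoly.monic (Algebra.IsIntegral.isIntegral _))).symm
  · rw [← Units.val_pow_eq_pow_val, ← hz, pow_orderOf_eq_one, Units.val_one]

/-! ### the numbers -/

theorem sq_sub (q j : ℕ) : q ^ (2 * j) - 1 = (q ^ j + 1) * (q ^ j - 1) := by
  rw [mul_comm 2 j, pow_mul]
  have := Nat.sq_sub_sq (q ^ j) 1
  rw [one_pow] at this
  exact this

theorem cop_six {r : ℕ} (hr : r.Prime) (h5 : 5 ≤ r) : Nat.Coprime r 6 := by
  rw [hr.coprime_iff_not_dvd]
  intro h
  have h2 : r ∣ 2 * 3 := h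
  rcases hr.dvd_mul.1 h2 with h3 | h3
  · have := Nat.le_of_dvd (by norm_num) h3; omega
  · have := Nat.le_of_dvd (by norm_num) h3; omega

/-- a primitive prime divisor which is at least 5 -/
theorem exists_five {q s : ℕ} (hq : 2 ≤ q) (hs : 3 ≤ s) (h6 : ¬ (q = 2 ∧ s = 6)) :
    ∃ r, r.Prime ∧ 5 ≤ r ∧ ∀ m, r ∣ q ^ m - 1 ↔ s ∣ m := by
  obtain ⟨r, hr, hiff, hdr, -⟩ := Cfsg.Agent.Lib.Zsigmondy.exists_primitive hq (n := s) (by omega) (by omega) h6
  refine ⟨r, hr, ?_, hiff⟩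
  have h1 := hr.two_le
  rcases Nat.lt_or_ge (r - 1) 1 with h | h
  · omega
  have h2 := Nat.le_of_dvd h hdr
  rcases Nat.lt_or_ge r 5 with h3 | h3
  · have h4 : r = 4 := by omega
    rw [h4] at hr
    exact absurd hr (by norm_num)
  · exact h3

/-- `q² - 1` has a prime divisor `≥ 5` -/
theorem exists_five_sq {q : ℕ} (hq : IsPrimePow q) (hodd : Odd q) (h3 : q ≠ 3) (h5 : q ≠ 5) (h7 : q ≠ 7) (h17 : q ≠ 17) :
    ∃ r, r.Prime ∧ 5 ≤ r ∧ r ∣ q ^ 2 - 1 := by
  by_contra hcon
  push Not at hcon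
  obtain ⟨p, f, hp, hf, hpf⟩ := (isPrimePow_nat_iff q).1 hq
  have hq2 := hq.two_le
  have hne : q ^ 2 - 1 ≠ 0 := by
    have : 2 ^ 2 ≤ q ^ 2 := Nat.pow_le_pow_left hq2 2
    omega
  have hsub : (q * (q ^ 2 - 1)).primeFactors ⊆ {2, 3, p} := by
    intro r hr
    rw [Nat.mem_primeFactors] at hr
    obtain ⟨hr, hd, -⟩ := hr
    simp only [Finset.mem_insert, Finset.mem_singleton]
    rcases hr.dvd_mul.1 hd with h | h
    · rw [← hpf] at h
      exact Or.inr (Or.inr ((Nat.prime_dvd_prime_iff_eq hr hp).1 (hr.dvd_of_dvd_pow h)))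
    · rcases Nat.lt_or_ge r 5 with h1 | h1
      · have h2 := hr.two_le
        have h3' : r ≠ 4 := by rintro rfl; exact absurd hr (by norm_num)
        omega
      · exact absurd h (hcon r hr h1)
  have hc : (q * (q ^ 2 - 1)).primeFactors.card ≤ 3 := (Finset.card_le_card hsub).trans Finset.card_le_three
  rcases Cfsg.Agent.H436.lTwo_three hq hc with h | h | h | h | h | h | h | h
  · rw [h] at hodd; exact absurd hodd (by decide)
  · exact h3 h
  · rw [h] at hodd; exact absurd hodd (by decide)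
  · exact h5 h
  · exact h7 h
  · rw [h] at hodd; exact absurd hodd (by decide)
  · refine hcon 5 Nat.prime_five le_rfl ?_
    rw [h]; norm_num
  · exact h17 h

/-- **`s` odd** -/
theorem xi_odd (F : Type) [Field F] [Finite F] {s : ℕ} (hs : 3 ≤ s) (ho : Odd s) :
    ∃ r : ℕ, r.Prime ∧ Nat.Coprime r 6 ∧ ∃ (K : Type) (_ : Field K) (_ : Algebra F K) (_ : FiniteDimensional F K) (ξ : K),
      (ξ ≠ 0 ∧ Module.finrank F K = s ∧ (minpoly F ξ).natDegree = s ∧ aeval ξ⁻¹ (minpoly F ξ) ≠ 0 ∧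
        aeval ξ (minpoly F ξ⁻¹) ≠ 0) ∧ ξ ^ r = 1 := by
  have hq : 2 ≤ Nat.card F := Finite.one_lt_card
  obtain ⟨r, hr, h5, hiff⟩ := exists_five hq hs (by rintro ⟨-, h⟩; rw [h] at ho; exact absurd ho (by decide))
  refine ⟨r, hr, cop_six hr h5, xi_of F (by omega) ((hiff s).2 dvd_rfl) (fun k hk hks h => ?_) fun j hj h => ?_⟩
  · have := Nat.le_of_dvd hk ((hiff k).1 h)
    omega
  · have h1 : r ∣ Nat.card F ^ (2 * j) - 1 := by
      rw [sq_sub]
      exact h.mul_right _
    have h2 : s ∣ j := (Nat.Coprime.dvd_mul_left ((Nat.coprime_two_right).2 ho)).1 ((hiff _).1 h1)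
    rcases Nat.eq_zero_or_pos j with h0 | h0
    · rw [h0, pow_zero] at h
      have := Nat.le_of_dvd (by norm_num) h
      omega
    · have := Nat.le_of_dvd h0 h2
      omega

/-- **`4 ∣ s`, `q` odd** -/
theorem xi_four (F : Type) [Field F] [Finite F] {s : ℕ} (hs : 4 ∣ s) (hs0 : 0 < s) (hodd : Odd (Nat.card F))
    (hne : s = 4 → Nat.card F ≠ 3 ∧ Nat.card F ≠ 5 ∧ Nat.card F ≠ 7 ∧ Nat.card F ≠ 17) :
    ∃ N : ℕ, Nat.Coprime N 6 ∧ ∃ (K : Type) (_ : Field K) (_ : Algebra F K) (_ : FiniteDimensional F K) (ξ : K),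
      (ξ ≠ 0 ∧ Module.finrank F K = s ∧ (minpoly F ξ).natDegree = s ∧ aeval ξ⁻¹ (minpoly F ξ) ≠ 0 ∧
        aeval ξ (minpoly F ξ⁻¹) ≠ 0) ∧ ξ ^ N = 1 := by
  have hq : 2 ≤ Nat.card F := Finite.one_lt_card
  obtain ⟨a, rfl⟩ := hs
  have hq2 : Nat.card F ≠ 2 := by intro h; rw [h] at hodd; exact absurd hodd (by decide)
  obtain ⟨r₁, hr₁, h5, hiff⟩ := exists_five hq (show 3 ≤ 4 * a by omega) (by rintro ⟨h, -⟩; exact hq2 h)
  -- the second prime
  obtain ⟨r₂, hr₂, h5', hd₂⟩ : ∃ r, r.Prime ∧ 5 ≤ r ∧ r ∣ Nat.card F ^ (2 * a) - 1 := by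
    rcases Nat.lt_or_ge a 2 with h1 | h1
    · have ha : a = 1 := by omega
      subst ha
      obtain ⟨a1, a2, a3, a4⟩ := hne rfl
      have hpp : IsPrimePow (Nat.card F) := by
        have := Fintype.ofFinite F
        rw [Nat.card_eq_fintype_card]
        exact FiniteField.isPrimePow_card F
      exact exists_five_sq hpp hodd a1 a2 a3 a4
    · obtain ⟨r, hr, h6, h7⟩ := exists_five hq (show 3 ≤ 2 * a by omega) (by rintro ⟨h, -⟩; exact hq2 h)
      exact ⟨r, hr, h6, (h7 _).2 dvd_rfl⟩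
  have hne12 : r₁ ≠ r₂ := by
    rintro rfl
    have := Nat.le_of_dvd (by omega) ((hiff _).1 hd₂)
    omega
  have hcop : Nat.Coprime r₁ r₂ := (Nat.coprime_primes hr₁ hr₂).2 hne12
  have hd₂' : r₂ ∣ Nat.card F ^ (4 * a) - 1 := by
    rw [show 4 * a = 2 * (2 * a) by ring, sq_sub]
    exact hd₂.mul_left _
  refine ⟨r₁ * r₂, Nat.Coprime.mul_left (cop_six hr₁ h5) (cop_six hr₂ h5'),
    xi_of F (by omega) (hcop.mul_dvd_of_dvd_of_dvd ((hiff _).2 dvd_rfl) hd₂') (fun k hk hks h => ?_) fun j hj h => ?_⟩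
  · have := Nat.le_of_dvd hk ((hiff k).1 ((dvd_mul_right _ _).trans h))
    omega
  · have h0 : r₁ ∣ Nat.card F ^ j + 1 := (dvd_mul_right _ _).trans h
    have h1 : r₁ ∣ Nat.card F ^ (2 * j) - 1 := by
      rw [sq_sub]
      exact h0.mul_right _
    obtain ⟨b, hb⟩ := (hiff _).1 h1
    rcases Nat.eq_zero_or_pos j with hj0 | hj0
    · rw [hj0, pow_zero] at h0
      have := Nat.le_of_dvd (by norm_num) h0
      omega
    · have hb1 : b = 1 := by
        have hb0 : b ≠ 0 := by rintro rfl; omega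
        have hb2 : b < 2 := by
          by_contra hb2
          have : 4 * a * 2 ≤ 4 * a * b := Nat.mul_le_mul_left _ (by omega)
          omega
        omega
      have hj2 : j = 2 * a := by rw [hb1] at hb; omega
      have h2 : r₂ ∣ Nat.card F ^ (2 * a) + 1 := by
        rw [← hj2]
        exact (dvd_mul_left _ _).trans h
      have h3 : r₂ ∣ 2 := by
        have h4 := Nat.dvd_sub h2 hd₂
        have h5 : 1 ≤ Nat.card F ^ (2 * a) := Nat.one_le_pow _ _ (by omega)
        have h6 : Nat.card F ^ (2 * a) + 1 - (Nat.card F ^ (2 * a) - 1) = 2 := by omega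
        rwa [h6] at h4
      have := Nat.le_of_dvd (by norm_num) h3
      omega

end Cfsg.Agent.H311.TC6
end

-- part: H311/TC6/GFx
section
prune_inst 0x314045407c6202000000059453203c66ee000180006b0c00ada10b460f890d0080420720bfb0140150ae00844838006811100080424000000e200400011a018000801404200002088a0098000000000000000000300000000000000000010004000000000
set_option linter.all false
open scoped Cfsg.Agent.FastGrp

-- part: H311/TC6/Pf
section
/-!
# S2464 for `Ω_(2n+1)(q)`, `q` odd: the polynomial of box GF (helper311)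

* `pf_of` : a polynomial with a root of order `N`;
* `exists_pf` : `N` prime to 6, `N = r₁` (`n` odd), `N = r₁ r₂` (`n` even).
-/

set_option autoImplicit false

namespace Cfsg.Agent.H311.TC6

open Polynomial Cfsg.Agent.H126.PwO

/-- a polynomial with a root of order `N` and norm `1` -/
theorem pf_of (F : Type*) [Field F] [Finite F] {n N : ℕ} (hn : 1 ≤ n) (hN : N ∣ Nat.card F ^ n - 1)
    (h1 : ∀ k, 0 < k → k < n → ¬ N ∣ Nat.card F ^ k - 1) (h2 : ∀ j, j < n → ¬ N ∣ Nat.card F ^ j + 1)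
    (h3 : Nat.Coprime N (Nat.card F - 1)) :
    ∃ f : F[X], f.Monic ∧ Irreducible f ∧ f.natDegree = n ∧ IsCoprime f f.reverse ∧
      (∀ k, f ∣ X ^ k - 1 ↔ N ∣ k) ∧ (-1) ^ n * f.coeff 0 = 1 := by
  obtain ⟨f, hf⟩ := exists_pol F hn hN h1
  refine ⟨f, hf.monic, hf.irr, hf.deg, hf.cop h2, hf.dvd, ?_⟩
  have h4 : Nat.card F - 1 ∣ Nat.card F ^ n - 1 := by
    simpa using Nat.sub_dvd_pow_sub_pow (Nat.card F) 1 n
  have h5 : N ∣ (Nat.card F ^ n - 1) / (Nat.card F - 1) * 1 := by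
    rw [mul_one]
    have h6 : (Nat.card F - 1) * ((Nat.card F ^ n - 1) / (Nat.card F - 1)) = Nat.card F ^ n - 1 :=
      Nat.mul_div_cancel' h4
    rw [← h6] at hN
    exact h3.dvd_of_dvd_mul_left hN
  have := (hf.coef 1).2 h5
  rwa [pow_one] at this

theorem not_dvd_add {q n r j : ℕ} (hr5 : 5 ≤ r) (hiff : ∀ m, r ∣ q ^ m - 1 ↔ n ∣ m) (hj : j < n) (h : r ∣ q ^ j + 1) :
    0 < j ∧ n = 2 * j := by
  have h1 : r ∣ q ^ (2 * j) - 1 := by
    rw [sq_sub]
    exact h.mul_right _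
  obtain ⟨b, hb⟩ := (hiff _).1 h1
  rcases Nat.eq_zero_or_pos j with h0 | h0
  · rw [h0, pow_zero] at h
    have := Nat.le_of_dvd (by norm_num) h
    omega
  · refine ⟨h0, ?_⟩
    have hb0 : b ≠ 0 := by rintro rfl; omega
    have hb2 : b < 2 := by
      by_contra hb2
      have : n * 2 ≤ n * b := Nat.mul_le_mul_left _ (by omega)
      omega
    have hb1 : b = 1 := by omega
    rw [hb1] at hb
    omega

/-- **The polynomial of box GF.** -/
theorem exists_pf (F : Type*) [Field F] [Finite F] (hodd : Odd (Nat.card F)) {n : ℕ} (hn : 3 ≤ n)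
    (h4 : n = 4 → ∃ k, 2 ≤ k ∧ Nat.card F = 3 ^ k) :
    ∃ (N r₁ : ℕ) (f : F[X]), N.Coprime 6 ∧ 0 < N ∧ r₁.Prime ∧ 5 ≤ r₁ ∧ r₁ ∣ N ∧
      (∀ m, r₁ ∣ Nat.card F ^ m - 1 ↔ n ∣ m) ∧
      (Odd n ∨ ∃ r₂, r₂.Prime ∧ 5 ≤ r₂ ∧ r₂ ∣ N ∧ Even n ∧ r₂ ∣ Nat.card F ^ (n / 2) - 1 ∧ ¬ r₂ ∣ Nat.card F - 1) ∧
      f.Monic ∧ Irreducible f ∧ f.natDegree = n ∧ IsCoprime f f.reverse ∧
      (∀ k, f ∣ X ^ k - 1 ↔ N ∣ k) ∧ (-1) ^ n * f.coeff 0 = 1 := by
  have hq : 2 ≤ Nat.card F := Finite.one_lt_card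
  have hq2 : Nat.card F ≠ 2 := by intro h; rw [h] at hodd; exact absurd hodd (by decide)
  obtain ⟨r₁, hr₁, h5, hiff⟩ := exists_five hq hn (by rintro ⟨h, -⟩; exact hq2 h)
  have hr₁q : ¬ r₁ ∣ Nat.card F - 1 := by
    intro h
    have := Nat.le_of_dvd (by norm_num) ((hiff 1).1 (by rwa [pow_one]))
    omega
  rcases Nat.even_or_odd n with hev | hon
  · obtain ⟨a, ha⟩ := hev
    have hna : n = 2 * a := by omega
    subst hna
    -- the second prime
    obtain ⟨r₂, hr₂, h5', hd₂, hd₂'⟩ : ∃ r, r.Prime ∧ 5 ≤ r ∧ r ∣ Nat.card F ^ a - 1 ∧ ¬ r ∣ Nat.card F - 1 := by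
      rcases Nat.lt_or_ge a 3 with h1 | h1
      · have ha2 : a = 2 := by omega
        subst ha2
        obtain ⟨k, hk, hk'⟩ := h4 rfl
        obtain ⟨r, hr, h6, h7⟩ := exists_five (q := 3) (s := 2 * k) (by norm_num) (by omega) (by rintro ⟨h, -⟩; omega)
        refine ⟨r, hr, h6, ?_, ?_⟩
        · rw [hk', ← pow_mul, mul_comm k 2]
          exact (h7 _).2 dvd_rfl
        · rw [hk']
          intro h
          have := Nat.le_of_dvd (by omega) ((h7 _).1 h)
          omega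
      · obtain ⟨r, hr, h6, h7⟩ := exists_five hq h1 (by rintro ⟨h, -⟩; exact hq2 h)
        refine ⟨r, hr, h6, (h7 _).2 dvd_rfl, fun h => ?_⟩
        have := Nat.le_of_dvd (by norm_num) ((h7 1).1 (by rwa [pow_one]))
        omega
    have hne12 : r₁ ≠ r₂ := by
      rintro rfl
      have := Nat.le_of_dvd (by omega) ((hiff _).1 hd₂)
      omega
    have hcop : Nat.Coprime r₁ r₂ := (Nat.coprime_primes hr₁ hr₂).2 hne12
    have hd₃ : r₂ ∣ Nat.card F ^ (2 * a) - 1 := by
      rw [sq_sub]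
      exact hd₂.mul_left _
    obtain ⟨f, f1, f2, f3, f4, f5, f6⟩ := pf_of F (n := 2 * a) (N := r₁ * r₂) (by omega)
      (hcop.mul_dvd_of_dvd_of_dvd ((hiff _).2 dvd_rfl) hd₃)
      (fun k hk hks h => by
        have := Nat.le_of_dvd hk ((hiff k).1 ((dvd_mul_right _ _).trans h))
        omega)
      (fun j hj h => by
        obtain ⟨-, hj2⟩ := not_dvd_add h5 hiff hj ((dvd_mul_right _ _).trans h)
        have hja : j = a := by omega
        rw [hja] at h
        have h2 : r₂ ∣ Nat.card F ^ a + 1 := (dvd_mul_left _ _).trans h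
        have h3 : r₂ ∣ 2 := by
          have h4 := Nat.dvd_sub h2 hd₂
          have h5 : 1 ≤ Nat.card F ^ a := Nat.one_le_pow _ _ (by omega)
          have h6 : Nat.card F ^ a + 1 - (Nat.card F ^ a - 1) = 2 := by omega
          rwa [h6] at h4
        have := Nat.le_of_dvd (by norm_num) h3
        omega)
      (Nat.Coprime.mul_left ((hr₁.coprime_iff_not_dvd).2 hr₁q) ((hr₂.coprime_iff_not_dvd).2 hd₂'))
    refine ⟨r₁ * r₂, r₁, f, Nat.Coprime.mul_left (cop_six hr₁ h5) (cop_six hr₂ h5'), by positivity, hr₁, h5,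
      dvd_mul_right _ _, hiff, Or.inr ⟨r₂, hr₂, h5', dvd_mul_left _ _, even_two_mul a, ?_, hd₂'⟩, f1, f2, f3, f4, f5, f6⟩
    rw [Nat.mul_div_cancel_left a (by norm_num)]
    exact hd₂
  · obtain ⟨f, f1, f2, f3, f4, f5, f6⟩ := pf_of F (n := n) (N := r₁) (by omega) ((hiff _).2 dvd_rfl)
      (fun k hk hks h => by
        have := Nat.le_of_dvd hk ((hiff k).1 h)
        omega)
      (fun j hj h => by
        obtain ⟨-, hj2⟩ := not_dvd_add h5 hiff hj h
        rw [hj2] at hon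
        exact (Nat.not_odd_iff_even.2 (even_two_mul j)) hon)
      ((hr₁.coprime_iff_not_dvd).2 hr₁q)
    exact ⟨r₁, r₁, f, cop_six hr₁ h5, hr₁.pos, hr₁, h5, dvd_rfl, hiff, Or.inl hon, f1, f2, f3, f4, f5, f6⟩

end Cfsg.Agent.H311.TC6
end

-- part: H311/TC6/GFx
section
/-!
# S2464 for `Ω_(2n+1)(q)`, `q` odd: the two matrix fields of box GF (helper311)
-/

set_option autoImplicit false

namespace Cfsg.Agent.H311.TC6

open Polynomial Cfsg.Agent.H126.PwO

/-- matrices over the field generated by a root -/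
theorem exists_hom {F R : Type*} [Field F] [Ring R] [Algebra F R] {f : F[X]} {A : R} (h : aeval A f = 0) :
    ∃ φ : AdjoinRoot f →ₐ[F] R, φ (AdjoinRoot.root f) = A := by
  refine ⟨Ideal.Quotient.liftₐ (Ideal.span {f}) (aeval A) fun a ha => ?_, ?_⟩
  · obtain ⟨b, rfl⟩ := Ideal.mem_span_singleton'.1 ha
    rw [map_mul, h, mul_zero]
  · show aeval A (X : F[X]) = A
    rw [aeval_X]

section ex

variable {F : Type*} [Field F] [Finite F] {n N : ℕ} {f : F[X]}

/-- a relation between a root and its inverse -/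
theorem dvd_of_ex (hm : f.Monic) (hi : Irreducible f) (hd : f.natDegree = n) (hn : 0 < n)
    (hdvd : ∀ k, f ∣ X ^ k - 1 ↔ N ∣ k) (h0 : f.coeff 0 ≠ 0) {A : Matrix (Fin n) (Fin n) F} {c : F} (hA : A.charpoly = f)
    (hc : (c • A⁻¹).charpoly = f) : ∃ i, i < n ∧ N ∣ (Nat.card F ^ i + 1) * (Nat.card F - 1) := by
  have := Fact.mk hi
  have : NeZero n := ⟨by omega⟩
  have hA0 : aeval A f = 0 := by rw [← hA]; exact Matrix.aeval_self_charpoly A
  have hfin : FiniteDimensional F (AdjoinRoot f) := (AdjoinRoot.powerBasis' hm).finite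
  have hrank : Module.finrank F (AdjoinRoot f) = n := by
    rw [(AdjoinRoot.powerBasis' hm).finrank, AdjoinRoot.powerBasis'_dim, hd]
  obtain ⟨φ, hφ⟩ := exists_hom hA0
  have hinj : Function.Injective φ := RingHom.injective φ.toRingHom
  set α := AdjoinRoot.root f with hα
  have hα0 : α ≠ 0 := by
    intro h1
    have h4 : aeval α f = 0 := by rw [hα, AdjoinRoot.aeval_eq, AdjoinRoot.mk_self]
    rw [h1, ← coeff_zero_eq_aeval_zero'] at h4
    exact h0 ((map_eq_zero (algebraMap F (AdjoinRoot f))).1 h4)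
  have hAi : φ α⁻¹ = A⁻¹ := by
    symm
    apply Matrix.inv_eq_right_inv
    rw [← hφ, ← map_mul, mul_inv_cancel₀ hα0, map_one]
  have hroot : aeval (algebraMap F (AdjoinRoot f) c * α⁻¹) f = 0 := by
    apply hinj
    rw [map_zero, ← Polynomial.aeval_algHom_apply, map_mul, hAi, AlgHom.commutes, ← Algebra.smul_def]
    rw [← hc]
    exact Matrix.aeval_self_charpoly _
  have hmin1 : minpoly F α = f := by
    rw [hα, AdjoinRoot.minpoly_root hi.ne_zero, hm.leadingCoeff, inv_one, C_1, mul_one]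
  have hmin2 : f = minpoly F (algebraMap F (AdjoinRoot f) c * α⁻¹) :=
    minpoly.eq_of_irreducible_of_monic hi hroot hm
  obtain ⟨i, hi', hi2⟩ := Cfsg.Agent.H143.War.conj_pow (F := F) (a := algebraMap F (AdjoinRoot f) c * α⁻¹) (b := α) (by
    show minpoly F _ = minpoly F _
    rw [← hmin2, hmin1])
  rw [hrank] at hi'
  refine ⟨i, hi', (hdvd _).1 ?_⟩
  have h1 : α ^ (Nat.card F ^ i + 1) = algebraMap F (AdjoinRoot f) c := by
    rw [pow_succ, hi2, mul_assoc, inv_mul_cancel₀ hα0, mul_one]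
  have hc0 : c ≠ 0 := by
    rintro rfl
    rw [map_zero] at h1
    exact pow_ne_zero _ hα0 h1
  have h2 : c ^ (Nat.card F - 1) = 1 := by
    have := Fintype.ofFinite F
    rw [Nat.card_eq_fintype_card]
    exact FiniteField.pow_card_sub_one_eq_one c hc0
  have h3 : α ^ ((Nat.card F ^ i + 1) * (Nat.card F - 1)) = 1 := by
    rw [pow_mul, h1, ← map_pow, h2, map_one]
  have h4 : aeval α (X ^ ((Nat.card F ^ i + 1) * (Nat.card F - 1)) - 1 : F[X]) = 0 := by
    rw [map_sub, map_pow, aeval_X, map_one, h3, sub_self]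
  rw [← hmin1]
  exact minpoly.dvd F α h4

/-- **the field `ex`** -/
theorem ex_of (hm : f.Monic) (hi : Irreducible f) (hd : f.natDegree = n) (hn : 3 ≤ n)
    (hdvd : ∀ k, f ∣ X ^ k - 1 ↔ N ∣ k) (h0 : f.coeff 0 ≠ 0) {r₁ : ℕ} (hr₁ : r₁.Prime) (h5 : 5 ≤ r₁) (hrN : r₁ ∣ N)
    (hiff : ∀ m, r₁ ∣ Nat.card F ^ m - 1 ↔ n ∣ m)
    (hor : Odd n ∨ ∃ r₂, r₂.Prime ∧ 5 ≤ r₂ ∧ r₂ ∣ N ∧ Even n ∧ r₂ ∣ Nat.card F ^ (n / 2) - 1 ∧ ¬ r₂ ∣ Nat.card F - 1)
    (A : Matrix (Fin n) (Fin n) F) (c : F) (hA : A.charpoly = f) : (c • A⁻¹).charpoly ≠ f := by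
  intro hc
  obtain ⟨i, hin, hNi⟩ := dvd_of_ex hm hi hd (by omega) hdvd h0 hA hc
  have h1 : r₁ ∣ Nat.card F ^ i + 1 := by
    rcases hr₁.dvd_mul.1 (hrN.trans hNi) with h | h
    · exact h
    · exfalso
      have := Nat.le_of_dvd (by norm_num) ((hiff 1).1 (by rwa [pow_one]))
      omega
  obtain ⟨hi0, hni⟩ := not_dvd_add h5 hiff hin h1
  rcases hor with ho | ⟨r₂, hr₂, h5', hr2N, -, hd2, hd2'⟩
  · rw [hni] at ho
    exact (Nat.not_odd_iff_even.2 (even_two_mul i)) ho
  · rw [hni, Nat.mul_div_cancel_left i (by norm_num)] at hd2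
    have h2 : r₂ ∣ Nat.card F ^ i + 1 := by
      rcases hr₂.dvd_mul.1 (hr2N.trans hNi) with h | h
      · exact h
      · exact absurd h hd2'
    have h3 : r₂ ∣ 2 := by
      have h4 := Nat.dvd_sub h2 hd2
      have h5 : 1 ≤ Nat.card F ^ i := Nat.one_le_pow _ _ Nat.card_pos
      have h6 : Nat.card F ^ i + 1 - (Nat.card F ^ i - 1) = 2 := by omega
      rwa [h6] at h4
    have := Nat.le_of_dvd (by norm_num) h3
    omega

end ex

section nsq

theorem prod_univ {K : Type*} [Field K] [Fintype K] :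
    ∏ a : K, (X - C a : K[X]) = X ^ Fintype.card K - X := by
  have hq : 1 < Fintype.card K := Fintype.one_lt_card
  have hr := FiniteField.roots_X_pow_card_sub_X K
  have hdeg := FiniteField.X_pow_card_sub_X_natDegree_eq K hq
  have hmon : (X ^ Fintype.card K - X : K[X]).Monic := by
    apply monic_X_pow_sub
    rw [degree_X]
    exact_mod_cast hq
  have h := prod_multiset_X_sub_C_of_monic_of_roots_card_eq hmon (by
    rw [hr, hdeg]
    exact Finset.card_univ)
  rw [hr] at h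
  exact h

variable {F : Type*} [Field F] [Finite F] {n : ℕ} {f : F[X]}

/-- **the field `nsq`** -/
theorem nsq_of (hodd : Odd (Nat.card F)) (hm : f.Monic) (hi : Irreducible f) (hd : f.natDegree = n) (hn : 0 < n)
    {A : Matrix (Fin n) (Fin n) F} (hA : A.charpoly = f) :
    ∃ Z : GL (Fin n) F, (Z : Matrix (Fin n) (Fin n) F) * A = A * (Z : Matrix (Fin n) (Fin n) F) ∧
      ¬ IsSquare (Z : Matrix (Fin n) (Fin n) F).det := by
  have := Fact.mk hi
  have : NeZero n := ⟨by omega⟩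
  have hq : 1 < Nat.card F := Finite.one_lt_card
  have hpow : 1 < Nat.card F ^ n := Nat.one_lt_pow (by omega) hq
  have hA0 : aeval A f = 0 := by rw [← hA]; exact Matrix.aeval_self_charpoly A
  have hfin : FiniteDimensional F (AdjoinRoot f) := (AdjoinRoot.powerBasis' hm).finite
  have hrank : Module.finrank F (AdjoinRoot f) = n := by
    rw [(AdjoinRoot.powerBasis' hm).finrank, AdjoinRoot.powerBasis'_dim, hd]
  have hfK : Finite (AdjoinRoot f) := Module.finite_of_finite F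
  have hcard : Nat.card (AdjoinRoot f) = Nat.card F ^ n := by
    rw [Module.natCard_eq_pow_finrank (K := F) (V := AdjoinRoot f), hrank]
  obtain ⟨φ, hφ⟩ := exists_hom hA0
  have hinj : Function.Injective φ := RingHom.injective φ.toRingHom
  -- a polynomial of maximal order
  obtain ⟨g, hg⟩ := exists_pol F (s := Nat.card F ^ n - 1) (d := n) (by omega) dvd_rfl (fun k hk hkn h => by
    have h1 := Nat.one_lt_pow (by omega : k ≠ 0) hq
    have h2 := Nat.le_of_dvd (by omega) h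
    have h3 := Nat.pow_lt_pow_right hq hkn
    omega)
  -- a root of `g`
  obtain ⟨z, hz⟩ : ∃ z : AdjoinRoot f, aeval z g = 0 := by
    have := Fintype.ofFinite (AdjoinRoot f)
    have h1 : g ∣ X ^ (Nat.card F ^ n - 1) - 1 := (hg.dvd _).2 dvd_rfl
    have h2 : g ∣ X ^ (Fintype.card (AdjoinRoot f)) - X := by
      rw [← Nat.card_eq_fintype_card, hcard]
      have h3 : (X : F[X]) ^ (Nat.card F ^ n) - X = X * (X ^ (Nat.card F ^ n - 1) - 1) := by
        rw [mul_sub, mul_one, ← pow_succ', Nat.sub_add_cancel hpow.le]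
      rw [h3]
      exact h1.mul_left _
    have h3 : g.map (algebraMap F (AdjoinRoot f)) ∣ ∏ a : AdjoinRoot f, (X - C a) := by
      rw [prod_univ]
      have h4 := Polynomial.map_dvd (algebraMap F (AdjoinRoot f)) h2
      rwa [Polynomial.map_sub, Polynomial.map_pow, map_X] at h4
    by_contra hno
    push Not at hno
    have h4 : IsCoprime (g.map (algebraMap F (AdjoinRoot f))) (∏ a : AdjoinRoot f, (X - C a)) := by
      refine IsCoprime.prod_right fun a _ => ?_
      refine IsCoprime.symm ?_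
      rw [(irreducible_X_sub_C a).coprime_iff_not_dvd, dvd_iff_isRoot, IsRoot.def, eval_map_algebraMap]
      exact hno a
    have h5 := h4.isUnit_of_dvd' dvd_rfl h3
    have h6 := natDegree_eq_zero_of_isUnit h5
    rw [natDegree_map, hg.deg] at h6
    omega
  have hZg : aeval (φ z) g = 0 := by
    rw [Polynomial.aeval_algHom_apply, hz, map_zero]
  have hmin : g = minpoly F (φ z) := minpoly.eq_of_irreducible_of_monic hg.irr hZg hg.monic
  have hchar : (φ z).charpoly = g := by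
    refine Polynomial.eq_of_monic_of_dvd_of_natDegree_le hg.monic (Matrix.charpoly_monic _) ?_ ?_
    · rw [hmin]
      exact Matrix.minpoly_dvd_charpoly _
    · rw [Matrix.charpoly_natDegree_eq_dim, Fintype.card_fin, hg.deg]
  have hdet : (φ z).det = (-1) ^ n * g.coeff 0 := by
    rw [Matrix.det_eq_sign_charpoly_coeff, hchar, Fintype.card_fin]
  have hq1 : 0 < Nat.card F - 1 := by omega
  have hM : (Nat.card F - 1) * ((Nat.card F ^ n - 1) / (Nat.card F - 1)) = Nat.card F ^ n - 1 :=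
    Nat.mul_div_cancel' (by simpa using Nat.sub_dvd_pow_sub_pow (Nat.card F) 1 n)
  have hdet0 : (φ z).det ≠ 0 := by
    intro h0
    have h1 := (hg.coef (Nat.card F - 1)).2 (by rw [mul_comm, hM])
    rw [← hdet, h0, zero_pow (by omega)] at h1
    exact zero_ne_one h1
  refine ⟨Matrix.GeneralLinearGroup.mkOfDetNeZero (φ z) hdet0, ?_, ?_⟩
  · show φ z * A = A * φ z
    rw [← hφ, ← map_mul, ← map_mul, mul_comm]
  · show ¬ IsSquare (φ z).det
    rintro ⟨a, ha⟩
    obtain ⟨b, hb⟩ := hodd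
    have ha0 : a ≠ 0 := by
      rintro rfl
      exact hdet0 (by rw [ha, zero_mul])
    have h1 : (φ z).det ^ b = 1 := by
      rw [ha, ← pow_two, ← pow_mul]
      have := Fintype.ofFinite F
      have h2 := FiniteField.pow_card_sub_one_eq_one a ha0
      rw [← Nat.card_eq_fintype_card, hb, Nat.add_sub_cancel] at h2
      exact h2
    rw [hdet, hg.coef] at h1
    obtain ⟨t, ht⟩ : ∃ t, t = (Nat.card F ^ n - 1) / (Nat.card F - 1) := ⟨_, rfl⟩
    rw [← ht] at hM h1
    have h3 : 2 * (t * b) = Nat.card F ^ n - 1 := by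
      have h4 : Nat.card F - 1 = 2 * b := by omega
      rw [← hM, h4]
      ring
    have h5 := Nat.le_of_dvd (by omega) h1
    omega

end nsq

end Cfsg.Agent.H311.TC6
end
end

-- part: H932/TC6/TwD4
section
prune_inst 0x314001404c6200080000808451200000240001b000000000000002440308004000800840040000001228000100000020001000800040000004200000000000000000040430400008800000000000000000000000300000000000000000010004000000000
set_option linter.all false
open scoped Cfsg.Agent.FastGrp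

-- part: H932/TC6/BaseD4
section
/-!
Elements of the Levi subgroup of the long node of `³D₄(q)` without fixed points (S2464), by base change to `D₄`.
-/

set_option autoImplicit false
set_option linter.unusedSectionVars false

namespace Cfsg.Agent.H932.TC6.BaseD4

open CoxeterSystem Cfsg.Agent.ChevalleyStructure.CoxeterGeom Cfsg.Agent.Tits.Roots Cfsg.Agent.Tits.Core
  Cfsg.Agent.Nodes Cfsg.Agent.Nodes.Reps Cfsg.Agent.Nodes.BNOf Cfsg.Agent.Nodes.RGDLib Cfsg.Agent.Nodes.Bruhat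
  Cfsg.Agent.Nodes.OppDec Cfsg.Agent.Nodes.LeviDec Cfsg.Agent.Nodes.StabComb Cfsg.Agent.Nodes.KindChev
  Cfsg.Agent.Nodes.ChevCls
  Cfsg.Agent.OddHalf.NI.ModelChev
  Cfsg.Agent.H162.GaussDec Cfsg.Agent.H162.GaussLevi Cfsg.Agent.H162.GaussSL
  Cfsg.Agent.H928.Ore.Frame Cfsg.Agent.H928.Ore.Fix
open Cfsg.Lie Cfsg.Agent.ChevalleyStructure Cfsg.Agent.ChevalleyStructure.Elts
  Cfsg.Agent.ChevalleyStructure.NPerm
  Cfsg.Agent.ChevalleyStructure.CoxeterGeomTypes Cfsg.Agent.Nodes.RGDChev Cfsg.Agent.KFacts.RgdChevCoord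
open Cfsg.Agent.Nodes.RGDTwGen Cfsg.Agent.Nodes.RGDFold Cfsg.Agent.Nodes.RGDTwD4
open Cfsg.Agent.Nodes.RGDFoldSL (Fx mem_Fx psi psi_up psi_lo psi_hS psi_mem hS wS map_hS map_up map_lo)
open Cfsg.Agent.ChevalleyStructure.TwistedU Cfsg.Agent.ChevalleyStructure.TwistedFix
open Cfsg.Agent.ChevalleyStructure.SL2Hom (up lo mem_closure_SL2)
open Cfsg.Agent.Nodes.RGDTwCoord (hI wt hI_conj)
open Cfsg.Agent.Nodes.RGDTwNode.D4 (nodeOK eps_one rest)
open Cfsg.Agent.OddHalf.NI
open Cfsg.Agent.H874.War.TwD4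
open scoped MatrixGroups

universe u

/-! ### The root `SL₂` of `D₄` -/

theorem h14 : 14 < chevD4.nroots := by decide +kernel
theorem hn14 : chevD4.neg 14 < chevD4.nroots := by decide +kernel

theorem root_le (K : Type u) [Field K] (r : ℕ) : chevD4.rootSubgroup K r ≤ chevD4.group K := fun x hx => by
  obtain ⟨t, rfl⟩ := (mem_rootSubgroup_iff RGDTwD4.hp.inList r x).1 hx
  exact xG_mem_group RGDTwD4.hp.inList r t

/-- the homomorphism of the central node of `D₄` -/
noncomputable def Q (K : Type u) [Field K] : SL(2, K) →* ↥(chevD4.group K) :=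
  (psi RGDTwD4.hp.inList K 14).codRestrict (chevD4.group K) fun g =>
    sup_le (root_le K _) (root_le K _)
      (psi_mem RGDTwD4.hp.inList h14 g)

theorem Q_up (K : Type u) [Field K] (t : K) : Q K (up t) = xc RGDTwD4.hp (vec chevD4 4 14) t := by
  apply Subtype.ext
  rw [coe_xc RGDTwD4.hp h14]
  exact psi_up RGDTwD4.hp.inList h14 t

theorem Q_lo (K : Type u) [Field K] (t : K) : Q K (lo t) = xc RGDTwD4.hp (vec chevD4 4 (chevD4.neg 14)) t := by
  apply Subtype.ext
  rw [coe_xc RGDTwD4.hp hn14]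
  exact psi_lo RGDTwD4.hp.inList h14 t

theorem eq_of_up_lo {K : Type*} [Field K] {G : Type*} [Group G] {f g : SL(2, K) →* G}
    (h1 : ∀ t, f (up t) = g (up t)) (h2 : ∀ t, f (lo t) = g (lo t)) : f = g := by
  ext x
  have : Subgroup.closure (Set.range (up (F := K)) ∪ Set.range (lo (F := K))) ≤ f.eqLocus g := by
    rw [Subgroup.closure_le]
    rintro _ (⟨a, rfl⟩ | ⟨a, rfl⟩)
    · exact h1 a
    · exact h2 a
  exact this (mem_closure_SL2 x)

theorem bc_Q {K K' : Type u} [Field K] [Field K'] (ι : K →+* K') (g : SL(2, K)) :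
    bc chevD4 ι (Q K g) = Q K' (Matrix.SpecialLinearGroup.map ι g) := by
  have h := eq_of_up_lo (f := (bc chevD4 ι).comp (Q K)) (g := (Q K').comp (Matrix.SpecialLinearGroup.map ι))
    (fun t => by
      show bc chevD4 ι (Q K (up t)) = Q K' (Matrix.SpecialLinearGroup.map ι (up t))
      rw [map_up, Q_up, Q_up, bc_xc RGDTwD4.hp ι h14])
    (fun t => by
      show bc chevD4 ι (Q K (lo t)) = Q K' (Matrix.SpecialLinearGroup.map ι (lo t))
      rw [map_lo, Q_lo, Q_lo, bc_xc RGDTwD4.hp ι hn14])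
  exact DFunLike.congr_fun h g

theorem commute_Q {K : Type u} [Field K] {t : ↥(chevD4.group K)} (ht : t ∈ TT chevD4 K)
    (h1 : ch RGDTwD4.hp (vec chevD4 4 14) t = 1) (h2 : ch RGDTwD4.hp (vec chevD4 4 (chevD4.neg 14)) t = 1)
    (g : SL(2, K)) : Commute t (Q K g) := by
  have : Subgroup.closure (Set.range (up (F := K)) ∪ Set.range (lo (F := K))) ≤
      (Subgroup.centralizer {t}).comap (Q K) := by
    rw [Subgroup.closure_le]
    rintro _ (⟨a, rfl⟩ | ⟨a, rfl⟩)
    · show Q K (up a) ∈ Subgroup.centralizer {t}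
      rw [Subgroup.mem_centralizer_singleton_iff, Q_up]
      have h3 := (act RGDTwD4.hp h14 ht).2 a
      rw [h1, one_mul] at h3
      exact (mul_inv_eq_iff_eq_mul.1 h3).symm
    · show Q K (lo a) ∈ Subgroup.centralizer {t}
      rw [Subgroup.mem_centralizer_singleton_iff, Q_lo]
      have h3 := (act RGDTwD4.hp hn14 ht).2 a
      rw [h2, one_mul] at h3
      exact (mul_inv_eq_iff_eq_mul.1 h3).symm
  have h3 := Subgroup.mem_centralizer_singleton_iff.1 (this (mem_closure_SL2 g))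
  exact h3.symm

theorem map_xG {K K' : Type u} [Field K] [Field K'] (ι : K →+* K') {r : ℕ} (hr : r < chevD4.nroots) (a : K) :
    Matrix.GeneralLinearGroup.map (n := chevD4.Idx) ι (xG RGDTwD4.hp.inList r a) = xG RGDTwD4.hp.inList r (ι a) := by
  apply Units.ext
  change (((xG RGDTwD4.hp.inList r a : GL chevD4.Idx K) : Matrix chevD4.Idx chevD4.Idx K)).map ι = _
  rw [coe_xG, coe_xG, x_of_lt hr, x_of_lt hr]
  exact Cfsg.Agent.ChevalleyStructure.FieldIso.map_xMat chevD4 ι _ a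

theorem neg_lt : ∀ r < chevD4.nroots, chevD4.neg r < chevD4.nroots := by decide +kernel

theorem map_nG {K K' : Type u} [Field K] [Field K'] (ι : K →+* K') {r : ℕ} (hr : r < chevD4.nroots) (a : K) :
    Matrix.GeneralLinearGroup.map (n := chevD4.Idx) ι (nG RGDTwD4.hp.inList r a) = nG RGDTwD4.hp.inList r (ι a) := by
  rw [nG_def, nG_def, map_mul, map_mul, map_xG ι hr, map_xG ι (neg_lt r hr), map_neg, map_inv₀]

theorem map_hG {K K' : Type u} [Field K] [Field K'] (ι : K →+* K') {r : ℕ} (hr : r < chevD4.nroots) (a : K) :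
    Matrix.GeneralLinearGroup.map (n := chevD4.Idx) ι (hG RGDTwD4.hp.inList r a) = hG RGDTwD4.hp.inList r (ι a) := by
  rw [hG_def, hG_def, map_mul, map_nG ι hr, map_nG ι hr, map_neg, map_one]

theorem bc_TT {K K' : Type u} [Field K] [Field K'] (ι : K →+* K') {t : ↥(chevD4.group K)} (ht : t ∈ TT chevD4 K) :
    bc chevD4 ι t ∈ TT chevD4 K' := by
  have h1 := Subgroup.mem_subgroupOf.1 ht
  have h2 : chevD4.diagonalSubgroup K ≤
      (chevD4.diagonalSubgroup K').comap (Matrix.GeneralLinearGroup.map (n := chevD4.Idx) ι) := by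
    refine (Subgroup.closure_le _).2 ?_
    rintro g ⟨r, t, hr, ht, e⟩
    have e2 : g = hG RGDTwD4.hp.inList r t := Units.ext (e.trans (coe_hG RGDTwD4.hp.inList r t).symm)
    rw [e2]
    show Matrix.GeneralLinearGroup.map (n := chevD4.Idx) ι (hG RGDTwD4.hp.inList r t) ∈ chevD4.diagonalSubgroup K'
    rw [map_hG ι hr]
    exact hG_mem_diagonal RGDTwD4.hp.inList hr ((map_ne_zero ι).2 ht)
  exact Subgroup.mem_subgroupOf.2 (h2 h1)

theorem bc_ch {K K' : Type u} [Field K] [Field K'] (ι : K →+* K') {t : ↥(chevD4.group K)} (ht : t ∈ TT chevD4 K)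
    {r : ℕ} (hr : r < chevD4.nroots) :
    ch RGDTwD4.hp (vec chevD4 4 r) (bc chevD4 ι t) = ι (ch RGDTwD4.hp (vec chevD4 4 r) t) := by
  apply ch_eq RGDTwD4.hp hr (bc_TT ι ht)
  have h := (act RGDTwD4.hp hr ht).2 1
  have h2 := congrArg (bc chevD4 ι) h
  rw [map_mul, map_mul, map_inv, bc_xc RGDTwD4.hp ι hr, bc_xc RGDTwD4.hp ι hr, map_one, mul_one] at h2
  exact h2

theorem Q_dg_conj {K : Type u} [Field K] (l : Kˣ) {r : ℕ} (hr : r < chevD4.nroots) (u : K) :
    Q K (Mult.dg l) * xc RGDTwD4.hp (vec chevD4 4 r) u * (Q K (Mult.dg l))⁻¹ =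
      xc RGDTwD4.hp (vec chevD4 4 r) ((l : K) ^ chevD4.cartan 1 r * u) := by
  apply Subtype.ext
  have e1 : ((Q K (Mult.dg l) : ↥(chevD4.group K)) : GL chevD4.Idx K) = hI RGDTwD4.hp (RingHom.id K) (J 0) (l : K) := by
    rw [ModelTw.dg_eq]
    show psi RGDTwD4.hp.inList K 14 (hS (l : K)) = _
    rw [psi_hS RGDTwD4.hp.inList h14]
    show _ = hG RGDTwD4.hp.inList (chevD4.simple 1) (l : K) * 1
    rw [mul_one]
    rfl
  rw [Subgroup.coe_mul, Subgroup.coe_mul, Subgroup.coe_inv, coe_xc RGDTwD4.hp hr, coe_xc RGDTwD4.hp hr, e1,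
    hI_conj (hp := RGDTwD4.hp) (φ := RingHom.id K) (J 0) hr l.ne_zero u]
  congr 1
  show (l : K) ^ chevD4.cartan 1 r * 1 * u = _
  rw [mul_one]

theorem Q_dg_mem {K : Type u} [Field K] (l : Kˣ) : Q K (Mult.dg l) ∈ TT chevD4 K := by
  rw [Subgroup.mem_subgroupOf]
  rw [ModelTw.dg_eq]
  show psi RGDTwD4.hp.inList K 14 (hS (l : K)) ∈ _
  rw [psi_hS RGDTwD4.hp.inList h14]
  exact hG_mem_diagonal RGDTwD4.hp.inList h14 l.ne_zero

/-- the product with an element of the torus -/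
theorem mul_Q_ch {K : Type u} [Field K] {t : ↥(chevD4.group K)} (ht : t ∈ TT chevD4 K) (l : Kˣ)
    {r : ℕ} (hr : r < chevD4.nroots) :
    ch RGDTwD4.hp (vec chevD4 4 r) (t * Q K (Mult.dg l)) =
      ch RGDTwD4.hp (vec chevD4 4 r) t * (l : K) ^ chevD4.cartan 1 r := by
  apply ch_eq RGDTwD4.hp hr (mul_mem ht (Q_dg_mem l))
  have h1 := Q_dg_conj l hr 1
  have h2 := (act RGDTwD4.hp hr ht).2 ((l : K) ^ chevD4.cartan 1 r * 1)
  rw [← h1] at h2
  rw [mul_one] at h2
  rw [← h2]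
  group

/-! ### The Levi subgroups -/

theorem Q_mem_LJ {K : Type u} [Field K] (T : Subgroup ↥(chevD4.group K)) (g : SL(2, K)) :
    Q K g ∈ LJ coxeterD4.toCoxeterSystem RGDTwD4.hp.isCartan T (XX chevD4 4 K) {1} := by
  have v1 : ∀ k : Fin 4, k ∉ ({1} : Set (Fin 4)) → vec chevD4 4 14 k = 0 := by
    have : ∀ k : Fin 4, k ≠ 1 → vec chevD4 4 14 k = 0 := by decide +kernel
    exact fun k hk => this k hk
  have v2 : ∀ k : Fin 4, k ∉ ({1} : Set (Fin 4)) → vec chevD4 4 (chevD4.neg 14) k = 0 := by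
    have : ∀ k : Fin 4, k ≠ 1 → vec chevD4 4 (chevD4.neg 14) k = 0 := by decide +kernel
    exact fun k hk => this k hk
  have : Subgroup.closure (Set.range (up (F := K)) ∪ Set.range (lo (F := K))) ≤
      (LJ coxeterD4.toCoxeterSystem RGDTwD4.hp.isCartan T (XX chevD4 4 K) {1}).comap (Q K) := by
    rw [Subgroup.closure_le]
    rintro _ (⟨a, rfl⟩ | ⟨a, rfl⟩)
    · refine X_le_LJ (x := vec chevD4 4 14) ⟨isRoot_vec RGDTwD4.hp _ h14, v1⟩ ?_
      rw [Q_up]
      exact (mem_XX RGDTwD4.hp h14 _).2 ⟨a, rfl⟩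
    · refine X_le_LJ (x := vec chevD4 4 (chevD4.neg 14)) ⟨isRoot_vec RGDTwD4.hp _ hn14, v2⟩ ?_
      rw [Q_lo]
      exact (mem_XX RGDTwD4.hp hn14 _).2 ⟨a, rfl⟩
  exact this (mem_closure_SL2 g)

theorem tabJ : ∀ r < chevD4.nroots, (∀ k : Fin 2, 0 ≤ V chevD4 J r k) → (∃ k : Fin 2, k ≠ 0 ∧ 0 < V chevD4 J r k) →
    (∀ k : Fin 4, 0 ≤ vec chevD4 4 r k) ∧ ∃ k : Fin 4, k ≠ 1 ∧ 0 < vec chevD4 4 r k := by
  have h : ∀ r : Fin 24, (∀ k : Fin 2, 0 ≤ V chevD4 J r k) → (∃ k : Fin 2, k ≠ 0 ∧ 0 < V chevD4 J r k) →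
    (∀ k : Fin 4, 0 ≤ vec chevD4 4 r k) ∧ ∃ k : Fin 4, k ≠ 1 ∧ 0 < vec chevD4 4 r k := by decide +kernel
  exact fun r hr => h ⟨r, hr⟩

theorem tabJN : ∀ r < chevD4.nroots, (∀ k : Fin 2, V chevD4 J r k ≤ 0) → (∃ k : Fin 2, k ≠ 0 ∧ V chevD4 J r k < 0) →
    (∀ k : Fin 4, vec chevD4 4 r k ≤ 0) ∧ ∃ k : Fin 4, k ≠ 1 ∧ vec chevD4 4 r k < 0 := by
  have h : ∀ r : Fin 24, (∀ k : Fin 2, V chevD4 J r k ≤ 0) → (∃ k : Fin 2, k ≠ 0 ∧ V chevD4 J r k < 0) →
    (∀ k : Fin 4, vec chevD4 4 r k ≤ 0) ∧ ∃ k : Fin 4, k ≠ 1 ∧ vec chevD4 4 r k < 0 := by decide +kernel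
  exact fun r hr => h ⟨r, hr⟩

/-- the table of the scalars -/
theorem tabC : ∀ r < chevD4.nroots, (∃ k : Fin 4, k ≠ 1 ∧ vec chevD4 4 r k ≠ 0) →
    ((chevD4.cartan 0 r - chevD4.cartan 3 r = 0 ∧ chevD4.cartan 2 r - chevD4.cartan 3 r = 0 ∧
        (chevD4.cartan 1 r = 1 ∨ chevD4.cartan 1 r = -1)) ∨
      (chevD4.cartan 0 r - chevD4.cartan 3 r = 2 ∧ chevD4.cartan 2 r - chevD4.cartan 3 r = 0) ∨
      (chevD4.cartan 0 r - chevD4.cartan 3 r = -2 ∧ chevD4.cartan 2 r - chevD4.cartan 3 r = 0) ∨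
      (chevD4.cartan 0 r - chevD4.cartan 3 r = 0 ∧ chevD4.cartan 2 r - chevD4.cartan 3 r = 2) ∨
      (chevD4.cartan 0 r - chevD4.cartan 3 r = 0 ∧ chevD4.cartan 2 r - chevD4.cartan 3 r = -2) ∨
      (chevD4.cartan 0 r - chevD4.cartan 3 r = 2 ∧ chevD4.cartan 2 r - chevD4.cartan 3 r = 2) ∨
      (chevD4.cartan 0 r - chevD4.cartan 3 r = -2 ∧ chevD4.cartan 2 r - chevD4.cartan 3 r = -2)) := by
  have h : ∀ r : Fin 24, (∃ k : Fin 4, k ≠ 1 ∧ vec chevD4 4 r k ≠ 0) →
    ((chevD4.cartan 0 r - chevD4.cartan 3 r = 0 ∧ chevD4.cartan 2 r - chevD4.cartan 3 r = 0 ∧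
        (chevD4.cartan 1 r = 1 ∨ chevD4.cartan 1 r = -1)) ∨
      (chevD4.cartan 0 r - chevD4.cartan 3 r = 2 ∧ chevD4.cartan 2 r - chevD4.cartan 3 r = 0) ∨
      (chevD4.cartan 0 r - chevD4.cartan 3 r = -2 ∧ chevD4.cartan 2 r - chevD4.cartan 3 r = 0) ∨
      (chevD4.cartan 0 r - chevD4.cartan 3 r = 0 ∧ chevD4.cartan 2 r - chevD4.cartan 3 r = 2) ∨
      (chevD4.cartan 0 r - chevD4.cartan 3 r = 0 ∧ chevD4.cartan 2 r - chevD4.cartan 3 r = -2) ∨
      (chevD4.cartan 0 r - chevD4.cartan 3 r = 2 ∧ chevD4.cartan 2 r - chevD4.cartan 3 r = 2) ∨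
      (chevD4.cartan 0 r - chevD4.cartan 3 r = -2 ∧ chevD4.cartan 2 r - chevD4.cartan 3 r = -2)) := by decide +kernel
  exact fun r hr => h ⟨r, hr⟩

section

variable {W : Type*} [Group W] (cs : CoxeterSystem CoxeterMatrix.G₂ W) {K : Type u} [Field K]

theorem VJ_le (φ : K →+* K) (q : ℕ) : VJ cs RGDTwD4.isCartan (X φ q) {0} ≤
    (VJ coxeterD4.toCoxeterSystem RGDTwD4.hp.isCartan (XX chevD4 4 K) {1}).comap (inc K q) := by
  refine RGD.Sup_le fun z hz => X_le fun r hr hrz => ?_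
  obtain ⟨-, h0, k, hk, hk0⟩ := hz
  obtain ⟨h1, k', h2, h3⟩ := tabJ r hr (fun k => by rw [hrz]; exact h0 k) ⟨k, hk, by rw [hrz]; exact hk0⟩
  exact RGD.le_Sup ⟨isRoot_vec RGDTwD4.hp _ hr, fun k => h1 k, k', h2, h3⟩

theorem VNJ_le (φ : K →+* K) (q : ℕ) : VNJ cs RGDTwD4.isCartan (X φ q) {0} ≤
    (VNJ coxeterD4.toCoxeterSystem RGDTwD4.hp.isCartan (XX chevD4 4 K) {1}).comap (inc K q) := by
  refine RGD.Sup_le fun z hz => X_le fun r hr hrz => ?_
  obtain ⟨-, h0, k, hk, hk0⟩ := hz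
  obtain ⟨h1, k', h2, h3⟩ := tabJN r hr (fun k => by
      have := h0 k
      rw [hrz]
      simpa using this)
    ⟨k, hk, by rw [hrz]; simpa using hk0⟩
  refine RGD.le_Sup ⟨(isRoot_vec RGDTwD4.hp _ hr).neg, fun k => ?_, k', h2, ?_⟩
  · have := h1 k
    simpa using this
  · simpa using h3

end

/-! ### A field with the eigenvalues -/

theorem exists_ext (K : Type u) [Field K] [Finite K] (σ : K) : ∃ (K' : Type u) (_ : Field K') (_ : Fintype K')
    (ι : K →+* K') (l : K'), l ^ 2 = ι σ * l - 1 := by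
  classical
  obtain ⟨f, hf⟩ : ∃ f : Polynomial K, f = Polynomial.X ^ 2 - Polynomial.C σ * Polynomial.X + 1 := ⟨_, rfl⟩
  have hm : ∀ {L : Type u} [Field L] (ι : K →+* L), f.map ι =
      Polynomial.X ^ 2 - Polynomial.C (ι σ) * Polynomial.X + 1 := by
    intro L _ ι
    rw [hf]
    simp only [Polynomial.map_add, Polynomial.map_sub, Polynomial.map_pow, Polynomial.map_X, Polynomial.map_mul,
      Polynomial.map_C, Polynomial.map_one]
  have hdeg : f.degree ≠ 0 := by
    have : f.degree = 2 := by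
      rw [hf]
      compute_degree!
    rw [this]
    decide
  have : Finite (Polynomial.SplittingField f) := Module.finite_of_finite K
  have hs := Polynomial.SplittingField.splits f
  obtain ⟨l, hl⟩ := Polynomial.Splits.exists_eval_eq_zero hs (by rwa [Polynomial.degree_map])
  refine ⟨Polynomial.SplittingField f, inferInstance, Fintype.ofFinite _,
    algebraMap K (Polynomial.SplittingField f), l, ?_⟩
  rw [hm] at hl
  simp only [Polynomial.eval_add, Polynomial.eval_sub, Polynomial.eval_pow,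
    Polynomial.eval_X, Polynomial.eval_mul, Polynomial.eval_C, Polynomial.eval_one] at hl
  linear_combination hl

end Cfsg.Agent.H932.TC6.BaseD4
end

-- part: H932/TC6/NF
section
/-!
Elements `z s` of the Levi subgroup of the long node of `³D₄(q)` (S2464): `z` of the torus, of order prime to `6` and
norm one, `s` in `SL₂(q)`, of coprime order: no fixed points on the unipotent radicals.
-/

set_option autoImplicit false
set_option linter.unusedSectionVars false

namespace Cfsg.Agent.H932.TC6.NFz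

open CoxeterSystem Cfsg.Agent.ChevalleyStructure.CoxeterGeom Cfsg.Agent.Tits.Roots Cfsg.Agent.Tits.Core
  Cfsg.Agent.Nodes Cfsg.Agent.Nodes.Reps Cfsg.Agent.Nodes.BNOf Cfsg.Agent.Nodes.RGDLib Cfsg.Agent.Nodes.Bruhat
  Cfsg.Agent.Nodes.OppDec Cfsg.Agent.Nodes.LeviDec Cfsg.Agent.Nodes.StabComb Cfsg.Agent.Nodes.KindChev
  Cfsg.Agent.Nodes.ChevCls
  Cfsg.Agent.OddHalf.NI.ModelChev
  Cfsg.Agent.H162.GaussDec Cfsg.Agent.H162.GaussLevi
  Cfsg.Agent.H928.Ore.Frame Cfsg.Agent.H928.Ore.Fix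
open Cfsg.Lie Cfsg.Agent.ChevalleyStructure Cfsg.Agent.ChevalleyStructure.Elts
  Cfsg.Agent.ChevalleyStructure.NPerm
  Cfsg.Agent.ChevalleyStructure.CoxeterGeomTypes Cfsg.Agent.Nodes.RGDChev Cfsg.Agent.KFacts.RgdChevCoord
open Cfsg.Agent.Nodes.RGDTwGen Cfsg.Agent.Nodes.RGDFold Cfsg.Agent.Nodes.RGDTwD4
open Cfsg.Agent.Nodes.RGDFoldSL (Fx mem_Fx psi psi_up psi_lo psi_hS psi_mem hS wS map_hS map_up map_lo)
open Cfsg.Agent.ChevalleyStructure.TwistedU Cfsg.Agent.ChevalleyStructure.TwistedFix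
open Cfsg.Agent.ChevalleyStructure.SL2Hom (up lo mem_closure_SL2)
open Cfsg.Agent.Nodes.RGDTwCoord (hI wt hI_conj)
open Cfsg.Agent.Nodes.RGDTwNode.D4 (nodeOK eps_one rest)
open Cfsg.Agent.Ree.PSLTori (tr)
open Cfsg.Agent.OddHalf.NI
open Cfsg.Agent.H874.War.TwD4 Cfsg.Agent.H932.TC6.BaseD4
open scoped MatrixGroups

universe u

section

variable {K : Type u} [Field K] [Fintype K] {φ : K →+* K} {q : ℕ} (hK : Fintype.card K = q ^ 3)
  (hφ : ∀ x, φ x = x ^ q)

/-- the image of the `SL₂` of the long node -/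
theorem inc_P0 (s : SL(2, Fx φ ((rest 0).length + 1))) :
    inc K q (P hK hφ 0 s) = Q K (Matrix.SpecialLinearGroup.map (Fx φ ((rest 0).length + 1)).subtype s) := by
  apply Subtype.ext
  show psi RGDTwD4.hp.inList K 14 (Matrix.SpecialLinearGroup.map (Fx φ ((rest 0).length + 1)).subtype s) * 1 = _
  rw [mul_one]
  rfl

/-- the element `z` of the torus -/
noncomputable def zz (w : (Fx φ ((rest 1).length + 1))ˣ) : ↥(twistedD4 K q) := tt hK hφ 1 w

theorem zz_pow (w : (Fx φ ((rest 1).length + 1))ˣ) (e : ℕ) : zz hK hφ w ^ e = zz hK hφ (w ^ e) := by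
  unfold zz
  rw [tt_pow, one_pow]

theorem zz_one : zz hK hφ (1 : (Fx φ ((rest 1).length + 1))ˣ) = 1 := by
  have h := zz_pow hK hφ (1 : (Fx φ ((rest 1).length + 1))ˣ) 0
  rw [pow_zero, pow_zero] at h
  exact h.symm

theorem inc_zz_mem (w : (Fx φ ((rest 1).length + 1))ˣ) : inc K q (zz hK hφ w) ∈ TT chevD4 K :=
  Subgroup.mem_subgroupOf.2 (Subgroup.mem_subgroupOf.1 (tt_mem hK hφ 1 w)).1

theorem ch_zz {w : (Fx φ ((rest 1).length + 1))ˣ} {v : K} (hv0 : v ≠ 0)
    (hw : ((w : Fx φ ((rest 1).length + 1)) : K) = v) (hn : v * (φ v * φ (φ v)) = 1) {r : ℕ}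
    (hr : r < chevD4.nroots) :
    ch RGDTwD4.hp (vec chevD4 4 r) (inc K q (zz hK hφ w)) =
      v ^ (chevD4.cartan 0 r - chevD4.cartan 3 r) * (φ v) ^ (chevD4.cartan 2 r - chevD4.cartan 3 r) := by
  have hφ0 : φ v ≠ 0 := (map_ne_zero φ).2 hv0
  have e3 : φ (φ v) = (v * φ v)⁻¹ := by
    apply eq_inv_of_mul_eq_one_left
    rw [← hn]
    ring
  apply ch_eq RGDTwD4.hp hr (inc_zz_mem hK hφ w)
  have h1 := conj_tt hK hφ 1 w hr 1
  rw [mul_one] at h1
  unfold zz
  rw [h1, hw]
  congr 1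
  show ((1 : K) ^ chevD4.cartan 1 r * 1) * (v ^ chevD4.cartan 0 r * ((φ v) ^ chevD4.cartan 2 r *
      ((φ (φ v)) ^ chevD4.cartan 3 r * 1))) = _
  rw [e3, inv_zpow, mul_zpow, one_zpow, zpow_sub₀ hv0, zpow_sub₀ hφ0, mul_inv]
  simp only [div_eq_mul_inv]
  ring

/-- `z` commutes with the `SL₂` of the long node -/
theorem commute_zz {w : (Fx φ ((rest 1).length + 1))ˣ} {v : K} (hv0 : v ≠ 0)
    (hw : ((w : Fx φ ((rest 1).length + 1)) : K) = v) (hn : v * (φ v * φ (φ v)) = 1)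
    (s : SL(2, Fx φ ((rest 0).length + 1))) : Commute (zz hK hφ w) (P hK hφ 0 s) := by
  have h1 : ∀ r, r = 14 ∨ r = chevD4.neg 14 → chevD4.cartan 0 r - chevD4.cartan 3 r = 0 ∧
      chevD4.cartan 2 r - chevD4.cartan 3 r = 0 := by
    rintro r (rfl | rfl) <;> decide +kernel
  have h2 := commute_Q (inc_zz_mem hK hφ w)
    (by rw [ch_zz hK hφ hv0 hw hn h14, (h1 14 (Or.inl rfl)).1, (h1 14 (Or.inl rfl)).2]; simp)
    (by rw [ch_zz hK hφ hv0 hw hn hn14, (h1 _ (Or.inr rfl)).1, (h1 _ (Or.inr rfl)).2]; simp)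
    (Matrix.SpecialLinearGroup.map (Fx φ ((rest 0).length + 1)).subtype s)
  rw [← inc_P0 hK hφ] at h2
  apply inc_injective q
  rw [map_mul, map_mul]
  exact h2

/-- the condition on the scalars -/
theorem scal_ne {K' : Type u} [Field K'] (ι : K →+* K') {v : K} (hv1 : v ≠ 1) (hn : v * (φ v * φ (φ v)) = 1)
    {r₁ r₂ : ℕ} (hv : v ^ r₁ = 1) (hodd : Odd r₁) (hcop : Nat.Coprime r₁ r₂) {l : K'} (hl : l ^ r₂ = 1)
    (hl1 : l ≠ 1) {r : ℕ} (hr : r < chevD4.nroots) (hk : ∃ k : Fin 4, k ≠ 1 ∧ vec chevD4 4 r k ≠ 0) :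
    ι (v ^ (chevD4.cartan 0 r - chevD4.cartan 3 r) * (φ v) ^ (chevD4.cartan 2 r - chevD4.cartan 3 r)) *
      l ^ chevD4.cartan 1 r ≠ 1 := by
  have hr₁0 : r₁ ≠ 0 := by rintro rfl; exact absurd hodd (by decide)
  have hv0 : v ≠ 0 := by
    rintro rfl
    rw [zero_pow hr₁0] at hv
    exact zero_ne_one hv
  -- no element of order two
  have hsq : ∀ {x : K}, x ^ r₁ = 1 → x ^ 2 = 1 → x = 1 := by
    intro x h1 h2
    have h3 := pow_gcd_eq_one.2 ⟨h1, h2⟩
    rwa [(Nat.coprime_two_right.2 hodd : Nat.gcd r₁ 2 = 1), pow_one] at h3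
  have hφv : (φ v) ^ r₁ = 1 := by rw [← map_pow, hv, map_one]
  have hφ1 : φ v ≠ 1 := fun h => hv1 (φ.injective (by rw [h, map_one]))
  have hφφ1 : φ (φ v) ≠ 1 := fun h => hφ1 (φ.injective (by rw [h, map_one]))
  have hsq2 : ∀ {x : K}, x ≠ 1 → x ^ r₁ = 1 → x ^ (2 : ℤ) ≠ 1 := fun h1 h2 h3 => h1 (hsq h2 (by exact_mod_cast h3))
  have hsq3 : ∀ {x : K}, x ≠ 1 → x ^ r₁ = 1 → x ^ (-2 : ℤ) ≠ 1 := by
    intro x h1 h2 h3
    rw [zpow_neg, inv_eq_one] at h3
    exact hsq2 h1 h2 h3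
  intro h
  obtain ⟨m, hm⟩ : ∃ m, m = v ^ (chevD4.cartan 0 r - chevD4.cartan 3 r) *
    (φ v) ^ (chevD4.cartan 2 r - chevD4.cartan 3 r) := ⟨_, rfl⟩
  rw [← hm] at h
  have hm1 : m ^ r₁ = 1 := by
    rw [hm, mul_pow, ← zpow_natCast, ← zpow_natCast, zpow_comm, zpow_natCast, hv, one_zpow, one_mul, zpow_comm,
      zpow_natCast, hφv, one_zpow]
  have hl2 : (l ^ chevD4.cartan 1 r) ^ r₂ = 1 := by
    rw [← zpow_natCast, zpow_comm, zpow_natCast, hl, one_zpow]
  have hm2 : (ι m) ^ r₂ = 1 := by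
    have := congrArg (· ^ r₂) h
    simp only [mul_pow, one_pow] at this
    rwa [hl2, mul_one] at this
  have hm3 : ι m = 1 := by
    have h4 : (ι m) ^ r₁ = 1 := by rw [← map_pow, hm1, map_one]
    have h3 := pow_gcd_eq_one.2 ⟨h4, hm2⟩
    rwa [(hcop : Nat.gcd r₁ r₂ = 1), pow_one] at h3
  have hm4 : m = 1 := ι.injective (by rw [hm3, map_one])
  rw [hm3, one_mul] at h
  rw [hm4] at hm
  rcases tabC r hr hk with ⟨h1, h2, h3⟩ | ⟨h1, h2⟩ | ⟨h1, h2⟩ | ⟨h1, h2⟩ | ⟨h1, h2⟩ | ⟨h1, h2⟩ | ⟨h1, h2⟩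
  · rcases h3 with h3 | h3
    · rw [h3, zpow_one] at h
      exact hl1 h
    · rw [h3, zpow_neg_one, inv_eq_one] at h
      exact hl1 h
  · rw [h1, h2, zpow_zero, mul_one] at hm
    exact hsq2 hv1 hv hm.symm
  · rw [h1, h2, zpow_zero, mul_one] at hm
    exact hsq3 hv1 hv hm.symm
  · rw [h1, h2, zpow_zero, one_mul] at hm
    exact hsq2 hφ1 hφv hm.symm
  · rw [h1, h2, zpow_zero, one_mul] at hm
    exact hsq3 hφ1 hφv hm.symm
  · have hvv : v * φ v ≠ 1 := by
      intro h5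
      apply hφφ1
      rw [← hn, ← mul_assoc, h5, one_mul]
    rw [h1, h2, ← mul_zpow] at hm
    exact hsq2 hvv (by rw [mul_pow, hv, hφv, one_mul]) hm.symm
  · have hvv : v * φ v ≠ 1 := by
      intro h5
      apply hφφ1
      rw [← hn, ← mul_assoc, h5, one_mul]
    rw [h1, h2, ← mul_zpow] at hm
    exact hsq3 hvv (by rw [mul_pow, hv, hφv, one_mul]) hm.symm

/-- **No fixed points.** -/
theorem nf {W : Type*} [Group W] (cs : CoxeterSystem CoxeterMatrix.G₂ W)
    {w : (Fx φ ((rest 1).length + 1))ˣ} {v : K} (hw : ((w : Fx φ ((rest 1).length + 1)) : K) = v)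
    (hv1 : v ≠ 1) (hn : v * (φ v * φ (φ v)) = 1)
    {r₁ r₂ : ℕ} (hv : v ^ r₁ = 1) (hodd : Odd r₁) (hcop : Nat.Coprime r₁ r₂)
    {s : SL(2, Fx φ ((rest 0).length + 1))} (hs : s ^ r₂ = 1) (hts : tr s ^ 2 ≠ 4) :
    NF (VNJ cs RGDTwD4.isCartan (X φ q) {0}) (zz hK hφ w * P hK hφ 0 s) ∧
      NF (VJ cs RGDTwD4.isCartan (X φ q) {0}) (zz hK hφ w * P hK hφ 0 s) := by
  have hr₁0 : r₁ ≠ 0 := by rintro rfl; exact absurd hodd (by decide)
  have hv0 : v ≠ 0 := by
    rintro rfl
    rw [zero_pow hr₁0] at hv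
    exact zero_ne_one hv
  obtain ⟨K', _, _, ι, l, hl⟩ := exists_ext K ((tr s : Fx φ ((rest 0).length + 1)) : K)
  obtain ⟨j, hj⟩ : ∃ j : Fx φ ((rest 0).length + 1) →+* K', j = ι.comp (Fx φ ((rest 0).length + 1)).subtype := ⟨_, rfl⟩
  have htr : tr (Matrix.SpecialLinearGroup.map j s) = ι ((tr s : Fx φ ((rest 0).length + 1)) : K) := by
    rw [hj]
    show ι (s.1 0 0 : Fx φ ((rest 0).length + 1)) + ι (s.1 1 1 : Fx φ ((rest 0).length + 1)) = _
    rw [← map_add]
    rfl
  have hmj : (Matrix.SpecialLinearGroup.map ι (Matrix.SpecialLinearGroup.map (Fx φ ((rest 0).length + 1)).subtype s)) =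
      Matrix.SpecialLinearGroup.map j s := by
    rw [hj]
    rfl
  have hτ : tr (Matrix.SpecialLinearGroup.map j s) ^ 2 ≠ 4 := by
    intro h
    apply hts
    have h2 : j (tr s ^ 2) = j 4 := by
      rw [map_pow, map_ofNat, ← h, htr, hj]
      rfl
    exact j.injective h2
  have hl0 : l ≠ 0 := by
    rintro rfl
    rw [mul_zero, zero_sub] at hl
    norm_num at hl
  have hl1 : l ≠ 1 := by
    rintro rfl
    apply hτ
    have h2 : ι ((tr s : Fx φ ((rest 0).length + 1)) : K) = 2 := by linear_combination -hl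
    rw [htr, h2]
    norm_num
  have hlp : l ^ r₂ = 1 := by
    have := Cfsg.Agent.H118.O8S.pow_eq_one (L := K') (Matrix.SpecialLinearGroup.map j s) hτ (ζ := l)
      (by rw [htr]; exact hl) (m := r₂) (by rw [← map_pow, hs, map_one])
    exact this
  obtain ⟨L, hL⟩ : ∃ L : K'ˣ, (L : K') = l := ⟨Units.mk0 l hl0, rfl⟩
  have hcj : IsConj (Mult.dg L) (Matrix.SpecialLinearGroup.map j s) := by
    have h3 : tr (Matrix.SpecialLinearGroup.map j s) = tr (Mult.dg L) := by
      show _ = (L : K') + ((L⁻¹ : K'ˣ) : K')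
      rw [Units.val_inv_eq_inv_val, hL, htr]
      field_simp
      linear_combination -hl
    exact (Cfsg.Agent.H118.O8S.exists_conj _ _ hτ h3).symm
  obtain ⟨h, hh⟩ := isConj_iff.1 hcj
  -- the image in `D₄(K')`
  obtain ⟨t, ht⟩ : ∃ t, t = bc chevD4 ι (inc K q (zz hK hφ w)) := ⟨_, rfl⟩
  have htm : t ∈ TT chevD4 K' := by rw [ht]; exact bc_TT ι (inc_zz_mem hK hφ w)
  have hch : ∀ {r : ℕ}, r < chevD4.nroots → ch RGDTwD4.hp (vec chevD4 4 r) t =
      ι (v ^ (chevD4.cartan 0 r - chevD4.cartan 3 r) * (φ v) ^ (chevD4.cartan 2 r - chevD4.cartan 3 r)) := by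
    intro r hr
    rw [ht, bc_ch ι (inc_zz_mem hK hφ w) hr, ch_zz hK hφ hv0 hw hn hr]
  have hc1 : ∀ r, r = 14 ∨ r = chevD4.neg 14 → chevD4.cartan 0 r - chevD4.cartan 3 r = 0 ∧
      chevD4.cartan 2 r - chevD4.cartan 3 r = 0 := by
    rintro r (rfl | rfl) <;> decide +kernel
  have hcomm : ∀ g, Commute t (Q K' g) := fun g => commute_Q htm
    (by rw [hch h14, (hc1 14 (Or.inl rfl)).1, (hc1 14 (Or.inl rfl)).2]; simp)
    (by rw [hch hn14, (hc1 _ (Or.inr rfl)).1, (hc1 _ (Or.inr rfl)).2]; simp) g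
  have himg : bc chevD4 ι (inc K q (zz hK hφ w * P hK hφ 0 s)) = Q K' h * (t * Q K' (Mult.dg L)) * (Q K' h)⁻¹ := by
    rw [map_mul, map_mul, ← ht, inc_P0, bc_Q, hmj, ← hh, map_mul, map_mul, map_inv]
    rw [← mul_assoc (Q K' h) t, ← (hcomm h).eq]
    simp only [mul_assoc]
  have hm2 : t * Q K' (Mult.dg L) ∈ TT chevD4 K' := mul_mem htm (Q_dg_mem L)
  obtain ⟨p, hpc⟩ := CharP.exists K'
  have : Fact p.Prime := ⟨(CharP.char_is_prime_or_zero K' p).resolve_right (CharP.char_ne_zero_of_finite K' p)⟩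
  have R := RGDChev.rgd (K := K') RGDTwD4.hp coxeterD4.toCoxeterSystem p
  have := Cfsg.Agent.Nodes.RGDChev.finite_W RGDTwD4.hp coxeterD4.toCoxeterSystem
  have hf : NoFix coxeterD4.toCoxeterSystem RGDTwD4.hp.isCartan (XX chevD4 4 K') {1} (t * Q K' (Mult.dg L)) := by
    refine noFix_ch RGDTwD4.hp hm2 fun r hr hk => ?_
    rw [mul_Q_ch htm L hr, hch hr, hL]
    exact scal_ne ι hv1 hn hv hodd hcop hlp hl1 hr hk
  obtain ⟨g1, g2⟩ := nf_conj R hm2 hf (Q_mem_LJ (TT chevD4 K') h)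
  rw [← himg] at g1 g2
  constructor
  · refine NF.of_hom _ (inc_injective q) (VNJ_le cs φ q) ?_
    exact NF.of_hom _ (bc_injective chevD4 ι) (VNJ_le_comap RGDTwD4.hp ι {1}) g2
  · refine NF.of_hom _ (inc_injective q) (VJ_le cs φ q) ?_
    exact NF.of_hom _ (bc_injective chevD4 ι) (VJ_le_comap RGDTwD4.hp ι {1}) g1

end

end Cfsg.Agent.H932.TC6.NFz
end

-- part: H932/TC6/Tor
section
/-!
Gauss decomposition with prescribed torus part, up to conjugation, and the frame for products of two classes (S2464).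

* `gauss_tor` : every element outside the core of `B` has a conjugate in `U⁻ s₀ U`, for every `s₀` in the torus;
* `pair_tor` : the frame.
-/

set_option autoImplicit false
set_option linter.unusedSectionVars false

namespace Cfsg.Agent.H932.TC6.Tor

open CoxeterSystem Cfsg.Agent.ChevalleyStructure.CoxeterGeom Cfsg.Agent.Tits.Roots Cfsg.Agent.Tits.Core
  Cfsg.Agent.Tits.RootComb Cfsg.Agent.Tits.Exchange Cfsg.Agent.Nodes.Comb Cfsg.Agent.Nodes.Reps
  Cfsg.Agent.Nodes.BNOf Cfsg.Agent.Nodes.StabComb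
  Cfsg.Agent.Nodes.RGDLib Cfsg.Agent.Nodes.Bruhat Cfsg.Agent.Nodes.OppDec Cfsg.Agent.Nodes.LeviDec
  Cfsg.Agent.OddHalf.NI.Mult
  Cfsg.Agent.H162.GaussComb Cfsg.Agent.H162.GaussDec Cfsg.Agent.H162.GaussLevi Cfsg.Agent.H162.GaussSL
  Cfsg.Agent.H928.Ore.Frame

variable {I W Y : Type*} [Fintype I] [DecidableEq I] [Group W] [Group Y] {M : CoxeterMatrix I}
  {cs : CoxeterSystem M W} {A : I → I → ℤ} {h : IsCartan M A} {p : ℕ} {T : Subgroup Y} {n : I → Y}
  {X : (I → ℤ) → Subgroup Y}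

/-- **Gauss decomposition up to conjugation, with prescribed torus part.** -/
theorem gauss_tor_aux [Finite W] (R : RGD cs h p T n X) (hG : G1 cs h X = ⊤)
    (hconn : ∀ J : Set I, J.Nonempty → J ≠ Set.univ → ∃ a ∈ J, ∃ b, b ∉ J ∧ M a b ≠ 2)
    {m : I → Y} (hmr : ∀ i, Rp cs R.nsys (cs.simple i) (m i)) (hm1 : ∀ i, R1 T X i (m i)) {s₀ : Y} (hs₀ : s₀ ∈ T)
    {g : Y} (hg : g ∉ (RGD.B cs h T X).normalCore) :
    ∃ x : Y, ∃ v ∈ UN cs h X, ∃ u ∈ RGD.Sup X (RGD.Pos cs h), x * g * x⁻¹ = v * s₀ * u := by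
  obtain ⟨x, w, hw, hfull⟩ := exists_full R hG hconn hg
  obtain ⟨b₁, hb₁, k, hk, b₂, hb₂, e⟩ := hw
  obtain ⟨ω, hω, rfl⟩ := cs.exists_isReduced w
  have hω' : cs.length (cs.wordProd ω) = ω.length := hω
  have hmem : ∀ i, i ∈ ω := by
    intro i
    by_contra hi
    have h1 : i ∈ supp cs (cs.wordProd ω) := by rw [hfull]; trivial
    refine h1 (wordProd_mem_WJ cs fun j hj => ?_)
    simp only [Set.mem_compl_iff, Set.mem_singleton_iff]
    rintro rfl
    exact hi hj
  have hQ : T ≤ QQ T X ω := by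
    have h1 : T0 R ≤ QQ T X ω := iSup_le fun i => le_QQ (hmem i)
    rwa [iSup_eq R hG] at h1
  have hk0 : Rp cs R.nsys (cs.wordProd ω) (_root_.Cfsg.Agent.OddHalf.NI.Mult.PW m ω) := ga_word.rp_PW' R hmr ω
  obtain ⟨t₁, ht₁, u₁, hu₁, e₁⟩ := R.mem_B.1 (inv_mem hb₁)
  obtain ⟨t₂, ht₂, u₂, hu₂, e₂⟩ := R.mem_B.1 hb₂
  have hb₁' : b₁ = u₁⁻¹ * t₁⁻¹ := by
    rw [← inv_inv b₁, e₁]; group
  have ht₃ : (_root_.Cfsg.Agent.OddHalf.NI.Mult.PW m ω)⁻¹ * k ∈ T := hk0.unique hk
  have ht₄ : (_root_.Cfsg.Agent.OddHalf.NI.Mult.PW m ω)⁻¹ * t₁⁻¹ * _root_.Cfsg.Agent.OddHalf.NI.Mult.PW m ω ∈ T := by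
    have h1 := (mem_normalizer_iff_cj.1 hk0.inv.mem_normalizer)
    have h2 : (_root_.Cfsg.Agent.OddHalf.NI.Mult.PW m ω)⁻¹ * t₁⁻¹ * (_root_.Cfsg.Agent.OddHalf.NI.Mult.PW m ω)⁻¹⁻¹ ∈ cj (_root_.Cfsg.Agent.OddHalf.NI.Mult.PW m ω)⁻¹ T := conj_mem_cj.2 (inv_mem ht₁)
    rwa [h1, inv_inv] at h2
  obtain ⟨t, ht⟩ : ∃ t, t = ((_root_.Cfsg.Agent.OddHalf.NI.Mult.PW m ω)⁻¹ * t₁⁻¹ * _root_.Cfsg.Agent.OddHalf.NI.Mult.PW m ω) * ((_root_.Cfsg.Agent.OddHalf.NI.Mult.PW m ω)⁻¹ * k) * t₂ := ⟨_, rfl⟩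
  have htT : t ∈ T := by rw [ht]; exact mul_mem (mul_mem ht₄ ht₃) ht₂
  have e' : x * g * x⁻¹ = u₁⁻¹ * _root_.Cfsg.Agent.OddHalf.NI.Mult.PW m ω * t * u₂ := by
    rw [e, hb₁', e₂, ht]; group
  obtain ⟨u, hu, v, hv, u', hu', e3⟩ := ga_word R hmr hm1 ω hω' (s₀ * t⁻¹) (hQ (mul_mem hs₀ (inv_mem htT)))
  refine ⟨u * u₁ * x, v, hv, (t⁻¹ * u' * t) * u₂ * u₁⁻¹ * u⁻¹, ?_, ?_⟩
  · exact mul_mem (mul_mem (mul_mem (T_normalizes_U' R htT hu') hu₂) (inv_mem hu₁)) (inv_mem hu)
  · calc u * u₁ * x * g * (u * u₁ * x)⁻¹ = u * u₁ * (x * g * x⁻¹) * u₁⁻¹ * u⁻¹ := by group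
      _ = (u * _root_.Cfsg.Agent.OddHalf.NI.Mult.PW m ω) * t * u₂ * u₁⁻¹ * u⁻¹ := by rw [e']; group
      _ = v * s₀ * (t⁻¹ * u' * t * u₂ * u₁⁻¹ * u⁻¹) := by rw [e3]; group

variable {F : I → Type*} [∀ i, Field (F i)] {s : ∀ i, Matrix.SpecialLinearGroup (Fin 2) (F i) →* Y}

/-- **Gauss decomposition up to conjugation, with prescribed torus part.** -/
theorem gauss_tor [Finite W] (R : RGD cs h p T n X) (hG : G1 cs h X = ⊤) (C : Coord X F s)
    (hconn : ∀ J : Set I, J.Nonempty → J ≠ Set.univ → ∃ a ∈ J, ∃ b, b ∉ J ∧ M a b ≠ 2) {s₀ : Y} (hs₀ : s₀ ∈ T)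
    {g : Y} (hg : g ∉ (RGD.B cs h T X).normalCore) :
    ∃ x : Y, ∃ v ∈ UN cs h X, ∃ u ∈ RGD.Sup X (RGD.Pos cs h), x * g * x⁻¹ = v * s₀ * u :=
  gauss_tor_aux R hG hconn (m := fun i => s i (OddHalf.NI.Mult.nn 1)) (fun i => rp_nn R C i 1)
    (fun i => coord_R1 R C i) hs₀ hg

/-- **Pairs**, with prescribed torus part. -/
theorem pair_tor [Finite W] [Finite Y] (R : RGD cs h p T n X) (hG : G1 cs h X = ⊤) (C : Coord X F s)
    (hconn : ∀ J : Set I, J.Nonempty → J ≠ Set.univ → ∃ a ∈ J, ∃ b, b ∉ J ∧ M a b ≠ 2) {s₀ : Y} (hs₀ : s₀ ∈ T)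
    {J : Set I} {Pr : Y → Y → Prop}
    (hb : ∀ v ∈ UNJ cs h X J, ∀ u ∈ UJ cs h X J, ∃ c₁ c₂, v * s₀ * u = c₁ * c₂ ∧ LP cs h T X J c₁ c₂ ∧ Pr c₁ c₂)
    {g : Y} (hg : g ∉ (RGD.B cs h T X).normalCore) :
    ∃ c₁ c₂ x y : Y, Pr c₁ c₂ ∧ g = (x * c₁ * x⁻¹) * (y * c₂ * y⁻¹) := by
  obtain ⟨x, v, hv, u, hu, e⟩ := gauss_tor R hG C hconn hs₀ hg
  obtain ⟨vP, hvP, vL, hvL, rfl⟩ := exists_UNJ R (J := J) hv
  obtain ⟨uL, huL, uP, huP, rfl⟩ := (mem_U_iff R (J := J)).1 hu
  obtain ⟨c₁, c₂, hc, hp, hP⟩ := hb vL hvL uL huL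
  obtain ⟨a, ha, e1⟩ := exists_conj_of_fix R (LJ_le_normalizer_VNJ R J hp.mem₁) hp.fix₁ hvP
  have huP' : c₂ * uP * c₂⁻¹ ∈ VJ cs h X J :=
    (Subgroup.mem_normalizer_iff.1 (LJ_le_normalizer_VJ R J hp.mem₂) uP).1 huP
  obtain ⟨b, hb, e2⟩ := exists_conj_of_fix R (LJ_le_normalizer_VJ R J hp.mem₂) hp.fix₂ huP'
  have e3 : x * g * x⁻¹ = (a * c₁ * a⁻¹) * (b * c₂ * b⁻¹) := by
    rw [e, ← e1, ← e2]
    calc vP * vL * s₀ * (uL * uP) = vP * (vL * s₀ * uL) * uP := by group
      _ = vP * c₁ * (c₂ * uP * c₂⁻¹ * c₂) := by rw [hc]; group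
  refine ⟨c₁, c₂, x⁻¹ * a, x⁻¹ * b, hP, ?_⟩
  calc g = x⁻¹ * (x * g * x⁻¹) * x := by group
    _ = _ := by rw [e3]; group

end Cfsg.Agent.H932.TC6.Tor
end

-- part: H932/TC6/SLElt
section
/-!
Elements of prime order of `SL₂(F)` and their traces (S2464).
-/

set_option autoImplicit false
set_option linter.unusedSectionVars false

namespace Cfsg.Agent.H932.TC6.SLElt

open Matrix
open Cfsg.Agent.Ree.PSLTori (tr)
open scoped MatrixGroups

section

variable {F : Type*} [Field F]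

theorem det_one (M : SL(2, F)) : M.1 0 0 * M.1 1 1 - M.1 0 1 * M.1 1 0 = 1 := by
  have h := M.2
  rwa [Matrix.det_fin_two] at h

/-- Cayley–Hamilton -/
theorem sq_eq (M : SL(2, F)) : M.1 * M.1 = tr M • M.1 - 1 := by
  have h := det_one M
  ext i j
  fin_cases i <;> fin_cases j <;>
    simp only [Matrix.mul_apply, Fin.sum_univ_two, Matrix.sub_apply, Matrix.smul_apply, smul_eq_mul, tr,
      Matrix.one_apply, Fin.zero_eta, Fin.mk_one, Fin.isValue, if_true, zero_ne_one, one_ne_zero, if_false,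
      sub_zero]
  · linear_combination -h
  · ring
  · ring
  · linear_combination -h

theorem pow_lin {N : Matrix (Fin 2) (Fin 2) F} (hN : N * N = (2 : F) • N - 1) (n : ℕ) :
    N ^ n = (n : F) • N - ((n : F) - 1) • (1 : Matrix (Fin 2) (Fin 2) F) := by
  induction n with
  | zero =>
    rw [pow_zero, Nat.cast_zero, zero_smul, zero_sub, zero_sub, neg_smul, neg_neg, one_smul]
  | succ n ih =>
    rw [pow_succ, ih, sub_mul, smul_mul_assoc, smul_mul_assoc, one_mul, hN, Nat.cast_add, Nat.cast_one]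
    module

/-- an element of odd order prime to the characteristic, of trace `± 2`, is trivial -/
theorem tr_ne_four {M : SL(2, F)} {r : ℕ} (hr : Odd r) (hrF : (r : F) ≠ 0) (hM : M ^ r = 1) (hM1 : M ≠ 1) :
    tr M ^ 2 ≠ 4 := by
  intro hτ
  apply hM1
  obtain ⟨ε, hε, hε2⟩ : ∃ ε : F, tr M = 2 * ε ∧ ε ^ 2 = 1 := by
    by_cases h2 : (2 : F) = 0
    · refine ⟨1, ?_, one_pow 2⟩
      have h4 : (4 : F) = 0 := by
        have : (4 : F) = 2 * 2 := by norm_num
        rw [this, h2, zero_mul]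
      rw [h4] at hτ
      rw [pow_eq_zero_iff two_ne_zero |>.1 hτ, h2, zero_mul]
    · refine ⟨tr M / 2, by field_simp, ?_⟩
      rw [div_pow, hτ]
      have : (2 : F) ^ 2 = 4 := by norm_num
      rw [this]
      refine div_self ?_
      rw [← this]
      exact pow_ne_zero 2 h2
  have hε0 : ε ≠ 0 := by
    rintro rfl
    rw [zero_pow two_ne_zero] at hε2
    exact zero_ne_one hε2
  have h1 := sq_eq M
  obtain ⟨N, hN⟩ : ∃ N, N = ε • M.1 := ⟨_, rfl⟩
  have h2 : N * N = (2 : F) • N - 1 := by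
    rw [hN, smul_mul_smul_comm, h1, hε, smul_sub, smul_smul, smul_smul]
    have e1 : ε * ε * (2 * ε) = 2 * ε := by linear_combination (2 * ε) * hε2
    have e2 : ε * ε = 1 := by linear_combination hε2
    rw [e1, e2, one_smul]
  have h3 := pow_lin h2 r
  have hMr : M.1 ^ r = 1 := by
    have := congrArg (fun A : SL(2, F) => A.1) hM
    simpa only [_root_.Matrix.SpecialLinearGroup.coe_pow, _root_.Matrix.SpecialLinearGroup.coe_one] using this
  have h4 : N ^ r = ε ^ r • (1 : Matrix (Fin 2) (Fin 2) F) := by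
    rw [hN, smul_pow, hMr]
  rw [h4] at h3
  have a01 := congrFun (congrFun h3 0) 1
  have a10 := congrFun (congrFun h3 1) 0
  have a00 := congrFun (congrFun h3 0) 0
  have a11 := congrFun (congrFun h3 1) 1
  simp only [hN, Matrix.sub_apply, Matrix.smul_apply, smul_eq_mul, Matrix.one_apply, Fin.isValue, if_true,
    zero_ne_one, one_ne_zero, if_false, sub_zero, mul_zero, mul_one] at a01 a10 a00 a11
  have m01 : M.1 0 1 = 0 := by
    rcases mul_eq_zero.1 a01.symm with h | h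
    · exact absurd h hrF
    · exact (mul_eq_zero.1 h).resolve_left hε0
  have m10 : M.1 1 0 = 0 := by
    rcases mul_eq_zero.1 a10.symm with h | h
    · exact absurd h hrF
    · exact (mul_eq_zero.1 h).resolve_left hε0
  have m11 : M.1 0 0 = M.1 1 1 := by
    have h5 : (r : F) * (ε * (M.1 0 0 - M.1 1 1)) = 0 := by linear_combination a11 - a00
    have h6 := (mul_eq_zero.1 ((mul_eq_zero.1 h5).resolve_left hrF)).resolve_left hε0
    exact sub_eq_zero.1 h6
  have hd := det_one M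
  rw [m01, zero_mul, sub_zero, ← m11] at hd
  have hc : M.1 = M.1 0 0 • (1 : Matrix (Fin 2) (Fin 2) F) := by
    ext i j
    fin_cases i <;> fin_cases j
    · simp
    · simpa using m01
    · simpa using m10
    · simpa using m11.symm
  have hcr : (M.1 0 0) ^ r = 1 := by
    rw [hc, smul_pow, one_pow] at hMr
    have := congrFun (congrFun hMr 0) 0
    simpa only [_root_.Fin.isValue, _root_.Matrix.smul_apply, _root_.Matrix.one_apply_eq, _root_.smul_eq_mul, _root_.mul_one] using this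
  obtain ⟨k, rfl⟩ := hr
  have hc1 : M.1 0 0 = 1 := by
    rw [pow_succ, pow_mul, pow_two, hd, one_pow, one_mul] at hcr
    exact hcr
  apply Subtype.ext
  rw [hc, hc1, one_smul]
  rfl

theorem tr_sq_ne_one {M : SL(2, F)} {r : ℕ} (hr : Nat.Coprime 6 r) (hM : M ^ r = 1) (hM1 : M ≠ 1) :
    tr M ^ 2 ≠ 1 := by
  intro hτ
  apply hM1
  have h1 := sq_eq M
  have h3 : M.1 ^ 3 = -(tr M) • (1 : Matrix (Fin 2) (Fin 2) F) := by
    rw [pow_succ, pow_two, h1, sub_mul, smul_mul_assoc, h1, smul_sub, smul_smul]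
    have e1 : tr M * tr M = 1 := by rw [← pow_two, hτ]
    rw [e1, one_smul, one_mul]
    module
  have h6 : M ^ 6 = 1 := by
    apply Subtype.ext
    rw [Matrix.SpecialLinearGroup.coe_pow]
    have : M.1 ^ 6 = M.1 ^ 3 * M.1 ^ 3 := by rw [← pow_add]
    rw [this, h3, smul_mul_smul_comm, mul_one]
    have e1 : -tr M * -tr M = 1 := by linear_combination hτ
    rw [e1, one_smul]
    rfl
  have h7 := pow_gcd_eq_one.2 ⟨h6, hM⟩
  rwa [(hr : Nat.gcd 6 r = 1), pow_one] at h7

theorem tr_sq (M : SL(2, F)) : tr (M ^ 2) = tr M ^ 2 - 2 := by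
  have h := det_one M
  have h2 : (M ^ 2).1 = M.1 * M.1 := by rw [pow_two]; rfl
  show (M ^ 2).1 0 0 + (M ^ 2).1 1 1 = (M.1 0 0 + M.1 1 1) ^ 2 - 2
  rw [h2]
  simp only [Matrix.mul_apply, Fin.sum_univ_two]
  linear_combination (-2) * h

end

/-- an element of prime order `r ≥ 5`, `r ∣ q² - 1` -/
theorem exists_s {F : Type*} [Field F] [Fintype F] {r : ℕ} (hr : r.Prime) (h5 : 5 ≤ r)
    (hd : r ∣ Fintype.card F ^ 2 - 1) :
    ∃ s : SL(2, F), s ^ r = 1 ∧ tr s ^ 2 ≠ 4 ∧ tr (s ^ 2) ^ 2 ≠ 4 ∧ tr s ^ 2 ≠ tr (s ^ 2) ^ 2 := by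
  have := Fact.mk hr
  obtain ⟨s, hs⟩ := exists_prime_orderOf_dvd_card' (G := SL(2, F)) r (by
    rw [Cfsg.Agent.ClassicalGeometry.PSL2Basic.card_SL2]; exact hd.mul_left _)
  have hs1 : s ^ r = 1 := by rw [← hs]; exact pow_orderOf_eq_one s
  have hs0 : s ≠ 1 := by
    rintro rfl
    rw [orderOf_one] at hs
    omega
  have hodd : Odd r := hr.odd_of_ne_two (by omega)
  have hs2 : s ^ 2 ≠ 1 := by
    intro h
    have h3 := pow_gcd_eq_one.2 ⟨hs1, h⟩
    rw [(Nat.coprime_two_right.2 hodd : Nat.gcd r 2 = 1), pow_one] at h3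
    exact hs0 h3
  have hs3 : (s ^ 2) ^ r = 1 := by rw [← pow_mul, mul_comm, pow_mul, hs1, one_pow]
  have hrF : (r : F) ≠ 0 := by
    intro h0
    obtain ⟨k, hk⟩ := hd
    have hc : ((Fintype.card F : ℕ) : F) = 0 := FiniteField.cast_card_eq_zero F
    have hpos : 1 ≤ Fintype.card F ^ 2 := Nat.one_le_pow _ _ Fintype.card_pos
    have h1 : Fintype.card F ^ 2 = r * k + 1 := by omega
    have h2 := congrArg (Nat.cast (R := F)) h1
    rw [Nat.cast_pow, hc, Nat.cast_add, Nat.cast_mul, h0] at h2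
    norm_num only [_root_.MulZeroClass.zero_mul, _root_.zero_add, _root_.zero_ne_one] at h2
  have h6 : Nat.Coprime 6 r := by
    have e2 : Nat.Coprime 2 r := (Nat.coprime_primes Nat.prime_two hr).2 (by omega)
    have e3 : Nat.Coprime 3 r := (Nat.coprime_primes Nat.prime_three hr).2 (by omega)
    exact Nat.Coprime.mul_left e2 e3
  have g1 := tr_ne_four hodd hrF hs1 hs0
  have g2 := tr_ne_four hodd hrF hs3 hs2
  have g3 := tr_sq_ne_one h6 hs1 hs0
  refine ⟨s, hs1, g1, g2, ?_⟩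
  rw [tr_sq]
  intro h
  have h7 : (tr s ^ 2 - 4) * (tr s ^ 2 - 1) = 0 := by linear_combination -h
  rcases mul_eq_zero.1 h7 with h8 | h8
  · exact g1 (sub_eq_zero.1 h8)
  · exact g3 (sub_eq_zero.1 h8)

end Cfsg.Agent.H932.TC6.SLElt
end

-- part: H446/TC6/NumTd
section
/-!
# S2464, `³D₄(q)`: the numbers (helper446)

* `exists_r2` : `q² - 1` has a prime divisor `≥ 5` unless `q ∈ {2, 3, 5, 7, 17}`;
* `exists_r1` : `q² + q + 1` has a prime divisor `≥ 5`;
* `ne_of_dvd` : such a prime does not divide `q² - 1`.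
-/

set_option autoImplicit false

namespace Cfsg.Agent.H446.TC6

/-- `3 ^ b + 1 = 2 ^ a` -/
theorem three_pow_add_one {a b : ℕ} (h : 3 ^ b + 1 = 2 ^ a) : 2 ^ a = 2 ∨ 2 ^ a = 4 := by
  have h1 : 3 ^ b % 8 = 1 ∨ 3 ^ b % 8 = 3 := by
    induction b generalizing a with
    | zero => left; norm_num
    | succ b _ =>
      have key : ∀ c : ℕ, 3 ^ c % 8 = 1 ∨ 3 ^ c % 8 = 3 := by
        intro c
        induction c with
        | zero => left; norm_num
        | succ c ih =>
          rw [pow_succ, Nat.mul_mod]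
          rcases ih with ih | ih <;> rw [ih] <;> norm_num
      exact key _
  have h2 : a ≤ 2 := by
    by_contra hcon
    push Not at hcon
    have h3 : 2 ^ 3 ∣ 2 ^ a := pow_dvd_pow 2 hcon
    omega
  have h0 : 0 < 3 ^ b := by positivity
  interval_cases a
  · omega
  · left; norm_num
  · right; norm_num

/-- `2 ^ a + 1 = 3 ^ b` -/
theorem two_pow_add_one {a b : ℕ} (h : 2 ^ a + 1 = 3 ^ b) : 2 ^ a = 2 ∨ 2 ^ a = 8 := by
  have key : ∀ c : ℕ, 3 ^ (2 * c) % 8 = 1 ∧ 3 ^ (2 * c + 1) % 8 = 3 := by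
    intro c
    induction c with
    | zero => constructor <;> norm_num
    | succ c ih =>
      rw [show 2 * (c + 1) = 2 * c + 2 by ring, show 2 * c + 2 + 1 = 2 * c + 1 + 2 by ring, pow_add 3 (2 * c),
        pow_add 3 (2 * c + 1), Nat.mul_mod, Nat.mul_mod (3 ^ (2 * c + 1)), ih.1, ih.2]
      norm_num
  rcases Nat.lt_or_ge a 3 with ha | ha
  · interval_cases a
    · -- `2 = 3 ^ b`
      exfalso
      rcases Nat.eq_zero_or_pos b with hb | hb
      · subst hb; norm_num at h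
      · have := dvd_pow_self 3 hb.ne'
        rw [← h] at this
        omega
    · left; norm_num
    · exfalso
      rcases Nat.eq_zero_or_pos b with hb | hb
      · subst hb; norm_num at h
      · have := dvd_pow_self 3 hb.ne'
        rw [← h] at this
        omega
  · right
    have h8 : 2 ^ 3 ∣ 2 ^ a := pow_dvd_pow 2 ha
    rcases Nat.even_or_odd' b with ⟨c, hc | hc⟩
    · -- `(3 ^ c - 1) (3 ^ c + 1) = 2 ^ a`
      have hc1 : 1 ≤ 3 ^ c := Nat.one_le_pow _ _ (by norm_num)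
      have h1 : (3 ^ c - 1) * (3 ^ c + 1) = 2 ^ a := by
        have h2 : 3 ^ b = 3 ^ c * 3 ^ c := by rw [hc, two_mul, pow_add]
        obtain ⟨t, ht⟩ := Nat.exists_eq_add_of_le hc1
        rw [ht] at h2 ⊢
        rw [show 1 + t - 1 = t by omega]
        have h3 : 2 ^ a + 1 = (1 + t) * (1 + t) := by rw [h, h2]
        linarith only [h, h2]
      obtain ⟨u, -, hu⟩ := (Nat.dvd_prime_pow Nat.prime_two).1 (Dvd.intro_left _ h1 : 3 ^ c + 1 ∣ 2 ^ a)
      rcases three_pow_add_one hu with h2 | h2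
      · exfalso
        rw [← hu] at h2
        have h3 : 3 ^ c = 1 := by omega
        rw [h3] at h1
        have : 0 < 2 ^ a := by positivity
        omega
      · rw [← hu] at h2
        have h3 : 3 ^ c = 3 := by omega
        rw [← h1, h3]
    · exfalso
      have := (key c).2
      rw [← hc, ← h] at this
      omega

/-- `q² - 1` has a prime divisor `≥ 5` -/
theorem exists_r2' {q : ℕ} (hq : 2 ≤ q) (h2 : q ≠ 2) (h3 : q ≠ 3) (h5 : q ≠ 5) (h7 : q ≠ 7)
    (h17 : q ≠ 17) : ∃ r, r.Prime ∧ 5 ≤ r ∧ r ∣ q ^ 2 - 1 := by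
  by_contra hcon
  push Not at hcon
  have hfac : q ^ 2 - 1 = (q - 1) * (q + 1) := by
    obtain ⟨t, rfl⟩ := Nat.exists_eq_add_of_le (show 1 ≤ q by omega)
    rw [show 1 + t - 1 = t by omega, show (1 + t) ^ 2 = t * (1 + t + 1) + 1 by ring, Nat.add_sub_cancel]
  have key : ∀ r : ℕ, r.Prime → r ∣ q ^ 2 - 1 → r = 2 ∨ r = 3 := by
    intro r hr hd
    have h1 : r < 5 := by
      by_contra h
      push Not at h
      exact hcon r hr h hd
    have h2 := hr.two_le
    interval_cases r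
    · exact Or.inl rfl
    · exact Or.inr rfl
    · exact absurd hr (by norm_num)
  rcases Nat.even_or_odd' q with ⟨m, hm | hm⟩
  · -- `q` even: `3` divides `q - 1` and `q + 1`
    have h1 : 3 ∣ q - 1 := by
      obtain ⟨r, hr, hd⟩ := Nat.exists_prime_and_dvd (show q - 1 ≠ 1 by omega)
      rcases key r hr (hfac ▸ Dvd.dvd.mul_right hd _) with rfl | rfl
      · omega
      · exact hd
    have h4 : 3 ∣ q + 1 := by
      obtain ⟨r, hr, hd⟩ := Nat.exists_prime_and_dvd (show q + 1 ≠ 1 by omega)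
      rcases key r hr (hfac ▸ Dvd.dvd.mul_left hd _) with rfl | rfl
      · omega
      · exact hd
    omega
  · have hm1 : 1 ≤ m := by omega
    have hmm : q ^ 2 - 1 = 4 * (m * (m + 1)) := by
      rw [hfac, hm, Nat.add_sub_cancel]
      ring
    have k1 : ∀ r : ℕ, r.Prime → r ∣ m → r = 2 ∨ r = 3 := fun r hr hd =>
      key r hr (by rw [hmm]; exact Dvd.dvd.mul_left (Dvd.dvd.mul_right hd _) _)
    have k2 : ∀ r : ℕ, r.Prime → r ∣ m + 1 → r = 2 ∨ r = 3 := fun r hr hd =>
      key r hr (by rw [hmm]; exact Dvd.dvd.mul_left (Dvd.dvd.mul_left hd _) _)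
    rcases Nat.even_or_odd' m with ⟨n, hn | hn⟩
    · -- `m` even: `m + 1 = 3 ^ b`, `m = 2 ^ a`
      have e1 : m + 1 = 3 ^ (m + 1).primeFactorsList.length :=
        Nat.eq_prime_pow_of_unique_prime_dvd (by omega) fun {d} hd hdd => by
          rcases k2 d hd hdd with rfl | rfl
          · omega
          · rfl
      have h31 : 3 ∣ m + 1 := by
        obtain ⟨r, hr, hd⟩ := Nat.exists_prime_and_dvd (show m + 1 ≠ 1 by omega)
        rcases k2 r hr hd with rfl | rfl
        · omega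
        · exact hd
      have e2 : m = 2 ^ m.primeFactorsList.length :=
        Nat.eq_prime_pow_of_unique_prime_dvd (by omega) fun {d} hd hdd => by
          rcases k1 d hd hdd with rfl | rfl
          · rfl
          · omega
      have h1 := two_pow_add_one (a := m.primeFactorsList.length) (b := (m + 1).primeFactorsList.length)
        (by rw [← e2, ← e1])
      rw [← e2] at h1
      (clear * - h5 h17 hm h1; omega)
    · have e1 : m = 3 ^ m.primeFactorsList.length :=
        Nat.eq_prime_pow_of_unique_prime_dvd (by omega) fun {d} hd hdd => by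
          rcases k1 d hd hdd with rfl | rfl
          · omega
          · rfl
      have h31 : 3 ∣ m := by
        obtain ⟨r, hr, hd⟩ := Nat.exists_prime_and_dvd (show m ≠ 1 by (clear * - h3 hm; omega))
        rcases k1 r hr hd with rfl | rfl
        · omega
        · exact hd
      have e2 : m + 1 = 2 ^ (m + 1).primeFactorsList.length :=
        Nat.eq_prime_pow_of_unique_prime_dvd (by omega) fun {d} hd hdd => by
          rcases k2 d hd hdd with rfl | rfl
          · rfl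
          · omega
      have h1 := three_pow_add_one (a := (m + 1).primeFactorsList.length) (b := m.primeFactorsList.length)
        (by rw [← e2, ← e1])
      rw [← e2] at h1
      (clear * - h7 hm h31 h1; omega)

theorem exists_r2 {q : ℕ} (hq : IsPrimePow q) (h2 : q ≠ 2) (h3 : q ≠ 3) (h5 : q ≠ 5) (h7 : q ≠ 7) (h17 : q ≠ 17) :
    ∃ r, r.Prime ∧ 5 ≤ r ∧ r ∣ q ^ 2 - 1 := exists_r2' hq.two_le h2 h3 h5 h7 h17

/-- `q² + q + 1` has a prime divisor `≥ 5` -/
theorem exists_r1 {q : ℕ} (hq : 2 ≤ q) : ∃ r, r.Prime ∧ 5 ≤ r ∧ r ∣ q ^ 2 + q + 1 := by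
  by_contra hcon
  push Not at hcon
  have hodd : (q ^ 2 + q + 1) % 2 = 1 := by
    rcases Nat.even_or_odd' q with ⟨m, rfl | rfl⟩
    · ring_nf; omega
    · ring_nf; omega
  have h9 : ¬ 9 ∣ q ^ 2 + q + 1 := by
    intro h
    have h1 : q % 9 < 9 := Nat.mod_lt _ (by norm_num)
    have h2 : (q ^ 2 + q + 1) % 9 = ((q % 9) ^ 2 + q % 9 + 1) % 9 := by
      simp only [Nat.add_mod, Nat.pow_mod, _root_.dvd_refl, _root_.Nat.mod_mod_of_dvd, _root_.Nat.one_mod]
    have h3 : (q ^ 2 + q + 1) % 9 = 0 := Nat.mod_eq_zero_of_dvd h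
    rw [h2] at h3
    interval_cases q % 9 <;> (clear * - h h2; omega)
  have key : ∀ r : ℕ, r.Prime → r ∣ q ^ 2 + q + 1 → r = 3 := by
    intro r hr hd
    have h1 : r < 5 := by
      by_contra h
      push Not at h
      exact hcon r hr h hd
    have h2 := hr.two_le
    interval_cases r
    · omega
    · rfl
    · exact absurd hr (by norm_num)
  have e := Nat.eq_prime_pow_of_unique_prime_dvd (n := q ^ 2 + q + 1) (p := 3) (by omega) fun {d} hd hdd => key d hd hdd
  have hl : (q ^ 2 + q + 1).primeFactorsList.length ≤ 1 := by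
    by_contra h
    push Not at h
    have h1 : 3 ^ 2 ∣ 3 ^ (q ^ 2 + q + 1).primeFactorsList.length := pow_dvd_pow 3 h
    rw [← e] at h1
    exact h9 h1
  have h1 : q ^ 2 + q + 1 ≤ 3 ^ 1 := by
    calc q ^ 2 + q + 1 = 3 ^ (q ^ 2 + q + 1).primeFactorsList.length := e
      _ ≤ 3 ^ 1 := Nat.pow_le_pow_right (by norm_num) hl
  nlinarith only [hq, h1]

/-- a prime divisor `≥ 5` of `q² + q + 1` does not divide `q² - 1` -/
theorem ne_of_dvd {q r : ℕ} (hq : 2 ≤ q) (hr : r.Prime) (h5 : 5 ≤ r) (h1 : r ∣ q ^ 2 + q + 1) : ¬ r ∣ q ^ 2 - 1 := by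
  intro h2
  have h4 : 1 ≤ q ^ 2 := Nat.one_le_pow _ _ (by omega)
  have h3 : r ∣ q + 2 := by
    have := Nat.dvd_sub h1 h2
    rwa [show q ^ 2 + q + 1 - (q ^ 2 - 1) = q + 2 by omega] at this
  have h6 : r ∣ 3 := by
    have h7 : (q - 1) * (q + 2) + 3 = q ^ 2 + q + 1 := by
      obtain ⟨t, rfl⟩ := Nat.exists_eq_add_of_le (show 1 ≤ q by omega)
      rw [show 1 + t - 1 = t by omega]
      ring
    rw [← h7] at h1
    exact (Nat.dvd_add_right (Dvd.dvd.mul_left h3 _)).1 h1
  have := Nat.le_of_dvd (by norm_num) h6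
  omega

end Cfsg.Agent.H446.TC6
end

-- part: H932/TC6/TwD4
section
/-!
`³D₄(q)`, `q ∉ {2, 3, 5, 7, 17}`: every element `≠ 1` is a product of a conjugate of `x` and a conjugate of `y`, of orders
prime to `6` (S2464).
-/

set_option autoImplicit false
set_option linter.unusedSectionVars false

namespace Cfsg.Agent.H932.TC6.TwD4

open CoxeterSystem Cfsg.Agent.ChevalleyStructure.CoxeterGeom Cfsg.Agent.Tits.Roots Cfsg.Agent.Tits.Core
  Cfsg.Agent.Nodes Cfsg.Agent.Nodes.Reps Cfsg.Agent.Nodes.BNOf Cfsg.Agent.Nodes.RGDLib Cfsg.Agent.Nodes.Bruhat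
  Cfsg.Agent.Nodes.OppDec Cfsg.Agent.Nodes.LeviDec Cfsg.Agent.Nodes.StabComb Cfsg.Agent.Nodes.KindChev
  Cfsg.Agent.Nodes.ChevCls
  Cfsg.Agent.OddHalf.NI.ModelChev
  Cfsg.Agent.H162.GaussDec Cfsg.Agent.H162.GaussLevi
  Cfsg.Agent.H928.Ore.Frame Cfsg.Agent.H928.Ore.Fix
open Cfsg.Lie Cfsg.Agent.ChevalleyStructure Cfsg.Agent.ChevalleyStructure.Elts
  Cfsg.Agent.ChevalleyStructure.NPerm
  Cfsg.Agent.ChevalleyStructure.CoxeterGeomTypes Cfsg.Agent.Nodes.RGDChev Cfsg.Agent.KFacts.RgdChevCoord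
open Cfsg.Agent.Nodes.RGDTwGen Cfsg.Agent.Nodes.RGDFold Cfsg.Agent.Nodes.RGDTwD4
open Cfsg.Agent.Nodes.RGDFoldSL (Fx mem_Fx)
open Cfsg.Agent.ChevalleyStructure.TwistedU Cfsg.Agent.ChevalleyStructure.TwistedFix
open Cfsg.Agent.ChevalleyStructure.SL2Hom (up lo mem_closure_SL2)
open Cfsg.Agent.Nodes.RGDTwNode.D4 (nodeOK eps_one rest)
open Cfsg.Agent.Ree.PSLTori (tr)
open Cfsg.Agent.OddHalf.NI
open Cfsg.Agent.H874.War.TwD4 Cfsg.Agent.H932.TC6.BaseD4 Cfsg.Agent.H932.TC6.NFz Cfsg.Agent.H932.TC6.Tor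
open scoped MatrixGroups

universe u

/-- the pair lemma -/
def PairSL (F : Type u) [Field F] : Prop := ∀ (X : SL(2, F)), (X.1 0 1 ≠ 0 ∨ X.1 1 0 ≠ 0 ∨ X.1 0 0 ≠ X.1 1 1) →
  ∀ a b : F, a ^ 2 ≠ b ^ 2 → ∃ A B : SL(2, F), A * B = X ∧ tr A = a ∧ tr B = b

section

variable {I W Y : Type*} [Fintype I] [DecidableEq I] [Group W] [Group Y] {M : CoxeterMatrix I}
  {cs : CoxeterSystem M W} {A : I → I → ℤ} {h : IsCartan M A} {X : (I → ℤ) → Subgroup Y}

theorem UNJ_singleton (i : I) : UNJ cs h X {i} = X (-sr i) := by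
  have h1 : {x | -x ∈ PosJ cs h {i}} = {-sr i} := by
    ext x
    constructor
    · rintro ⟨h1, h2, h3⟩
      have h4 : -x = sr i := h1.eq_sr h2 i fun k hk => h3 k hk
      rw [Set.mem_singleton_iff, ← h4, neg_neg]
    · intro hx
      rw [Set.mem_singleton_iff] at hx
      show -x ∈ PosJ cs h {i}
      rw [hx, neg_neg]
      exact sr_mem_PosJ rfl
  unfold UNJ
  rw [h1]
  apply le_antisymm
  · refine RGD.Sup_le fun z hz => ?_
    rw [Set.mem_singleton_iff.1 hz]
  · exact RGD.le_Sup rfl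

end

section

variable {K : Type u} [Field K] [Fintype K] {φ : K →+* K} {q : ℕ} (hK : Fintype.card K = q ^ 3)
  (hφ : ∀ x, φ x = x ^ q)

theorem zz_mul_inv (w : (Fx φ ((rest 1).length + 1))ˣ) : zz hK hφ w * zz hK hφ w⁻¹ = 1 := by
  have h4 : ∀ {F : Type u} [Field F], (Mult.dg (1 : Fˣ) : SL(2, F)) = 1 := map_one Mult.dgHom
  have h5 : ∀ {F : Type u} [Field F] (x : Fˣ), (Mult.dg x : SL(2, F)) * Mult.dg x⁻¹ = 1 := fun x => by
    have := map_mul Mult.dgHom x x⁻¹
    rw [mul_inv_cancel, map_one] at this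
    exact this.symm
  unfold zz tt
  rw [h4, map_one, one_mul, one_mul, ← map_mul, h5, map_one]

theorem P0_mem_LJ {W : Type*} [Group W] (cs : CoxeterSystem CoxeterMatrix.G₂ W) (T' : Subgroup ↥(twistedD4 K q))
    (g : SL(2, Fx φ ((rest 0).length + 1))) : P hK hφ 0 g ∈ LJ cs RGDTwD4.isCartan T' (X φ q) {0} := by
  have C := coordP hK hφ
  have : Subgroup.closure (Set.range (up (F := Fx φ ((rest 0).length + 1))) ∪
      Set.range (lo (F := Fx φ ((rest 0).length + 1)))) ≤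
      (LJ cs RGDTwD4.isCartan T' (X φ q) {0}).comap (P hK hφ 0) := by
    rw [Subgroup.closure_le]
    have hs : ∀ k : Fin 2, k ∉ ({0} : Set (Fin 2)) → (sr (0 : Fin 2)) k = 0 := fun k hk => sr_ne hk
    rintro _ (⟨a, rfl⟩ | ⟨a, rfl⟩)
    · exact X_le_LJ (x := sr 0) ⟨isRoot_sr _ _ 0, hs⟩ (C.mem_up 0 a)
    · exact X_le_LJ (x := -sr 0) ⟨(isRoot_sr _ _ 0).neg, fun k hk => by
        rw [Pi.neg_apply, hs k hk, neg_zero]⟩ (C.mem_lo 0 a)
  exact this (mem_closure_SL2 g)

include hK in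
theorem card_F0 (hφ : ∀ x, φ x = x ^ q) (hq1 : 1 < q) : Nat.card (Fx φ ((rest 0).length + 1)) = q := by
  rw [← FixedCard.card_fixed hq1 hK]
  refine Nat.card_congr (Equiv.subtypeEquivRight fun t => ?_)
  rw [mem_Fx]
  show φ t = t ↔ _
  rw [hφ]

/-- an element of norm one and of order `r` -/
theorem exists_w (hφ : ∀ x, φ x = x ^ q) (hK : Fintype.card K = q ^ 3) {r : ℕ} (hr : r.Prime)
    (hd : r ∣ q ^ 2 + q + 1) : ∃ v : K, v ^ r = 1 ∧ v ≠ 1 ∧ v * (φ v * φ (φ v)) = 1 := by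
  have := Fact.mk hr
  have h2 : r ∣ Nat.card Kˣ := by
    rw [Nat.card_units, Nat.card_eq_fintype_card, hK]
    obtain ⟨k, hk⟩ := hd
    rcases Nat.eq_zero_or_pos q with h0 | h0
    · rw [h0]; simp
    obtain ⟨n, rfl⟩ : ∃ n, q = n + 1 := ⟨q - 1, by omega⟩
    have e : (n + 1) ^ 3 = n * ((n + 1) ^ 2 + (n + 1) + 1) + 1 := by ring
    rw [e, Nat.add_sub_cancel, hk]
    exact (dvd_mul_right r k).mul_left n
  obtain ⟨w, hw⟩ := exists_prime_orderOf_dvd_card' (G := Kˣ) r h2
  have h3 : w ^ r = 1 := by rw [← hw]; exact pow_orderOf_eq_one w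
  have h4 : w ≠ 1 := by
    rintro rfl
    rw [orderOf_one] at hw
    exact hr.one_lt.ne hw
  refine ⟨w, ?_, ?_, ?_⟩
  · rw [← Units.val_pow_eq_pow_val, h3, Units.val_one]
  · intro h
    exact h4 (Units.ext h)
  · obtain ⟨k, hk⟩ := hd
    rw [hφ, hφ, ← pow_mul]
    have e : (w : K) * ((w : K) ^ q * (w : K) ^ (q * q)) = (w : K) ^ (q ^ 2 + q + 1) := by ring
    rw [e, hk, pow_mul, ← Units.val_pow_eq_pow_val, h3, Units.val_one, one_pow]

end

theorem exists_mu {F : Type*} [Field F] [Finite F] (h : 4 ≤ Nat.card F) : ∃ m : Fˣ, (m : F) ≠ ((m⁻¹ : Fˣ) : F) := by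
  have : Fintype F := Fintype.ofFinite F
  obtain ⟨z, hz⟩ := IsCyclic.exists_ofOrder_eq_natCard (α := Fˣ)
  refine ⟨z, fun h2 => ?_⟩
  have h3 : z ^ 2 = 1 := by
    have h4 : z = z⁻¹ := Units.ext h2
    rw [pow_two]
    nth_rw 2 [h4]
    exact mul_inv_cancel z
  have h5 := Nat.le_of_dvd (by norm_num) (orderOf_dvd_of_pow_eq_one h3)
  rw [hz, Nat.card_units] at h5
  omega

/-- **The generic case.** -/
theorem main {K : Type u} [Field K] [Fintype K] {q : ℕ} (hq : IsPrimePow q) (hK : Fintype.card K = q ^ 3)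
    (hP : ∀ (F : Type u) [Field F] [Finite F], PairSL F)
    (h2 : q ≠ 2) (h3 : q ≠ 3) (h5 : q ≠ 5) (h7 : q ≠ 7) (h17 : q ≠ 17) :
    ∃ x y : ↥(twistedD4 K q), Nat.Coprime (orderOf x) 6 ∧ Nat.Coprime (orderOf y) 6 ∧
      ∀ g : ↥(twistedD4 K q), g ≠ 1 → ∃ u v, g = (u * x * u⁻¹) * (v * y * v⁻¹) := by
  obtain ⟨φ, hφ⟩ := D4Fixed.exists_frob hq hK
  obtain ⟨p, hpc⟩ := CharP.exists K
  have : Fact p.Prime := ⟨(CharP.char_is_prime_or_zero K p).resolve_right (CharP.char_ne_zero_of_finite K p)⟩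
  have := finite_tw K q
  have R := RGDTwD4.rgd CoxeterMatrix.G₂.toCoxeterSystem hK hφ p
  have : Finite CoxeterMatrix.G₂.Group := Cfsg.Agent.Nodes.RGDFold.finite_W (hp := RGDTwD4.hp)
    CoxeterMatrix.G₂.toCoxeterSystem RGDTwD4.isCartan RGDTwD4.foldData
  have hS := Cfsg.Agent.S1071.result hq hK
  have := hS.1
  obtain ⟨r₁, hr₁, h51, hd1⟩ := Cfsg.Agent.H446.TC6.exists_r1 hq.two_le
  obtain ⟨r₂, hr₂, h52, hd2⟩ := Cfsg.Agent.H446.TC6.exists_r2 hq h2 h3 h5 h7 h17
  have hne : r₁ ≠ r₂ := by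
    rintro rfl
    exact Cfsg.Agent.H446.TC6.ne_of_dvd hq.two_le hr₁ h51 hd1 hd2
  have hcop : Nat.Coprime r₁ r₂ := (Nat.coprime_primes hr₁ hr₂).2 hne
  have hodd : Odd r₁ := hr₁.odd_of_ne_two (by omega)
  -- the elements
  have hF : Nat.card (Fx φ ((rest 0).length + 1)) = q := card_F0 hK hφ hq.one_lt
  let _ : Fintype (Fx φ ((rest 0).length + 1)) := Fintype.ofFinite _
  obtain ⟨s, hs1, ht1, ht2, ht3⟩ := Cfsg.Agent.H932.TC6.SLElt.exists_s (F := Fx φ ((rest 0).length + 1)) hr₂ h52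
    (by rw [← Nat.card_eq_fintype_card, hF]; exact hd2)
  obtain ⟨v, hv, hv1, hn⟩ := exists_w hφ hK hr₁ hd1
  have hv0 : v ≠ 0 := by
    rintro rfl
    rw [zero_pow hr₁.ne_zero] at hv
    exact zero_ne_one hv
  obtain ⟨w, hw⟩ : ∃ w : (Fx φ ((rest 1).length + 1))ˣ, ((w : Fx φ ((rest 1).length + 1)) : K) = v := by
    refine ⟨Units.mk0 ⟨v, ?_⟩ ?_, rfl⟩
    · refine mem_Fx.2 ?_
      show φ (φ (φ v)) = v
      rw [hφ, hφ, hφ, ← pow_mul, ← pow_mul]
      have : q * (q * q) = Fintype.card K := by rw [hK]; ring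
      rw [this, FiniteField.pow_card]
    · intro h0
      exact hv0 (congrArg Subtype.val h0)
  have hw' : (((w⁻¹ : (Fx φ ((rest 1).length + 1))ˣ) : Fx φ ((rest 1).length + 1)) : K) = v⁻¹ := by
    rw [← hw, Units.val_inv_eq_inv_val]
    rfl
  have hv' : (v⁻¹) ^ r₁ = 1 := by rw [inv_pow, hv, inv_one]
  have hv1' : v⁻¹ ≠ 1 := fun h => hv1 (inv_eq_one.1 h)
  have hn' : v⁻¹ * (φ v⁻¹ * φ (φ v⁻¹)) = 1 := by
    rw [map_inv₀, map_inv₀, ← mul_inv, ← mul_inv, hn, inv_one]
  have hwr : w ^ r₁ = 1 := by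
    apply Units.ext
    apply Subtype.ext
    rw [Units.val_pow_eq_pow_val, SubmonoidClass.coe_pow, hw, hv]
    rfl
  have hs2 : (s ^ 2) ^ r₂ = 1 := by rw [← pow_mul, mul_comm, pow_mul, hs1, one_pow]
  obtain ⟨x, hx⟩ : ∃ x, x = zz hK hφ w * P hK hφ 0 s := ⟨_, rfl⟩
  obtain ⟨y, hy⟩ : ∃ y, y = zz hK hφ w⁻¹ * P hK hφ 0 (s ^ 2) := ⟨_, rfl⟩
  have hcz : ∀ g, Commute (zz hK hφ w) (P hK hφ 0 g) := commute_zz hK hφ hv0 hw hn
  have hcz' : ∀ g, Commute (zz hK hφ w⁻¹) (P hK hφ 0 g) := commute_zz hK hφ (inv_ne_zero hv0) hw' hn'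
  -- the orders
  have h6 : Nat.Coprime (r₁ * r₂) 6 := by
    have e1 : Nat.Coprime r₁ 6 := Nat.Coprime.mul_right ((Nat.coprime_primes hr₁ Nat.prime_two).2 (by omega))
      ((Nat.coprime_primes hr₁ Nat.prime_three).2 (by omega))
    have e2 : Nat.Coprime r₂ 6 := Nat.Coprime.mul_right ((Nat.coprime_primes hr₂ Nat.prime_two).2 (by omega))
      ((Nat.coprime_primes hr₂ Nat.prime_three).2 (by omega))
    exact Nat.Coprime.mul_left e1 e2
  have hox : x ^ (r₁ * r₂) = 1 := by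
    rw [hx, (hcz s).mul_pow, zz_pow, ← map_pow, pow_mul, hwr, one_pow, zz_one, one_mul, mul_comm r₁, pow_mul, hs1,
      one_pow, map_one]
  have hoy : y ^ (r₁ * r₂) = 1 := by
    rw [hy, (hcz' (s ^ 2)).mul_pow, zz_pow, ← map_pow, pow_mul, inv_pow, hwr, inv_one, one_pow, zz_one, one_mul,
      mul_comm r₁, pow_mul, hs2, one_pow, map_one]
  refine ⟨x, y, Nat.Coprime.of_dvd_left (orderOf_dvd_of_pow_eq_one hox) h6,
    Nat.Coprime.of_dvd_left (orderOf_dvd_of_pow_eq_one hoy) h6, fun g hg => ?_⟩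
  obtain ⟨m, hm⟩ := exists_mu (F := Fx φ ((rest 0).length + 1)) (by
    rw [hF]
    have := hq.two_le
    omega)
  have hT : P hK hφ 0 (Mult.dg m) ∈ T K q :=
    ModelTw.Phi_dg_mem (foldGrp hφ (D4Fixed.twisted_le_fix hK hφ)) nodeOK (H874.War.TwD4.hf hφ) 0 m
  have hzT : ∀ w, zz hK hφ w ∈ T K q := fun w => tt_mem hK hφ 1 w
  have hb : ∀ l ∈ UNJ CoxeterMatrix.G₂.toCoxeterSystem RGDTwD4.isCartan (X φ q) {0},
      ∀ u ∈ UJ CoxeterMatrix.G₂.toCoxeterSystem RGDTwD4.isCartan (X φ q) {0},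
      ∃ c₁ c₂, l * P hK hφ 0 (Mult.dg m) * u = c₁ * c₂ ∧
        LP CoxeterMatrix.G₂.toCoxeterSystem RGDTwD4.isCartan (T K q) (X φ q) {0} c₁ c₂ ∧
        ((∃ a, c₁ = a * x * a⁻¹) ∧ ∃ b, c₂ = b * y * b⁻¹) := by
    intro l hl u hu
    rw [UNJ_singleton] at hl
    rw [KFacts.RgdDiag.UJ_singleton] at hu
    obtain ⟨c, rfl⟩ := (coordP hK hφ).exists_lo hl
    obtain ⟨d, rfl⟩ := (coordP hK hφ).exists_up hu
    obtain ⟨A, B, hAB, hA, hB⟩ := hP (Fx φ ((rest 0).length + 1)) (Mult.lo c * Mult.dg m * Mult.up d) (by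
      by_contra hcon
      push Not at hcon
      obtain ⟨e1, e2, e3⟩ := hcon
      have e4 : (Mult.lo c * Mult.dg m * Mult.up d : SL(2, Fx φ ((rest 0).length + 1))).1 =
          !![(m : Fx φ ((rest 0).length + 1)), m * d; c * m, c * m * d + ((m⁻¹ : (Fx φ ((rest 0).length + 1))ˣ) :
            Fx φ ((rest 0).length + 1))] := by
        show (!![1, 0; c, 1] * !![(m : Fx φ ((rest 0).length + 1)), 0; 0, ((m⁻¹ : (Fx φ ((rest 0).length + 1))ˣ) :
            Fx φ ((rest 0).length + 1))] * !![1, d; 0, 1] : Matrix (Fin 2) (Fin 2) (Fx φ ((rest 0).length + 1))) = _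
        ext i j
        (revert i j; simp only [Matrix.mul_apply, Fin.sum_univ_two, _root_.Fin.forall_fin_succ, Fin.isValue, _root_.Units.val_inv_eq_inv_val, _root_.Matrix.cons_mul, _root_.Nat.succ_eq_add_one, Nat.reduceAdd, _root_.Matrix.vecMul_cons, _root_.Matrix.head_cons, _root_.one_smul, _root_.Matrix.tail_cons, _root_.zero_smul, _root_.Matrix.empty_vecMul, _root_.add_zero, _root_.Matrix.smul_cons, _root_.smul_eq_mul, _root_.MulZeroClass.mul_zero, _root_.Matrix.smul_empty, _root_.Matrix.add_cons, _root_.zero_add, _root_.Matrix.empty_add_empty, _root_.Matrix.empty_mul, _root_.Equiv.symm_apply_apply, _root_.Matrix.of_apply, _root_.Matrix.cons_val', _root_.Matrix.cons_val_fin_one, _root_.Matrix.cons_val_zero, _root_.Matrix.cons_val_one, _root_.Subfield.coe_add, _root_.Subfield.coe_mul, _root_.OneMemClass.coe_one, _root_.mul_one, _root_.ZeroMemClass.coe_zero, _root_.Matrix.cons_val_succ, _root_.forall_const, _root_.true_and, _root_.Subfield.coe_inv,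 _root_.implies_true, _root_.and_self])
      rw [e4] at e1 e2 e3
      simp only [Matrix.of_apply, Matrix.cons_val', Matrix.cons_val_zero, Matrix.cons_val_one,
        Matrix.cons_val_fin_one] at e1 e2 e3
      rw [e2, zero_mul, zero_add] at e3
      exact hm e3) (tr s) (tr (s ^ 2)) ht3
    have hcA : IsConj s A := Cfsg.Agent.H118.O8S.exists_conj _ _ ht1 hA.symm
    have hcB : IsConj (s ^ 2) B := Cfsg.Agent.H118.O8S.exists_conj _ _ ht2 hB.symm
    obtain ⟨k₁, hk₁⟩ := isConj_iff.1 hcA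
    obtain ⟨k₂, hk₂⟩ := isConj_iff.1 hcB
    have hA1 : A ^ r₂ = 1 := by rw [← hk₁, conj_pow, hs1, mul_one, mul_inv_cancel]
    have hB1 : B ^ r₂ = 1 := by rw [← hk₂, conj_pow, hs2, mul_one, mul_inv_cancel]
    have n1 := nf hK hφ CoxeterMatrix.G₂.toCoxeterSystem hw hv1 hn hv hodd hcop hA1 (by rw [hA]; exact ht1)
    have n2 := nf hK hφ CoxeterMatrix.G₂.toCoxeterSystem hw' hv1' hn' hv' hodd hcop hB1 (by rw [hB]; exact ht2)
    refine ⟨zz hK hφ w * P hK hφ 0 A, zz hK hφ w⁻¹ * P hK hφ 0 B, ?_, ⟨?_, ?_, n1.1, n2.2⟩, ⟨P hK hφ 0 k₁, ?_⟩,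
      ⟨P hK hφ 0 k₂, ?_⟩⟩
    · have e1 : zz hK hφ w * P hK hφ 0 A * (zz hK hφ w⁻¹ * P hK hφ 0 B) =
          zz hK hφ w * zz hK hφ w⁻¹ * (P hK hφ 0 A * P hK hφ 0 B) := by
        rw [mul_assoc, ← mul_assoc (P hK hφ 0 A), ← (hcz' A).eq]
        simp only [mul_assoc]
      rw [e1, zz_mul_inv, one_mul, ← map_mul (P hK hφ 0) A B, hAB, map_mul, map_mul]
    · exact mul_mem (T_le_LJ (hzT w)) (P0_mem_LJ hK hφ _ _ _)
    · exact mul_mem (T_le_LJ (hzT w⁻¹)) (P0_mem_LJ hK hφ _ _ _)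
    · rw [hx, ← hk₁, map_mul, map_mul, map_inv, ← mul_assoc (P hK hφ 0 k₁), ← (hcz k₁).eq]
      simp only [mul_assoc]
    · rw [hy, ← hk₂, map_mul, map_mul, map_inv, ← mul_assoc (P hK hφ 0 k₂), ← (hcz' k₂).eq]
      simp only [mul_assoc]
  obtain ⟨c₁, c₂, a, b, ⟨⟨a', ha'⟩, b', hb'⟩, e⟩ := pair_tor R
    (RGDTwD4.G1_eq_top CoxeterMatrix.G₂.toCoxeterSystem hK hφ) (coordP hK hφ) hconn hT (J := {0})
    (Pr := fun c₁ c₂ => (∃ a, c₁ = a * x * a⁻¹) ∧ ∃ b, c₂ = b * y * b⁻¹) (g := g) hb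
    (Cfsg.Agent.H928.War.Rgd.core_trivial R hg)
  refine ⟨a * a', b * b', ?_⟩
  rw [e, ha', hb']
  group

end Cfsg.Agent.H932.TC6.TwD4
end

private theorem dce_7b2f8d476792 : _root_.True := by
  try have : _root_.True := by simp only [_root_.Cfsg.Agent.H932.TC6.NFz.zz.congr_simp]
  try have : _root_.True := by simp only [_root_.Cfsg.Agent.H874.War.TwD4.P.congr_simp]
  exact _root_.True.intro
end

-- part: H843/TC6/Row
section
prune_inst 0x34206104646002080018801062001c26ea000000000b0c000ca10b0607890c4220020e21af90050150a200442030002811000000020000000020000001190180000244048248010c860088000000000000000000300000000000000000010000000000000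
set_option linter.all false
open scoped Cfsg.Agent.FastGrp

-- part: H843/TC6/Main
section
/-!
# S2464, S2452 for `PSp_2n(q)`, `q` odd: every isometry `g` or its negative is `X Z`

`f = minpoly ξ` of degree `s`, `dim V = 2 n`; `s = n` with `n` odd or `4 ∣ n`, or `n = 2 s` with `s` odd, `s ≥ 3`.
-/

set_option autoImplicit false
open Polynomial

noncomputable section

namespace Cfsg.Agent.H843.TC6

open Cfsg.Agent.H144 Cfsg.Agent.H144.War

variable {F V K : Type} [Field F] [AddCommGroup V] [Module F V] [FiniteDimensional F V] [Field K] [Algebra F K]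
  [FiniteDimensional F K]

theorem cc_mix (h2 : (2 : F) ≠ 0) {s n a b : ℕ} {ξ : K} (hξ : Gx F s ξ) (hsn : s = n ∨ (Odd s ∧ n = 2 * s))
    {B : LinearMap.BilinForm F V} (hB : Alt B) (hN : Nond B) (ha : 1 ≤ a) (hb : Even b) (hab : a + b = n)
    (hV : Module.finrank F V = 2 * n) {g : V ≃ₗ[F] V} (hg : Iso B g) (h : Mix B g a b ⊤) :
    CC B (minpoly F ξ) g := by
  obtain ⟨U, W, Q, h1, h3, h4, h5, h6, h7, h8⟩ := h
  have h9 := finrank_two hB hN h1 h3 h4
  have hle : ∀ v : ↥(U ⊔ W), v ∈ U.comap (U ⊔ W).subtype ⊔ W.comap (U ⊔ W).subtype := by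
    intro v
    obtain ⟨u, hu, w, hw, huw⟩ := Submodule.mem_sup.1 v.2
    have e1 : v = (⟨u, Submodule.mem_sup_left hu⟩ : ↥(U ⊔ W)) + ⟨w, Submodule.mem_sup_right hw⟩ := Subtype.ext huw.symm
    rw [e1]
    exact Submodule.add_mem_sup hu hw
  have hU : Module.finrank F (U.comap (U ⊔ W).subtype) = a := by
    rw [(Submodule.comapSubtypeEquivOfLe le_sup_left).finrank_eq, h5]
  have hW : Module.finrank F (W.comap (U ⊔ W).subtype) = b := by
    rw [(Submodule.comapSubtypeEquivOfLe le_sup_right).finrank_eq, h6]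
  have htop : U.comap (U ⊔ W).subtype ⊔ W.comap (U ⊔ W).subtype = ⊤ := eq_top_iff.2 (fun v _ => hle v)
  have hP : Module.finrank F ↥(U ⊔ W) = a + b := by omega
  have hc : IsCompl (U.comap (U ⊔ W).subtype) (W.comap (U ⊔ W).subtype) := isCompl_of_finrank hP hU hW htop
  let A : ↥(U ⊔ W) ≃ₗ[F] ↥(U ⊔ W) := War.ds hc 1 (LinearEquiv.neg F)
  have hA1 : ∀ v ∈ U.comap (U ⊔ W).subtype, A v = v := by
    intro v hv
    have := ds_apply hc 1 (LinearEquiv.neg F) ⟨v, hv⟩ 0
    simpa only [_root_.ZeroMemClass.coe_zero, _root_.add_zero, _root_.LinearEquiv.coe_one, _root_.id_eq, _root_.LinearEquiv.coe_neg, _root_.Pi.neg_apply, _root_.neg_zero] using this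
  have hA2 : ∀ v ∈ W.comap (U ⊔ W).subtype, A v = -v := by
    intro v hv
    have := ds_apply hc 1 (LinearEquiv.neg F) 0 ⟨v, hv⟩
    simpa only [_root_.ZeroMemClass.coe_zero, _root_.zero_add, _root_.LinearEquiv.coe_one, _root_.id_eq, _root_.LinearEquiv.coe_neg, _root_.Pi.neg_apply, _root_.NegMemClass.coe_neg] using this
  have hFF : FF (minpoly F ξ) A := by
    rcases hsn with rfl | ⟨hs, rfl⟩
    · exact ff_mix h2 hξ ha hb hab (by rw [hP, hab]) hU hW htop hA1 hA2
    · refine ff_mix2 h2 hξ hs ?_ hb hab (by rw [hP, hab]) hU hW htop hA1 hA2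
      obtain ⟨c, hc⟩ := hb
      omega
  refine cc_of_corner hξ hB hN h1 h3 h4 (A := A) hFF hg ?_
  intro v
  obtain ⟨u, hu, w, hw, rfl⟩ := Submodule.mem_sup.1 (hle v)
  rw [map_add, hA1 u hu, hA2 w hw]
  have e1 : g ((u + w : ↥(U ⊔ W)) : V) - ((u + -w : ↥(U ⊔ W)) : V) = (g u - u) + (g w + w) := by
    push_cast
    rw [map_add]
    abel
  rw [e1]
  exact Q.add_mem (h7 u hu) (h8 w hw)

omit [FiniteDimensional F V] in
theorem exists_JJ [FiniteDimensional F V] {r d : ℕ} (hV : Module.finrank F V = r + d + 2) {U W : Submodule F V}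
    (hU : Module.finrank F U = r) (hW : Module.finrank F W = d) {p₁ p₂ : V}
    (htop : U ⊔ W ⊔ Submodule.span F {p₁, p₂} = ⊤) :
    ∃ A : V ≃ₗ[F] V, (∀ v ∈ U, A v = v) ∧ (∀ v ∈ W, A v = -v) ∧ A p₁ = p₂ ∧ A p₂ = -p₁ := by
  let T : (U × W × F × F) →ₗ[F] V := U.subtype.coprod (W.subtype.coprod
    ((LinearMap.toSpanSingleton F V p₁).coprod (LinearMap.toSpanSingleton F V p₂)))
  have hT : ∀ (u : U) (w : W) (x y : F), T (u, w, x, y) = u + (w + (x • p₁ + y • p₂)) := fun u w x y => rfl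
  have hsurj : Function.Surjective T := by
    intro v
    obtain ⟨u, hu, w, hw, rfl⟩ := mem_sup_top htop v
    obtain ⟨u1, hu1, u2, hu2, rfl⟩ := Submodule.mem_sup.1 hu
    obtain ⟨x, y, rfl⟩ := Submodule.mem_span_pair.1 hw
    exact ⟨(⟨u1, hu1⟩, ⟨u2, hu2⟩, x, y), by rw [hT, add_assoc]⟩
  have hfin : Module.finrank F (U × W × F × F) = Module.finrank F V := by
    rw [Module.finrank_prod, Module.finrank_prod, Module.finrank_prod, Module.finrank_self, hU, hW, hV]
    omega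
  have hinj : Function.Injective T := by
    have h1 := LinearMap.finrank_range_add_finrank_ker T
    rw [LinearMap.range_eq_top.2 hsurj, finrank_top, ← hfin] at h1
    have h2 : Module.finrank F (LinearMap.ker T) = 0 := by omega
    exact LinearMap.ker_eq_bot.1 (Submodule.finrank_eq_zero.1 h2)
  let φ : (U × W × F × F) ≃ₗ[F] V := LinearEquiv.ofBijective T ⟨hinj, hsurj⟩
  have hφ : ∀ (u : U) (w : W) (x y : F), φ (u, w, x, y) = u + (w + (x • p₁ + y • p₂)) := fun u w x y => rfl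
  let j : (F × F) ≃ₗ[F] (F × F) := LinearEquiv.ofLinearMap
    ((-LinearMap.snd F F F).prod (LinearMap.fst F F F)) ((LinearMap.snd F F F).prod (-LinearMap.fst F F F))
    (by ext <;> simp only [_root_.LinearMap.coe_comp, _root_.LinearMap.coe_inl, _root_.Function.comp_apply, _root_.LinearMap.prod_apply, _root_.LinearMap.coe_snd, _root_.LinearMap.coe_neg, _root_.LinearMap.coe_fst, _root_.Function.prod_apply, _root_.Pi.neg_apply, _root_.neg_neg, _root_.LinearMap.id_comp, _root_.LinearMap.coe_inr, _root_.neg_zero]) (by ext <;> simp only [_root_.LinearMap.coe_comp, _root_.LinearMap.coe_inl, _root_.Function.comp_apply, _root_.LinearMap.prod_apply, _root_.LinearMap.coe_neg, _root_.LinearMap.coe_snd, _root_.LinearMap.coe_fst, _root_.Function.prod_apply, _root_.Pi.neg_apply, _root_.neg_zero, _root_.LinearMap.id_comp, _root_.LinearMap.coe_inr, _root_.neg_neg])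
  let E : (U × W × F × F) ≃ₗ[F] (U × W × F × F) :=
    (LinearEquiv.refl F U).prodCongr ((LinearEquiv.neg F).prodCongr j)
  let A : V ≃ₗ[F] V := tr φ.symm E
  have hA : ∀ (u : U) (w : W) (x y : F), A (u + (w + (x • p₁ + y • p₂))) = u + (-w + (-y • p₁ + x • p₂)) := by
    intro u w x y
    rw [← hφ]
    change φ (E (φ.symm (φ (u, w, x, y)))) = _
    rw [φ.symm_apply_apply]
    exact (hφ u (-w) (-y) x)
  refine ⟨A, fun v hv => ?_, fun v hv => ?_, ?_, ?_⟩
  · have := hA ⟨v, hv⟩ 0 0 0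
    simpa using this
  · have := hA 0 ⟨v, hv⟩ 0 0
    simpa only [_root_.ZeroMemClass.coe_zero, _root_.zero_smul, _root_.add_zero, _root_.zero_add, _root_.neg_zero] using this
  · have := hA 0 0 1 0
    simpa using this
  · have := hA 0 0 0 1
    simpa only [_root_.ZeroMemClass.coe_zero, _root_.zero_smul, _root_.one_smul, _root_.zero_add, _root_.neg_zero, _root_.neg_smul, _root_.add_zero] using this

theorem cc_j [Finite F] (h2 : (2 : F) ≠ 0) {s r d : ℕ} {ξ : K} (hξ : Gx F s ξ) (hd : Even d) (hrd : d + 1 ≤ r)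
    (hs : r + d + 2 = s) {B : LinearMap.BilinForm F V} (hB : Alt B) (hN : Nond B) {g : V ≃ₗ[F] V} (hg : Iso B g)
    {R' R₁ : Submodule F V} (hR' : Module.finrank F R' = 2 * (r + 1)) (hR₁ : Module.finrank F R₁ = 2 * (d + 1))
    (hN' : Nd B R') (hN₁ : Nd B R₁) (ho : Orth B R' R₁) (htop : R' ⊔ R₁ = ⊤) (h1 : ∀ v ∈ R', g v = v)
    (h3 : ∀ v ∈ R₁, g v = -v) : CC B (minpoly F ξ) g := by
  obtain ⟨S1, hS1, hS1N, hS1f⟩ := exists_sub hB hN₁ hR₁ 1 (by omega)
  obtain ⟨S2, hS2, hS12, hS12s, hS2N, hS2f, -⟩ := split_off hB hS1 hS1N hN₁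
  have oRS : ∀ {T T' : Submodule F V}, T ≤ R' → T' ≤ R₁ → Orth B T T' := fun h4 h5 x hx y hy =>
    ho x (h4 hx) y (h5 hy)
  have oR1 : Orth B R' S1 := oRS le_rfl hS1
  have hIW : _root_.Cfsg.Agent.H144.Inv g (R' ⊔ S1) := by
    refine Inv.sup (fun v hv => ?_) (fun v hv => ?_)
    · rw [h1 v hv]; exact hv
    · rw [h3 v (hS1 hv)]; exact S1.neg_mem hv
  have hWN : Nd B (R' ⊔ S1) := Nd.sup hB oR1 hN' hS1N
  have oW2 : Orth B (R' ⊔ S1) S2 := by
    intro x hx y hy
    obtain ⟨a, ha, b, hb, rfl⟩ := Submodule.mem_sup.1 hx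
    rw [map_add, LinearMap.add_apply, ho a ha y (hS2 hy), hS12 b hb y hy, add_zero]
  have htopW : R' ⊔ S1 ⊔ S2 = ⊤ := by rw [sup_assoc, hS12s, htop]
  -- the corner in `R' ⊔ S1`
  obtain ⟨P, Q, U, p₁, hp₁, p₂, hp₂, hP, hQ, hPQ, hUP, hU, hsup, hgU, hg1, hg2⟩ :=
    H557.War.jcorner (V := ↥(R' ⊔ S1)) h2 (restrict_alt hB _) (restrict_nond hWN) (gr_iso hg _ hIW) (s := r + 2)
      (R' := R'.comap (R' ⊔ S1).subtype) (R₁ := S1.comap (R' ⊔ S1).subtype) (by omega)
      (by rw [(Submodule.comapSubtypeEquivOfLe le_sup_left).finrank_eq, hR']; omega)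
      (by rw [(Submodule.comapSubtypeEquivOfLe le_sup_right).finrank_eq, hS1f])
      (fun x hx y hy => oR1 x hx y hy)
      (by
        rw [eq_top_iff]
        intro v _
        obtain ⟨x, hx, y, hy, hxy⟩ := Submodule.mem_sup.1 v.2
        have e1 : v = (⟨x, Submodule.mem_sup_left hx⟩ : ↥(R' ⊔ S1)) + ⟨y, Submodule.mem_sup_right hy⟩ :=
          Subtype.ext hxy.symm
        rw [e1]
        exact Submodule.add_mem_sup hx hy)
      (fun v hv => Subtype.ext (h1 v hv)) (fun v hv => Subtype.ext (h3 v (hS1 hv)))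
  rw [Nat.add_sub_cancel] at hU
  obtain ⟨P₂, Q₂, k1, k2, k3, k4⟩ := exists_lag hB hS2N (ng_iso hg) (fun v hv => by rw [ng_apply, h3 v (hS2 hv), neg_neg])
  have hP₂S : P₂ ≤ S2 := by rw [← k3]; exact le_sup_left
  have hQ₂S : Q₂ ≤ S2 := by rw [← k3]; exact le_sup_right
  have mW : ∀ T : Submodule F ↥(R' ⊔ S1), T.map (R' ⊔ S1).subtype ≤ R' ⊔ S1 := fun T => Submodule.map_subtype_le _ T
  have oM : ∀ {T : Submodule F ↥(R' ⊔ S1)} {T' : Submodule F V}, Orth (B.restrict (R' ⊔ S1)) T T → Orth B T' T' →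
      T' ≤ S2 → Orth B (T.map (R' ⊔ S1).subtype ⊔ T') (T.map (R' ⊔ S1).subtype ⊔ T') := by
    intro T T' hT hT' hT'S v hv w hw
    obtain ⟨a, ha, b, hb, rfl⟩ := Submodule.mem_sup.1 hv
    obtain ⟨c, hc, d, hd, rfl⟩ := Submodule.mem_sup.1 hw
    have ha' := mW _ ha
    have hc' := mW _ hc
    obtain ⟨a, ha, rfl⟩ := ha
    obtain ⟨c, hc, rfl⟩ := hc
    have k1 : B (a : V) (c : V) = 0 := hT a ha c hc
    simp only [map_add, LinearMap.add_apply, Submodule.subtype_apply]
    rw [k1, hT' b hb d hd, oW2 _ a.2 _ (hT'S hd), hB.zero (oW2 _ c.2 _ (hT'S hb))]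
    simp
  set P0 := P.map (R' ⊔ S1).subtype ⊔ P₂ with hP0
  set Q0 := Q.map (R' ⊔ S1).subtype ⊔ Q₂ with hQ0
  have hP0o : Orth B P0 P0 := oM hP k1 hP₂S
  have hQ0o : Orth B Q0 Q0 := oM hQ k2 hQ₂S
  have hPQ0 : P0 ⊔ Q0 = ⊤ := by
    rw [hP0, hQ0, sup_sup_sup_comm, ← Submodule.map_sup, hPQ, Submodule.map_subtype_top, k3, htopW]
  have hdimV : Module.finrank F V = 2 * (r + d + 2) := by
    have h5 := finrank_sup_of_orth hB oW2 hWN le_rfl le_rfl
    have h6 := finrank_sup_of_orth hB oR1 hN' le_rfl le_rfl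
    rw [htopW, finrank_top, h6, hR', hS1f] at h5
    omega
  have hP0f : Module.finrank F P0 = r + d + 2 := by
    have := finrank_two hB hN hP0o hQ0o hPQ0
    omega
  have hP₂f : Module.finrank F P₂ = d := by
    have := finrank_lag hB hS2N k1 k2 k3
    omega
  have q1 : ((p₁ : ↥(R' ⊔ S1)) : V) ∈ P0 := Submodule.mem_sup_left ⟨p₁, hp₁, rfl⟩
  have q2 : ((p₂ : ↥(R' ⊔ S1)) : V) ∈ P0 := Submodule.mem_sup_left ⟨p₂, hp₂, rfl⟩
  have hUm : U.map (R' ⊔ S1).subtype ≤ P0 := (Submodule.map_mono hUP).trans le_sup_left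
  have hPm : P₂ ≤ P0 := le_sup_right
  have htop' : (U.map (R' ⊔ S1).subtype).comap P0.subtype ⊔ P₂.comap P0.subtype ⊔
      Submodule.span F {(⟨_, q1⟩ : P0), ⟨_, q2⟩} = ⊤ := by
    rw [eq_top_iff]
    intro v _
    obtain ⟨a, ha, b, hb, hab⟩ := Submodule.mem_sup.1 v.2
    obtain ⟨a, ha, rfl⟩ := ha
    have ha' : a ∈ U ⊔ Submodule.span F {p₁, p₂} := by rw [hsup]; exact ha
    obtain ⟨u, hu, w, hw, huw⟩ := Submodule.mem_sup.1 ha'
    obtain ⟨x, y, rfl⟩ := Submodule.mem_span_pair.1 hw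
    have e1 : v = (⟨(u : V), hUm ⟨u, hu, rfl⟩⟩ : P0) + ⟨b, hPm hb⟩ +
        (x • (⟨_, q1⟩ : P0) + y • (⟨_, q2⟩ : P0)) := by
      apply Subtype.ext
      rw [← hab, ← huw]
      push_cast
      simp only [map_add, map_smul, Submodule.subtype_apply]
      abel
    rw [e1]
    exact Submodule.add_mem_sup (Submodule.add_mem_sup ⟨u, hu, rfl⟩ hb) (Submodule.mem_span_pair.2 ⟨x, y, rfl⟩)
  have hU' : Module.finrank F ((U.map (R' ⊔ S1).subtype).comap P0.subtype) = r := by
    rw [(Submodule.comapSubtypeEquivOfLe hUm).finrank_eq, Submodule.finrank_map_subtype_eq, hU]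
  have hW' : Module.finrank F (P₂.comap P0.subtype) = d := by
    rw [(Submodule.comapSubtypeEquivOfLe hPm).finrank_eq, hP₂f]
  obtain ⟨A, hA1, hA2, hA3, hA4⟩ := exists_JJ hP0f hU' hW' htop'
  have hFF : FF (minpoly F ξ) A := ff_J h2 hξ hd hrd hs (by rw [hP0f, hs]) hU' hW' htop' hA1 hA2 hA3 hA4
  have hQm : ∀ v : ↥(R' ⊔ S1), v ∈ Q → (v : V) ∈ Q0 := fun v hv => Submodule.mem_sup_left ⟨v, hv, rfl⟩
  refine cc_of_corner hξ hB hN hP0o hQ0o hPQ0 hFF hg ?_
  intro v
  have hv : v ∈ (U.map (R' ⊔ S1).subtype).comap P0.subtype ⊔ P₂.comap P0.subtype ⊔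
      Submodule.span F {(⟨_, q1⟩ : P0), ⟨_, q2⟩} := by rw [htop']; trivial
  obtain ⟨uw, huw, t, ht, rfl⟩ := Submodule.mem_sup.1 hv
  obtain ⟨u, hu, w, hw, rfl⟩ := Submodule.mem_sup.1 huw
  obtain ⟨x, y, rfl⟩ := Submodule.mem_span_pair.1 ht
  have e1 : g ((u + w + (x • (⟨_, q1⟩ : P0) + y • (⟨_, q2⟩ : P0)) : P0) : V) -
      ((A (u + w + (x • (⟨_, q1⟩ : P0) + y • (⟨_, q2⟩ : P0))) : P0) : V) =
      (g u - u) + (g w + w) + (x • (g (p₁ : V) - (p₂ : V)) + y • (g (p₂ : V) + (p₁ : V))) := by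
    rw [map_add A, map_add A, hA1 u hu, hA2 w hw, map_add A, map_smul A, map_smul A, hA3, hA4]
    push_cast
    simp only [map_add, map_smul]
    module
  rw [e1]
  refine Q0.add_mem (Q0.add_mem ?_ ?_) (Q0.add_mem (Q0.smul_mem _ ?_) (Q0.smul_mem _ ?_))
  · obtain ⟨u', hu', hu''⟩ := hu
    have := hQm _ (hgU u' hu')
    have e2 : (u : V) = (u' : V) := hu''.symm
    rw [e2]
    exact this
  · have h4 := k4 w hw
    rw [ng_apply] at h4
    have := Q₂.neg_mem h4
    rw [neg_sub, sub_neg_eq_add, add_comm] at this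
    exact Submodule.mem_sup_right this
  · exact hQm _ hg1
  · exact hQm _ hg2

theorem two_case2 [Finite F] (h2 : (2 : F) ≠ 0) {s a b : ℕ} {ξ : K} (hξ : Gx F s ξ) (_ : Odd s) (hs3 : 3 ≤ s)
    {B : LinearMap.BilinForm F V} (hB : Alt B) {g : V ≃ₗ[F] V} (hg : Iso B g)
    {R' R₁ : Submodule F V} (hR' : Module.finrank F R' = 2 * a) (hR₁ : Module.finrank F R₁ = 2 * b)
    (hab : a + b = 2 * s) (ha : Odd a) (hb : Odd b) (hba : b ≤ a) (hN' : Nd B R')
    (hN₁ : Nd B R₁) (ho : Orth B R' R₁) (htop : R' ⊔ R₁ = ⊤) (h1 : ∀ v ∈ R', g v = v) (h3 : ∀ v ∈ R₁, g v = -v) :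
    CC B (minpoly F ξ) g := by
  obtain ⟨c, rfl⟩ := ha
  obtain ⟨d, rfl⟩ := hb
  obtain ⟨R1, hR1, hR1N, hR1f⟩ := exists_sub hB hN' hR' (s - 1) (by omega)
  obtain ⟨R2, hR2, hR12, hR12s, hR2N, hR2f, -⟩ := split_off hB hR1 hR1N hN'
  obtain ⟨S1, hS1, hS1N, hS1f⟩ := exists_sub hB hN₁ hR₁ 1 (by omega)
  obtain ⟨S2, hS2, hS12, hS12s, hS2N, hS2f, -⟩ := split_off hB hS1 hS1N hN₁
  have oRS : ∀ {T T' : Submodule F V}, T ≤ R' → T' ≤ R₁ → Orth B T T' := fun h4 h5 x hx y hy =>
    ho x (h4 hx) y (h5 hy)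
  have oA : Orth B (R1 ⊔ S1) (R2 ⊔ S2) :=
    orth_sup (orth_sup' hR12 (oRS hR1 hS2)) (orth_sup' ((oRS hR2 hS1).symm hB) hS12)
  have hAN : Nd B (R1 ⊔ S1) := Nd.sup hB (oRS hR1 hS1) hR1N hS1N
  have hBN : Nd B (R2 ⊔ S2) := Nd.sup hB (oRS hR2 hS2) hR2N hS2N
  have htopA : R1 ⊔ S1 ⊔ (R2 ⊔ S2) = ⊤ := by
    rw [sup_sup_sup_comm, hR12s, hS12s, htop]
  have inv1 : ∀ {T : Submodule F V}, T ≤ R' → _root_.Cfsg.Agent.H144.Inv g T := fun h4 v hv => by rw [h1 v (h4 hv)]; exact hv
  have inv2 : ∀ {T : Submodule F V}, T ≤ R₁ → _root_.Cfsg.Agent.H144.Inv g T := fun {T} h4 v hv => by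
    rw [h3 v (h4 hv)]; exact T.neg_mem hv
  have hIA : _root_.Cfsg.Agent.H144.Inv g (R1 ⊔ S1) := Inv.sup (inv1 hR1) (inv2 hS1)
  have hIB : _root_.Cfsg.Agent.H144.Inv g (R2 ⊔ S2) := Inv.sup (inv1 hR2) (inv2 hS2)
  refine CC.sup hB oA hAN htopA hIA hIB ?_ ?_
  · refine cc_j h2 hξ (r := s - 2) (d := 0) Even.zero (by omega) (by (clear * - hs3; omega)) (restrict_alt hB _) (restrict_nond hAN)
      (gr_iso hg _ hIA) (R' := R1.comap (R1 ⊔ S1).subtype) (R₁ := S1.comap (R1 ⊔ S1).subtype) ?_ ?_ ?_ ?_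
      (fun x hx y hy => oRS hR1 hS1 x hx y hy) ?_ ?_ ?_
    · rw [(Submodule.comapSubtypeEquivOfLe le_sup_left).finrank_eq, hR1f]; (clear * - hs3; omega)
    · rw [(Submodule.comapSubtypeEquivOfLe le_sup_right).finrank_eq, hS1f]
    · intro v hv h0
      exact Subtype.ext (hR1N v hv fun w hw => h0 ⟨w, Submodule.mem_sup_left hw⟩ hw)
    · intro v hv h0
      exact Subtype.ext (hS1N v hv fun w hw => h0 ⟨w, Submodule.mem_sup_right hw⟩ hw)
    · rw [eq_top_iff]
      intro v _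
      obtain ⟨x, hx, y, hy, hxy⟩ := Submodule.mem_sup.1 v.2
      have e1 : v = (⟨x, Submodule.mem_sup_left hx⟩ : ↥(R1 ⊔ S1)) + ⟨y, Submodule.mem_sup_right hy⟩ :=
        Subtype.ext hxy.symm
      rw [e1]
      exact Submodule.add_mem_sup hx hy
    · intro v hv
      exact Subtype.ext (h1 v (hR1 hv))
    · intro v hv
      exact Subtype.ext (h3 v (hS1 hv))
  · have m1 : Mix B g (2 * c + 1 - (s - 1)) 0 R2 := mix_of_c1On hB hR2N (by omega)
      (exists_lag hB hR2N hg (fun v hv => h1 v (hR2 hv)))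
    have m2 : Mix B (ng g) (2 * d) 0 S2 := mix_of_c1On hB hS2N (by omega)
      (exists_lag hB hS2N (ng_iso hg) (fun v hv => by rw [ng_apply, h3 v (hS2 hv), neg_neg]))
    have m2' := m2.ng
    rw [ng_ng] at m2'
    have m3 := mix_restrict hIB (Mix.sup hB (oRS hR2 hS2) hR2N m1 m2')
    have hfin : Module.finrank F ↥(R2 ⊔ S2) = 2 * s := by
      rw [finrank_sup_of_orth hB (oRS hR2 hS2) hR2N le_rfl le_rfl]
      omega
    exact cc_mix h2 hξ (n := s) (Or.inl rfl) (restrict_alt hB _) (restrict_nond hBN) (by omega)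
      (by rw [zero_add]; exact even_two_mul d) (by omega) hfin (gr_iso hg _ hIB) m3

/-- **the dichotomy** -/
theorem cc_or [Finite F] (h2 : (2 : F) ≠ 0) {s n : ℕ} {ξ : K} (hξ : Gx F s ξ) (hn : 2 ≤ n)
    (hsn : (s = n ∧ (Odd n ∨ 4 ∣ n)) ∨ (Odd s ∧ n = 2 * s ∧ 3 ≤ s))
    {B : LinearMap.BilinForm F V} (hB : Alt B) (hN : Nond B) (hV : Module.finrank F V = 2 * n) {g : V ≃ₗ[F] V}
    (hg : Iso B g) : CC B (minpoly F ξ) g ∨ CC B (minpoly F ξ) (ng g) := by
  have hTN : Nd B ⊤ := fun v _ h => hN v (fun w => h w trivial)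
  obtain ⟨P', P₁, o1, i1, i2, n1, n2, hsup, hc, hc', -⟩ := exists_split hB hg _ ⊤ (fun v _ => trivial) hTN rfl
  have hsn' : s = n ∨ (Odd s ∧ n = 2 * s) := by
    rcases hsn with ⟨h, -⟩ | ⟨h, h', -⟩
    · exact Or.inl h
    · exact Or.inr ⟨h, h'⟩
  obtain ⟨a, ha⟩ : ∃ a, Module.finrank F P' = 2 * a := by
    obtain ⟨P, Q, k1, k2, k3, k4⟩ := hc
    exact ⟨_, finrank_lag hB n1 k1 k2 k3⟩
  obtain ⟨b, hb⟩ : ∃ b, Module.finrank F P₁ = 2 * b := by
    obtain ⟨P, Q, k1, k2, k3, k4⟩ := hc'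
    exact ⟨_, finrank_lag hB n2 k1 k2 k3⟩
  have hab : a + b = n := by
    have h3 := finrank_sup_of_orth hB o1 n1 le_rfl le_rfl
    rw [hsup, finrank_top, hV, ha, hb] at h3
    omega
  have m1 : Mix B g a 0 P' := mix_of_c1On hB n1 ha hc
  have m2 : Mix B g 0 b P₁ := by
    have := (mix_of_c1On hB n2 hb hc').ng
    rwa [ng_ng] at this
  have fin' : ∀ (h : V ≃ₗ[F] V) (a' b' : ℕ), Iso B h → a' + b' = n → Even b' → Mix B h a' b' ⊤ →
      CC B (minpoly F ξ) h ∨ CC B (minpoly F ξ) (ng h) := by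
    intro h a' b' hh hab' hb' hm
    rcases Nat.eq_zero_or_pos a' with h0 | h0
    · right
      subst h0
      exact cc_mix h2 hξ hsn' hB hN (a := b') (b := 0) (by omega) Even.zero (by omega) hV (ng_iso hh) hm.ng
    · left
      exact cc_mix h2 hξ hsn' hB hN h0 hb' hab' hV hh hm
  have fin : ∀ (a' b' : ℕ), a' + b' = n → (Even a' ∨ Even b') → Mix B g a' b' ⊤ →
      CC B (minpoly F ξ) g ∨ CC B (minpoly F ξ) (ng g) := by
    rintro a' b' hab' (h | h) hm
    · have := fin' (ng g) b' a' (ng_iso hg) (by omega) h hm.ng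
      rw [ng_ng] at this
      exact this.symm
    · exact fin' g a' b' hg hab' h hm
  by_cases hev : Even a ∨ Even b
  · apply fin a b hab hev
    rw [← hsup]
    have := Mix.sup hB o1 n1 m1 m2
    rwa [add_zero, zero_add] at this
  push Not at hev
  rw [Nat.not_even_iff_odd, Nat.not_even_iff_odd] at hev
  obtain ⟨hoa, hob⟩ := hev
  by_cases hg1 : ∀ v ∈ P', g v = v
  swap
  · obtain ⟨c, rfl⟩ := hoa
    have m3 := Mix.sup hB o1 n1 (H140.War.reflection h2 hB hg n1 i1 ha hc hg1) m2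
    rw [hsup, add_zero] at m3
    exact fin _ _ (by omega) (Or.inl (even_two_mul c)) m3
  by_cases hg2 : ∀ v ∈ P₁, ng g v = v
  swap
  · obtain ⟨d, rfl⟩ := hob
    have m3 := (H140.War.reflection h2 hB (ng_iso hg) n2 (inv_ng i2) hb hc' hg2).ng
    rw [ng_ng] at m3
    have m4 := Mix.sup hB o1 n1 m1 m3
    rw [hsup, zero_add] at m4
    exact fin _ _ (by omega) (Or.inr (even_two_mul d)) m4
  have hg2' : ∀ v ∈ P₁, g v = -v := by
    intro v hv
    have := hg2 v hv
    rw [ng_apply] at this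
    rw [← this, neg_neg, this]
  have hg1' : ∀ v ∈ P', ng g v = -v := by
    intro v hv
    rw [ng_apply, hg1 v hv]
  have hen : Even n := by rw [← hab]; exact hoa.add_odd hob
  have hswap : P₁ ⊔ P' = ⊤ := by rw [sup_comm]; exact hsup
  rcases hsn with ⟨rfl, h4⟩ | ⟨hs, rfl, hs3⟩
  · have h4' : 4 ∣ s := h4.resolve_left (by rwa [Nat.not_odd_iff_even])
    have hne : a ≠ b := by
      rintro rfl
      obtain ⟨c, rfl⟩ := hoa
      omega
    obtain ⟨c, rfl⟩ := hoa
    obtain ⟨d, rfl⟩ := hob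
    rcases Nat.lt_or_ge d c with hdc | hdc
    · left
      exact cc_j h2 hξ (r := 2 * c) (d := 2 * d) (even_two_mul d) (by omega) (by omega) hB hN hg ha hb n1 n2 o1 hsup
        hg1 hg2'
    · right
      exact cc_j h2 hξ (r := 2 * d) (d := 2 * c) (even_two_mul c) (by omega) (by omega) hB hN (ng_iso hg) hb ha n2 n1
        (o1.symm hB) hswap hg2 hg1'
  · rcases le_total b a with hba | hba
    · left
      exact two_case2 h2 hξ hs hs3 hB hg ha hb hab hoa hob hba n1 n2 o1 hsup hg1 hg2'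
    · right
      exact two_case2 h2 hξ hs hs3 hB (ng_iso hg) hb ha (by omega) hob hoa hba n2 n1 (o1.symm hB) hswap hg2 hg1'

end Cfsg.Agent.H843.TC6
end
end

-- part: H843/TC6/Conj
section
/-!
# S2464, S2452 for `PSp_2n(q)`: Levi elements of type `f` are conjugate
-/

set_option autoImplicit false
set_option linter.style.haveILetI false
open Polynomial

noncomputable section

namespace Cfsg.Agent.H843.TC6

open Cfsg.Agent.H144 Cfsg.Agent.H144.War Cfsg.Agent.H144.TC

section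

variable {F K : Type*} [Field F] [Field K] [Algebra F K] [FiniteDimensional F K]

theorem ne_fin (ξ : K) : Nonempty (Fin (minpoly F ξ).natDegree) :=
  ⟨⟨0, minpoly.natDegree_pos (Algebra.IsIntegral.isIntegral (R := F) ξ)⟩⟩

/-- the power basis of `ξ` -/
def pbOf (F : Type*) {K : Type*} [Field F] [Field K] [Algebra F K] [FiniteDimensional F K] (ξ : K)
    (h : (minpoly F ξ).natDegree = Module.finrank F K) : PowerBasis F K where
  gen := ξ
  dim := (minpoly F ξ).natDegree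
  basis :=
    have := ne_fin (F := F) ξ
    basisOfLinearIndependentOfCardEqFinrank (linearIndependent_pow ξ) (by rw [Fintype.card_fin, h])
  basis_eq_pow i := by
    haveI := ne_fin (F := F) ξ
    rw [coe_basisOfLinearIndependentOfCardEqFinrank]

theorem exists_equiv {ξ : K} (h : (minpoly F ξ).natDegree = Module.finrank F K) {P P' : Type*} [AddCommGroup P]
    [Module F P] [FiniteDimensional F P] [AddCommGroup P'] [Module F P'] [FiniteDimensional F P']
    (hPP : Module.finrank F P = Module.finrank F P') {x : Module.End F P} {x' : Module.End F P'}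
    (hx : aeval x (minpoly F ξ) = 0) (hx' : aeval x' (minpoly F ξ) = 0) :
    ∃ φ : P ≃ₗ[F] P', ∀ v, φ (x v) = x' (φ v) := by
  let ρ : K →ₐ[F] Module.End F P := (pbOf F ξ h).lift x hx
  let ρ' : K →ₐ[F] Module.End F P' := (pbOf F ξ h).lift x' hx'
  have hρ : ρ ξ = x := (pbOf F ξ h).lift_gen x hx
  have hρ' : ρ' ξ = x' := (pbOf F ξ h).lift_gen x' hx'
  letI : Module K P := Module.compHom P (ρ : K →+* Module.End F P)
  letI : Module K P' := Module.compHom P' (ρ' : K →+* Module.End F P')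
  have sm : ∀ (c : K) (v : P), c • v = ρ c v := fun _ _ => rfl
  have sm' : ∀ (c : K) (v : P'), c • v = ρ' c v := fun _ _ => rfl
  haveI : IsScalarTower F K P := ⟨fun a b v => by rw [sm, sm, map_smul]; rfl⟩
  haveI : IsScalarTower F K P' := ⟨fun a b v => by rw [sm', sm', map_smul]; rfl⟩
  haveI : Module.Finite K P := Module.Finite.of_restrictScalars_finite F K P
  haveI : Module.Finite K P' := Module.Finite.of_restrictScalars_finite F K P'
  have h1 := Module.finrank_mul_finrank F K P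
  have h2 := Module.finrank_mul_finrank F K P'
  have h3 : Module.finrank K P = Module.finrank K P' := by
    have h4 : Module.finrank F K * Module.finrank K P = Module.finrank F K * Module.finrank K P' := by
      rw [h1, h2, hPP]
    exact Nat.eq_of_mul_eq_mul_left Module.finrank_pos h4
  let e : P ≃ₗ[K] P' := LinearEquiv.ofFinrankEq P P' h3
  refine ⟨e.restrictScalars F, fun v => ?_⟩
  change e (x v) = x' (e v)
  rw [← hρ, ← sm, map_smul, sm', hρ']

end

section

variable {F V K : Type*} [Field F] [AddCommGroup V] [Module F V] [FiniteDimensional F V] [Field K] [Algebra F K]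
  [FiniteDimensional F K]

theorem lt_conj {s : ℕ} {ξ : K} (hξ : Gx F s ξ) {B : LinearMap.BilinForm F V} (hB : Alt B) (hN : Nond B)
    {X X' : V ≃ₗ[F] V} (hX : LT B (minpoly F ξ) X) (hX' : LT B (minpoly F ξ) X') :
    ∃ u : V ≃ₗ[F] V, Iso B u ∧ X' = u * X * u⁻¹ := by
  obtain ⟨h0, hK, hdeg, -, -⟩ := hξ
  obtain ⟨hI, P, Q, hP, hQ, hPQ, hXP, hXQ, hf⟩ := hX
  obtain ⟨hI', P', Q', hP', hQ', hPQ', hXP', hXQ', hf'⟩ := hX'
  have h1 : HasType B (gr X P hXP) X := ⟨hI, P, Q, hP, hQ, hPQ, hXQ, LinearEquiv.refl F P, fun v => rfl⟩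
  have hfin : Module.finrank F P' = Module.finrank F P := by
    have h2 := finrank_two hB hN hP hQ hPQ
    have h3 := finrank_two hB hN hP' hQ' hPQ'
    omega
  have mk : ∀ (R : Submodule F V) (Y : V ≃ₗ[F] V) (hY : ∀ v ∈ R, Y v ∈ R)
      (_ : ∀ v ∈ R, aeval (Y : Module.End F V) (minpoly F ξ) v = 0),
      aeval ((gr Y R hY : R ≃ₗ[F] R) : Module.End F R) (minpoly F ξ) = 0 := by
    intro R Y hY hR
    ext v
    have h4 := aeval_restrict (X := (Y : Module.End F V)) (x := ((gr Y R hY : R ≃ₗ[F] R) : Module.End F R))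
      (fun v => rfl) (minpoly F ξ) v
    rw [← h4, hR v v.2]
    rfl
  obtain ⟨φ, hφ⟩ := exists_equiv (ξ := ξ) (by rw [hdeg, hK]) hfin (mk P' X' hXP' hf') (mk P X hXP hf)
  have h2 : HasType B (gr X P hXP) X' := by
    refine ⟨hI', P', Q', hP', hQ', hPQ', hXQ', φ, fun v => ?_⟩
    have h3 : tr φ (gr X P hXP) v = gr X' P' hXP' v := by
      rw [tr_apply, LinearEquiv.symm_apply_eq]
      exact (hφ v).symm
    rw [h3]
    rfl
  exact h1.unique hB hN h2

omit [FiniteDimensional F K] in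
theorem lt_pow {s : ℕ} {ξ : K} (_ : Gx F s ξ) {B : LinearMap.BilinForm F V} (hB : Alt B) (hN : Nond B)
    {X : V ≃ₗ[F] V} (hX : LT B (minpoly F ξ) X) {N : ℕ} (hNξ : ξ ^ N = 1) : X ^ N = 1 := by
  obtain ⟨hI, P, Q, hP, hQ, hPQ, hXP, hXQ, hf⟩ := hX
  ext v
  have hd : minpoly F ξ ∣ Polynomial.X ^ N - 1 := minpoly.dvd F ξ (by simp [hNξ])
  obtain ⟨t, ht⟩ := hd
  have h1 := levi_unique hB hN hP hQ hPQ (Iso.pow hI N) (mem_pow hXQ N) 1 (one_mul 1) (fun v hv => by
    have h2 : aeval (X : Module.End F V) (Polynomial.X ^ N - 1 : F[X]) v = 0 := by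
      rw [ht, mul_comm, map_mul, Module.End.mul_apply, hf v hv, map_zero]
    rw [map_sub, map_pow, aeval_X, map_one, LinearMap.sub_apply, sub_eq_zero] at h2
    rw [one_smul]
    have h3 : ∀ (k : ℕ) (v : V), (X ^ k) v = ((X : Module.End F V) ^ k) v := by
      intro k
      induction k with
      | zero => intro v; rfl
      | succ k ih =>
        intro v
        rw [pow_succ, LinearEquiv.mul_apply, ih, pow_succ, Module.End.mul_apply]
        rfl
    rw [h3, h2]
    rfl) v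
  rw [h1, one_smul]
  rfl

theorem lt_not_scalar {s : ℕ} (hs : 2 ≤ s) {ξ : K} (hξ : Gx F s ξ) {B : LinearMap.BilinForm F V} (hB : Alt B)
    (hN : Nond B) (hV : 0 < Module.finrank F V) {X : V ≃ₗ[F] V} (hX : LT B (minpoly F ξ) X) (c : F) :
    ¬ ∀ v, X v = c • v := by
  intro hc
  obtain ⟨h0, hK, hdeg, -, -⟩ := hξ
  obtain ⟨hI, P, Q, hP, hQ, hPQ, hXP, hXQ, hf⟩ := hX
  have h1 := finrank_two hB hN hP hQ hPQ
  have hPb : P ≠ ⊥ := by
    rintro rfl
    rw [finrank_bot] at h1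
    omega
  obtain ⟨v, hv, hv0⟩ := Submodule.exists_mem_ne_zero_of_ne_bot hPb
  have h2 := hf v hv
  have h3 : aeval (X : Module.End F V) (minpoly F ξ) v = (minpoly F ξ).eval c • v := by
    have h4 : ∀ k : ℕ, ((X : Module.End F V) ^ k) v = c ^ k • v := by
      intro k
      induction k with
      | zero => simp
      | succ k ih =>
        rw [pow_succ', Module.End.mul_apply, ih, map_smul]
        have h5 : (X : Module.End F V) v = c • v := hc v
        rw [h5, smul_smul, pow_succ]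
    induction (minpoly F ξ) using Polynomial.induction_on' with
    | add p q hp hq => rw [map_add, LinearMap.add_apply, hp, hq, eval_add, add_smul]
    | monomial k a =>
      rw [aeval_monomial, Module.algebraMap_end_eq_smul_id, Module.End.mul_apply, LinearMap.smul_apply,
        LinearMap.id_apply, h4, eval_monomial, smul_smul]
  rw [h3] at h2
  have h4 : (minpoly F ξ).eval c = 0 := (smul_eq_zero.1 h2).resolve_right hv0
  have h5 := degree_eq_one_of_irreducible_of_root (minpoly.irreducible (Algebra.IsIntegral.isIntegral (R := F) ξ)) h4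
  have h6 : (minpoly F ξ).natDegree = 1 := natDegree_eq_of_degree_eq_some (by exact_mod_cast h5)
  omega

end

end Cfsg.Agent.H843.TC6
end
end

-- part: H843/TC6/Psp
section
/-!
# S2464, S2452 for `PSp_2n(q)`, `q` odd: one class

`psp_cc` : an element `x` of `PSp_2m(q)` with `x ^ N = 1`, `x ≠ 1` such that every element is a product of two conjugates
of `x`.
-/

set_option autoImplicit false
open Polynomial

namespace Cfsg.Agent.H843.TC6

open Cfsg Cfsg.Agent.H144 Cfsg.Agent.H144.War Cfsg.Agent.H955 Cfsg.Agent.ClassicalGeometry.SympBasic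

theorem psp_cc {F : Type} [Field F] [Finite F] {m : ℕ} (h2 : (2 : F) ≠ 0) (hm : 2 ≤ m) {K : Type} [Field K] [Algebra F K]
    [FiniteDimensional F K] {ξ : K} {s : ℕ} (hs : 2 ≤ s) (hξ : Gx F s ξ)
    (hsn : (s = m ∧ (Odd m ∨ 4 ∣ m)) ∨ (Odd s ∧ m = 2 * s ∧ 3 ≤ s)) {N : ℕ} (hN : ξ ^ N = 1) :
    ∃ x : PSp m F, x ^ N = 1 ∧ x ≠ 1 ∧ ∀ g : PSp m F, ∃ u v : PSp m F, g = (u * x * u⁻¹) * (v * x * v⁻¹) := by
  have hS := isSp_sympBilin m F
  have hV : Module.finrank F (Fin m ⊕ Fin m → F) = 2 * m := by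
    rw [Module.finrank_fintype_fun_eq_card, Fintype.card_sum, Fintype.card_fin]
    ring
  have key : ∀ {g : (Fin m ⊕ Fin m → F) ≃ₗ[F] (Fin m ⊕ Fin m → F)}, Iso (sympBilin m F) g →
      CC (sympBilin m F) (minpoly F ξ) g ∨ CC (sympBilin m F) (minpoly F ξ) (ng g) := fun {g} hg =>
    cc_or h2 hξ hm hsn hS.alt hS.nd hV hg
  obtain ⟨X₀, hX₀⟩ : ∃ X₀, LT (sympBilin m F) (minpoly F ξ) X₀ := by
    rcases key (Iso.one _) with ⟨X, -, hX, -⟩ | ⟨X, -, hX, -⟩
    · exact ⟨X, hX⟩
    · exact ⟨X, hX⟩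
  let x₀ : AH.Gm m F := ⟨X₀, hX₀.1⟩
  have hx₀ : x₀ ^ N = 1 := Subtype.ext (lt_pow hξ hS.alt hS.nd hX₀ hN)
  refine ⟨AH.pj m F x₀, by rw [← map_pow, hx₀, map_one], ?_, fun t => ?_⟩
  · intro h
    rw [AH.pj_eq_one_iff] at h
    obtain ⟨c, hc⟩ := h
    exact lt_not_scalar hs hξ hS.alt hS.nd (by omega) hX₀ c hc
  obtain ⟨g, rfl⟩ := AH.pj_surj t
  have fin : ∀ g' : AH.Gm m F, CC (sympBilin m F) (minpoly F ξ) g'.1 →
      ∃ u v : PSp m F, AH.pj m F g' = (u * AH.pj m F x₀ * u⁻¹) * (v * AH.pj m F x₀ * v⁻¹) := by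
    rintro g' ⟨X, Z, hX, hZ, hXZ⟩
    obtain ⟨u, hu, hu'⟩ := lt_conj hξ hS.alt hS.nd hX₀ hX
    obtain ⟨v, hv, hv'⟩ := lt_conj hξ hS.alt hS.nd hX₀ hZ
    refine ⟨AH.pj m F ⟨u, hu⟩, AH.pj m F ⟨v, hv⟩, ?_⟩
    rw [← map_inv, ← map_inv, ← map_mul, ← map_mul, ← map_mul, ← map_mul, ← map_mul]
    congr 1
    apply Subtype.ext
    rw [hXZ, hu', hv']
    rfl
  rcases key g.2 with h | h
  · exact fin g h
  · have h1 : AH.pj m F g = AH.pj m F ⟨ng g.1, ng_iso g.2⟩ := by
      have h1 : AH.pj m F (⟨ng g.1, ng_iso g.2⟩ * g⁻¹) = 1 := by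
        rw [AH.pj_eq_one_iff]
        refine ⟨-1, fun v => ?_⟩
        rw [neg_one_smul]
        change ng g.1 (g.1⁻¹ v) = -v
        rw [ng_apply, app_inv]
      rw [map_mul, map_inv, mul_inv_eq_one] at h1
      exact h1.symm
    rw [h1]
    exact fin _ h

/-- order prime to `6`: S2464 -/
theorem six_psp_of {F : Type} [Field F] [Finite F] {m : ℕ} (h2 : (2 : F) ≠ 0) (hm : 2 ≤ m) {K : Type} [Field K]
    [Algebra F K] [FiniteDimensional F K] {ξ : K} {s N : ℕ} (hs : 2 ≤ s) (hξ : Gx F s ξ)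
    (hsn : (s = m ∧ (Odd m ∨ 4 ∣ m)) ∨ (Odd s ∧ m = 2 * s ∧ 3 ≤ s)) (hr6 : Nat.Coprime N 6) (hN : ξ ^ N = 1) :
    ∃ x y : PSp m F, Nat.Coprime (orderOf x) 6 ∧ Nat.Coprime (orderOf y) 6 ∧
      ∀ g : PSp m F, g ≠ 1 → ∃ u v : PSp m F, g = (u * x * u⁻¹) * (v * y * v⁻¹) := by
  obtain ⟨x, hx, hx1, h⟩ := psp_cc h2 hm hs hξ hsn hN
  have ho : Nat.Coprime (orderOf x) 6 := Nat.Coprime.coprime_dvd_left (orderOf_dvd_of_pow_eq_one hx) hr6
  exact ⟨x, x, ho, ho, fun g _ => h g⟩

end Cfsg.Agent.H843.TC6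
end

-- part: H843/TC6/Row
section
/-!
# S2464, S2452: the rows `PSp_2m(q)`, `q` odd, `m ≥ 3`

* `pp_psp` : one class of prime order, `m % 4 ≠ 0`.
* `row3_psp` : the same as `Row3`.
* `t6_psp` : all `m ≥ 3`, except `m = 4` and `q = 3, 5, 7, 17`.
-/

set_option autoImplicit false

namespace Cfsg.Agent.H843.TC6

open Cfsg

theorem odd_card {F : Type} [Field F] [Finite F] (h2 : (2 : F) ≠ 0) : Odd (Nat.card F) := by
  have := Fintype.ofFinite F
  rw [← Nat.not_even_iff_odd, Nat.even_iff, Nat.card_eq_fintype_card, ← FiniteField.even_card_iff_char_two]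
  intro h
  apply h2
  have h3 := (ringChar.spec F 2).2 (by rw [h])
  exact_mod_cast h3

theorem psp_prime {m : ℕ} (hm : 3 ≤ m) (h4 : m % 4 ≠ 0) (F : Type) [Field F] [Finite F] (h2 : (2 : F) ≠ 0) :
    ∃ (r : ℕ) (x : PSp m F), r.Prime ∧ Nat.Coprime r 6 ∧ orderOf x = r ∧
      ∀ g : PSp m F, ∃ u v : PSp m F, g = (u * x * u⁻¹) * (v * x * v⁻¹) := by
  have fin : ∀ {r : ℕ}, r.Prime → Nat.Coprime r 6 → (∃ x : PSp m F, x ^ r = 1 ∧ x ≠ 1 ∧
      ∀ g : PSp m F, ∃ u v : PSp m F, g = (u * x * u⁻¹) * (v * x * v⁻¹)) → ∃ (r : ℕ) (x : PSp m F), r.Prime ∧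
      Nat.Coprime r 6 ∧ orderOf x = r ∧ ∀ g : PSp m F, ∃ u v : PSp m F, g = (u * x * u⁻¹) * (v * x * v⁻¹) := by
    rintro r hr hr6 ⟨x, hx, hx1, h⟩
    refine ⟨r, x, hr, hr6, ?_, h⟩
    rcases (Nat.dvd_prime hr).1 (orderOf_dvd_of_pow_eq_one hx) with h1 | h1
    · exact absurd (orderOf_eq_one_iff.1 h1) hx1
    · exact h1
  rcases Nat.even_or_odd m with he | ho
  · obtain ⟨s, hs⟩ := he
    have hso : Odd s := by
      rw [← Nat.not_even_iff_odd]
      rintro ⟨c, hc⟩
      omega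
    obtain ⟨r, hr, hr6, K, _, _, _, ξ, hξ, hξr⟩ := H311.TC6.xi_odd F (s := s) (by
      obtain ⟨c, hc⟩ := hso
      omega) hso
    exact fin hr hr6 (psp_cc h2 (by omega) (s := s) (by omega) hξ
      (Or.inr ⟨hso, by omega, by obtain ⟨c, hc⟩ := hso; omega⟩) hξr)
  · obtain ⟨r, hr, hr6, K, _, _, _, ξ, hξ, hξr⟩ := H311.TC6.xi_odd F hm ho
    exact fin hr hr6 (psp_cc h2 (by omega) (s := m) (by omega) hξ (Or.inl ⟨rfl, Or.inl ho⟩) hξr)

theorem row3_psp {m : ℕ} (hm : 3 ≤ m) (h4 : m % 4 ≠ 0) (F : Type) [Field F] [Finite F] (h2 : (2 : F) ≠ 0) :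
    H210.TC.Row3 (PSp m F) := by
  obtain ⟨r, x, hr, hr6, ho, h⟩ := psp_prime hm h4 F h2
  exact H210.TC.Row3.of_sq (x := x) (by rw [ho]; exact hr) (by rw [ho]; exact hr6) fun g _ => h g

theorem pp_psp {m : ℕ} (hm : 3 ≤ m) (h4 : m % 4 ≠ 0) (F : Type) [Field F] [Finite F] (h2 : (2 : F) ≠ 0) :
    H494.TC.PP (PSp m F) := by
  obtain ⟨r, x, hr, hr6, ho, h⟩ := psp_prime hm h4 F h2
  exact ⟨x, by rw [ho]; exact hr, by rw [ho]; exact hr6, fun g _ => h g⟩

theorem t6_psp {m : ℕ} (hm : 3 ≤ m) (F : Type) [Field F] [Finite F] (h2 : (2 : F) ≠ 0)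
    (hne : m = 4 → Nat.card F ≠ 3 ∧ Nat.card F ≠ 5 ∧ Nat.card F ≠ 7 ∧ Nat.card F ≠ 17) : H777.T6.T6 (PSp m F) := by
  by_cases h4 : m % 4 = 0
  · obtain ⟨N, hN6, K, _, _, _, ξ, hξ, hξN⟩ := H311.TC6.xi_four F (s := m) (Nat.dvd_of_mod_eq_zero h4) (by omega)
      (odd_card h2) hne
    exact six_psp_of h2 (by omega) (s := m) (by omega) hξ (Or.inl ⟨rfl, Or.inr (Nat.dvd_of_mod_eq_zero h4)⟩) hN6 hξN
  · exact H777.T6.T6.of_row3 (row3_psp hm h4 F h2)

end Cfsg.Agent.H843.TC6
end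
end

-- part: H126/TC/Plus
section
prune_inst 0x300000000000000000010000000000000
set_option linter.all false
open scoped Cfsg.Agent.FastGrp

/-!
# S2464, S2452: `POmega⁺_2m(q)`, `m` even (helper126)

`pp_plus` : one class of elements of prime order `≥ 5` in `GL_(m-1)(q)`; all `q`, `m ≥ 4` even.
-/

set_option autoImplicit false
set_option linter.unusedSectionVars false

namespace Cfsg.Agent.H126.TC

open Module QuadraticMap Matrix Polynomial Cfsg.Agent.LieClassical.OrthCore Cfsg.Agent.LieClassical.OrthTrans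
  Cfsg.Agent.LieClassical.OrthFinite Cfsg.Agent.LieClassical.OrthForms Cfsg.Agent.H140.OreO Cfsg.Agent.H126.PwO
  Cfsg.Agent.H962.PP Cfsg.Agent.H141.SpinFacts Cfsg.Agent.H160.QSpin Cfsg.Agent.H140.TC
open Cfsg.Agent.H434.Corn (MaxTS)

/-- one class of elements of order `s` -/
def SqP {F V : Type*} [Field F] [AddCommGroup V] [Module F V] (Q : QuadraticForm F V) : Prop :=
  ∃ s : ℕ, s.Prime ∧ s.Coprime 6 ∧ ∃ x₀ ∈ Om Q, x₀ ^ s = 1 ∧ (∀ c : F, ∃ v, x₀ v ≠ c • v) ∧ TwoOf Q x₀ x₀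

theorem pp_of_sqP {ι : Type} [Fintype ι] [DecidableEq ι] {F : Type*} [Field F] (Q : QuadraticForm F (ι → F))
    (h : SqP Q) : H494.TC.PP (Cfsg.POmega F ⇑Q) := by
  obtain ⟨s, hs, h6, x₀, hx₀, hxs, hxn, h⟩ := h
  have hx1 : x₀ ≠ 1 := by
    rintro rfl
    obtain ⟨v, hv⟩ := hxn 1
    exact hv (by rw [one_smul]; rfl)
  have hne : (QuotientGroup.mk ((omegaEquiv Q).symm ⟨x₀, hx₀⟩) : Cfsg.POmega F ⇑Q) ≠ 1 := by
    intro h1
    have h2 := (QuotientGroup.eq_one_iff _).1 h1
    obtain ⟨u, hu, v, hv, e⟩ := h x₀ hx₀ hxn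
    have hc : ∀ w (hw : w ∈ Om Q), w * x₀ * w⁻¹ = x₀ := by
      intro w hw
      have h3 := (Subgroup.mem_center_iff.1 h2) ((omegaEquiv Q).symm ⟨w, hw⟩)
      have h4 := congrArg (fun z => ((omegaEquiv Q z : Om Q) : (ι → F) ≃ₗ[F] (ι → F))) h3
      simp only [map_mul, MulEquiv.apply_symm_apply, Subgroup.coe_mul] at h4
      rw [mul_inv_eq_iff_eq_mul]
      exact h4
    rw [hc u hu, hc v hv] at e
    exact hx1 (by simpa using e.symm)
  have hpow : (QuotientGroup.mk ((omegaEquiv Q).symm ⟨x₀, hx₀⟩) : Cfsg.POmega F ⇑Q) ^ s = 1 := by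
    rw [← QuotientGroup.mk_pow, ← map_pow]
    have : (⟨x₀, hx₀⟩ : Om Q) ^ s = 1 := Subtype.ext hxs
    rw [this, map_one]
    rfl
  have hord : orderOf (QuotientGroup.mk ((omegaEquiv Q).symm ⟨x₀, hx₀⟩) : Cfsg.POmega F ⇑Q) = s :=
    orderOf_eq_prime (hp := ⟨hs⟩) hpow hne
  refine ⟨QuotientGroup.mk ((omegaEquiv Q).symm ⟨x₀, hx₀⟩), by rw [hord]; exact hs, by rw [hord]; exact h6,
    fun g hg => ?_⟩
  obtain ⟨g, rfl⟩ := QuotientGroup.mk_surjective g
  have hsc : ∀ c : F, ∃ v, (omegaEquiv Q g : (ι → F) ≃ₗ[F] (ι → F)) v ≠ c • v := by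
    by_contra hs
    push Not at hs
    obtain ⟨c, hc⟩ := hs
    apply hg
    have hcen : g ∈ Subgroup.center (Cfsg.Omega F ⇑Q) := by
      rw [Subgroup.mem_center_iff]
      intro k
      apply (omegaEquiv Q).injective
      rw [map_mul, map_mul]
      apply Subtype.ext
      apply LinearEquiv.ext
      intro v
      show (omegaEquiv Q k : (ι → F) ≃ₗ[F] (ι → F)) ((omegaEquiv Q g : (ι → F) ≃ₗ[F] (ι → F)) v) =
        (omegaEquiv Q g : (ι → F) ≃ₗ[F] (ι → F)) ((omegaEquiv Q k : (ι → F) ≃ₗ[F] (ι → F)) v)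
      rw [hc, hc, map_smul]
    exact (QuotientGroup.eq_one_iff g).2 hcen
  obtain ⟨u, hu, v, hv, e⟩ := h _ (omegaEquiv Q g).2 hsc
  refine ⟨QuotientGroup.mk ((omegaEquiv Q).symm ⟨u, hu⟩), QuotientGroup.mk ((omegaEquiv Q).symm ⟨v, hv⟩), ?_⟩
  have e2 : g = ((omegaEquiv Q).symm ⟨u, hu⟩ * (omegaEquiv Q).symm ⟨x₀, hx₀⟩ * ((omegaEquiv Q).symm ⟨u, hu⟩)⁻¹) *
      ((omegaEquiv Q).symm ⟨v, hv⟩ * (omegaEquiv Q).symm ⟨x₀, hx₀⟩ * ((omegaEquiv Q).symm ⟨v, hv⟩)⁻¹) := by
    apply (omegaEquiv Q).injective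
    simp only [map_mul, map_inv, MulEquiv.apply_symm_apply]
    exact Subtype.ext e
  conv_lhs => rw [e2]
  rfl

variable {F V : Type*} [Field F] [AddCommGroup V] [Module F V] {Q : QuadraticForm F V}

/-- powers of `lev X 1` -/
theorem lev_pow {n : ℕ} {W : Type*} [AddCommGroup W] [Module F W] (X : GL (Fin n) F) (s : ℕ) :
    (lev X (1 : W ≃ₗ[F] W)) ^ s = lev (X ^ s) 1 := by
  induction s with
  | zero => rw [pow_zero, pow_zero, lev_one]
  | succ s ih => rw [pow_succ, pow_succ, ih, ← lev_mul, one_mul]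

/-- `f` irreducible of odd degree `d ≥ 3`, norm one, with roots of prime order `s ≥ 5` -/
theorem exists_one' (F : Type*) [Field F] [Finite F] {d : ℕ} (hd : 3 ≤ d) (hodd : Odd d) :
    ∃ (f : F[X]) (s : ℕ), s.Prime ∧ 5 ≤ s ∧ RP d f ∧ (-1) ^ d * f.coeff 0 = 1 ∧ f ∣ X ^ s - 1 := by
  have hq : 2 ≤ Nat.card F := Finite.one_lt_card
  obtain ⟨s, hs, hs5, -, hsd, hmin⟩ := exists_prime_odd hq hd (by
    rintro ⟨-, rfl⟩
    exact (Nat.not_odd_iff_even.2 (by decide)) hodd)
  obtain ⟨f, hf⟩ := exists_pol F (by omega) hsd hmin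
  refine ⟨f, s, hs, hs5, ⟨hf.monic, hf.irr, hf.deg, hf.cop (not_dvd_add (by omega) hodd hsd hmin ?_)⟩, ?_, ?_⟩
  · intro h
    have := Nat.le_of_dvd (by norm_num) h
    omega
  · have := (hf.coef 1).2 (by rw [mul_one]; exact dvd_div hq hs (by omega) hsd hmin)
    rwa [pow_one] at this
  · exact (hf.dvd s).2 dvd_rfl

theorem mul_dvd_of {f : F[X]} {d s : ℕ} (hf : RP d f) (hd : 2 ≤ d) (h : f ∣ X ^ s - 1) :
    (X - C 1) * f ∣ X ^ s - 1 := by
  have h4 : IsCoprime (X - C 1 : F[X]) f := by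
    rw [(irreducible_X_sub_C (1 : F)).coprime_iff_not_dvd, dvd_iff_isRoot]
    exact hf.eval_ne hd 1
  refine h4.mul_dvd ?_ h
  rw [dvd_iff_isRoot, IsRoot.def, eval_sub, eval_pow, eval_X, eval_one, one_pow, sub_self]

section Fin

variable [Finite F] [FiniteDimensional F V]

/-- **`Ω⁺`, `m` even** -/
theorem sqP_plus (hQ : Nondeg Q) {m : ℕ} (hm : 4 ≤ m) (hev : Even m) (hd : finrank F V = 2 * m)
    (hW : ∀ W, MaxTS Q W → finrank F W = m) {e e' : Fin m → V} (hf : Frame Q e e') :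
    SqP Q := by
  obtain ⟨k, rfl⟩ : ∃ k, m = k + 2 := ⟨m - 2, by omega⟩
  obtain ⟨f, s, hs, hs5, hfr, hN, hdvd⟩ := exists_one' F (show 3 ≤ k + 1 by omega) (by
    obtain ⟨a, ha⟩ := hev
    exact ⟨a - 1, by omega⟩)
  obtain ⟨B, hBf, hB, hBdet⟩ := exists_mat (by omega) hfr
  rw [hN] at hBdet
  have hfin := hf.finrank_perp
  have hfin0 : finrank F (perp Q e e') = 0 := by omega
  have : Subsingleton (perp Q e e') := Module.finrank_zero_iff.1 hfin0
  have hu : ∀ (x : perp Q e e' ≃ₗ[F] perp Q e e') (p : F[X]), Un (x : Module.End F (perp Q e e')) p := fun x p =>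
    isUnit_of_subsingleton _
  have hdb : (blk (1 : F) B).det = 1 := by rw [blk_det, hBdet, one_mul]
  obtain ⟨X₀, hX₀⟩ : ∃ X₀ : GL (Fin (k + 2)) F, (X₀ : Matrix (Fin (k + 2)) (Fin (k + 2)) F) = blk 1 B :=
    exists_gl (by rw [hdb]; exact one_ne_zero)
  have hc : ∀ x : perp Q e e' ≃ₗ[F] perp Q e e', CopP (k + 2) ((X - C 1) * B.charpoly) x := by
    intro x X hX
    rw [hBf] at hX
    exact cop_of_eps (one_mul 1) hX (hfr.eval_ne (by omega) 1) hfr.cop (hu _ _) (hu _ _) (hu _ _)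
  have he : ∀ v, MQ (k + 2) (res Q e e') (hf.toModel v) = Q v := hf.MQ_toModel
  have hOm : lev X₀ (1 : perp Q e e' ≃ₗ[F] perp Q e e') ∈ Om (MQ (k + 2) (res Q e e')) :=
    lev_det_one_mem (good_model hQ (by omega) hf) (by rw [hX₀, hdb])
  have h2 := twoOf hQ (by omega) hW hf (one_mul 1) (one_mul 1) hB hB (by rw [hBf]; exact hfr.eval_ne (by omega) 1)
    (by rw [hBf]; exact hfr.eval_ne (by omega) 1) (by rw [hBdet]; ring) (O _).one_mem (hc _) (hc _) hX₀ hX₀
  rw [inv_one] at h2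
  have hXs : X₀ ^ s = 1 := by
    apply Units.ext
    rw [Units.val_pow_eq_pow_val, hX₀, Units.val_one]
    apply pow_eq_one_of_charpoly
    rw [blk_charpoly, hBf]
    exact mul_dvd_of hfr (by omega) hdvd
  refine ⟨s, hs, coprime_six hs hs5, _, ?_, ?_, ?_, h2⟩
  · rw [← autE_mem_Om he, MulEquiv.apply_symm_apply]; exact hOm
  · rw [← map_pow, lev_pow, hXs, lev_one, map_one]
  · intro c
    by_contra hcon
    push Not at hcon
    have he0 : e 0 ≠ 0 := by
      intro h0
      have h3 := hf.lr 0 0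
      rw [h0, polar_zero_left, if_pos rfl] at h3
      exact zero_ne_one h3
    have hc1 : c = 1 := by
      have h3 := hcon (e 0)
      rw [scale_l hf hX₀ 1, one_smul] at h3
      by_contra hne
      apply he0
      have h4 : (c - 1) • e 0 = 0 := by rw [sub_smul, one_smul, ← h3, sub_self]
      exact (smul_eq_zero.1 h4).resolve_left (sub_ne_zero.2 hne)
    subst hc1
    have h4 : (autE hf.toModel).symm (lev X₀ (1 : perp Q e e' ≃ₗ[F] perp Q e e')) = 1 :=
      LinearEquiv.ext fun v => by rw [hcon v, one_smul]; rfl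
    have h5 : lev X₀ (1 : perp Q e e' ≃ₗ[F] perp Q e e') = 1 := by
      rw [← (autE hf.toModel).apply_symm_apply (lev X₀ 1), h4, map_one]
    have h6 : blk (1 : F) B = 1 := by
      apply Matrix.toLin'.injective
      apply LinearMap.ext
      intro a
      have h7 := LinearEquiv.congr_fun h5 (a, 0, 0)
      rw [lev_apply] at h7
      have h8 := congrArg Prod.fst h7
      rw [hX₀] at h8
      rw [Matrix.toLin'_one, LinearMap.id_apply, Matrix.toLin'_apply]
      exact h8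
    have h7 := congrArg Matrix.charpoly h6
    rw [blk_charpoly, hBf, Matrix.charpoly_one, Fintype.card_fin] at h7
    -- `f` has no root `1`
    have h9 : f ∣ (X - 1 : F[X]) ^ (k + 2) := by
      rw [← h7]
      exact dvd_mul_left _ _
    obtain ⟨a, ha⟩ := (dvd_prime_pow (by
      have := (irreducible_X_sub_C (1 : F)).prime
      rwa [C_1] at this) _).1 h9
    obtain ⟨-, h10⟩ := ha
    have h11 : f.eval 1 = 0 := by
      obtain ⟨u, hu⟩ := h10
      rcases Nat.eq_zero_or_pos a with rfl | ha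
      · exfalso
        rw [pow_zero] at hu
        exact hfr.irr.not_isUnit (IsUnit.of_mul_eq_one _ hu)
      · have h12 := congrArg (eval 1) hu
        rw [eval_mul, eval_pow, eval_sub, eval_X, eval_one, sub_self, zero_pow (by omega)] at h12
        rcases mul_eq_zero.1 h12 with h | h
        · exact h
        · exfalso
          have h13 : IsUnit ((u : F[X]).eval 1) := by
            have := u.isUnit.map (evalRingHom (1 : F))
            simpa using this
          exact h13.ne_zero h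
    exact hfr.eval_ne (by omega) 1 h11

end Fin

/-- **`POmega⁺_2m(q)`, `m ≥ 4` even** -/
theorem pp_plus {F : Type*} [Field F] [Fintype F] {m : ℕ} (hm : 4 ≤ m) (hev : Even m) :
    H494.TC.PP (Cfsg.POmega F (Cfsg.quadFormPlus m F)) := by
  classical
  have hfr : Frame (plusForm m F) (fun i => (Pi.single (Sum.inl i) 1 : Fin m ⊕ Fin m → F))
      (fun i => Pi.single (Sum.inr i) 1) := by
    refine ⟨fun i => ?_, fun i => ?_, fun i j => ?_, fun i j => ?_, fun i j => ?_⟩
    · rw [coe_plusForm, quadFormPlus_apply]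
      simp [Pi.single_apply]
    · rw [coe_plusForm, quadFormPlus_apply]
      simp [Pi.single_apply]
    · rw [polar_plusForm]
      simp [Pi.single_apply]
    · rw [polar_plusForm]
      simp [Pi.single_apply]
    · rw [polar_plusForm]
      simp [Pi.single_apply, eq_comm]
  have h4 : SqP (plusForm m F) := sqP_plus (nondeg_plusForm m F) hm hev (by
    rw [Module.finrank_fintype_fun_eq_card]; simp; ring) (H295.War.witt_plus m) hfr
  have h5 := pp_of_sqP (plusForm m F) h4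
  rw [coe_plusForm] at h5
  exact h5

/-- S4173, S2464, S2452 -/
theorem row3_plus {F : Type*} [Field F] [Fintype F] {m : ℕ} (hm : 4 ≤ m) (hev : Even m) :
    H210.TC.Row3 (Cfsg.POmega F (Cfsg.quadFormPlus m F)) := by
  obtain ⟨x, hx, h6, h⟩ := pp_plus (F := F) hm hev
  exact H210.TC.Row3.of_sq hx h6 h

end Cfsg.Agent.H126.TC
end
end

-- part: H812/TC/OddRow_mg
section
prune_inst 0x300800300000000000000000010000010000000
set_option linter.all false
open scoped Cfsg.Agent.FastGrp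

-- part: H812/TC/Deg
section
/-!
# S2464, row `PSp_4(q)`, `q` odd: the degenerate elements (helper812)

Scalar multiples of transvections and the noncentral involutions of `Sp_4(q)` are, up to sign, products of two
symplectic matrices with characteristic polynomial `X⁴ - tX³ + eX² - tX + 1`, `t ≠ 0`, `e ≠ 2`.
-/

set_option autoImplicit false

namespace Cfsg.Agent.H812.TC.Deg

open Matrix Polynomial

variable {F : Type*} [Field F]

/-- the matrix of `w4` -/
def J4 : Matrix (Fin 4) (Fin 4) F := !![0, 0, 1, 0; 0, 0, 0, 1; -1, 0, 0, 0; 0, -1, 0, 0]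

def Sp (M : Matrix (Fin 4) (Fin 4) F) : Prop := Mᵀ * J4 * M = J4

noncomputable def pol (t e : F) : F[X] := X ^ 4 - C t * X ^ 3 + C e * X ^ 2 - C t * X + 1

def Good (t e : F) (G : Matrix (Fin 4) (Fin 4) F) : Prop :=
  ∃ A B : Matrix (Fin 4) (Fin 4) F, Sp A ∧ Sp B ∧ (A * B = G ∨ A * B = -G) ∧ A.charpoly = pol t e ∧
    B.charpoly = pol t e

theorem charpoly_fin4 (M : Matrix (Fin 4) (Fin 4) F) (t e : F) (h1 : M 0 0 + M 1 1 + M 2 2 + M 3 3 = t)
    (h2 : M 0 0 * M 1 1 - M 0 1 * M 1 0 + (M 0 0 * M 2 2 - M 0 2 * M 2 0) + (M 0 0 * M 3 3 - M 0 3 * M 3 0)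
      + (M 1 1 * M 2 2 - M 1 2 * M 2 1) + (M 1 1 * M 3 3 - M 1 3 * M 3 1) + (M 2 2 * M 3 3 - M 2 3 * M 3 2) = e)
    (h3 : M 0 0 * (M 1 1 * M 2 2 - M 1 2 * M 2 1) - M 0 1 * (M 1 0 * M 2 2 - M 1 2 * M 2 0)
        + M 0 2 * (M 1 0 * M 2 1 - M 1 1 * M 2 0)
      + (M 0 0 * (M 1 1 * M 3 3 - M 1 3 * M 3 1) - M 0 1 * (M 1 0 * M 3 3 - M 1 3 * M 3 0)
        + M 0 3 * (M 1 0 * M 3 1 - M 1 1 * M 3 0))
      + (M 0 0 * (M 2 2 * M 3 3 - M 2 3 * M 3 2) - M 0 2 * (M 2 0 * M 3 3 - M 2 3 * M 3 0)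
        + M 0 3 * (M 2 0 * M 3 2 - M 2 2 * M 3 0))
      + (M 1 1 * (M 2 2 * M 3 3 - M 2 3 * M 3 2) - M 1 2 * (M 2 1 * M 3 3 - M 2 3 * M 3 1)
        + M 1 3 * (M 2 1 * M 3 2 - M 2 2 * M 3 1)) = t) (h4 : M.det = 1) :
    M.charpoly = pol t e := by
  unfold pol
  subst h2
  rw [← C_1, ← h4]
  conv_rhs => rw [show C t * X = C t * X from rfl]
  rw [← h1] at *
  have h3' := congrArg (C : F → F[X]) h3
  rw [Matrix.charpoly, Matrix.det_succ_row_zero, Matrix.det_succ_row_zero]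
  simp only [Fin.sum_univ_succ, Matrix.det_fin_three, Matrix.charmatrix_apply, Matrix.submatrix_apply,
    Matrix.diagonal_apply] at *
  simp only [Fin.succAbove, _root_.Fin.isValue, _root_.map_add, _root_.map_sub, _root_.map_mul, _root_.Nat.succ_eq_add_one, _root_.Nat.reduceAdd, _root_.Fin.coe_ofNat_eq_mod, _root_.Nat.zero_mod, _root_.pow_zero, ↓ _root_.reduceIte, _root_.one_mul, _root_.Fin.succ_zero_eq_one, _root_.Fin.succAbove, _root_.Fin.castSucc_zero, _root_.lt_self_iff_false, _root_.Fin.succ_one_eq_two, _root_.Fin.castSucc_one, _root_.not_lt_zero, _root_.Fin.reduceSucc, _root_.Fin.reduceCastSucc, _root_.Fin.reduceEq, _root_.zero_sub, _root_.mul_neg, _root_.neg_mul, _root_.neg_neg, _root_.Nat.one_mod, _root_.pow_one, _root_.zero_ne_one, _root_.zero_lt_one, _root_.one_ne_zero, _root_.Fin.lt_one_iff, _root_.sub_neg_eq_add, _root_.Nat.reduceMod, _root_.even_two, _root_.Even.neg_pow, _root_.one_pow, _root_.Fin.reduceLT, _root_.Nat.mod_succ,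 _root_.Finset.univ_eq_empty, _root_.Fin.val_succ, _root_.Fin.val_eq_zero, _root_.zero_add, _root_.Fin.succ_pos, _root_.right_eq_ite_iff, _root_.imp_false, _root_.not_lt, _root_.left_eq_ite_iff, _root_.not_le, _root_.Finset.sum_empty, _root_.add_zero, _root_.map_neg, _root_.map_pow, _root_.map_one] at *
  linear_combination (-X) * h3'

theorem Sp.one : Sp (1 : Matrix (Fin 4) (Fin 4) F) := by
  unfold Sp; simp

theorem Sp.mul {A B : Matrix (Fin 4) (Fin 4) F} (hA : Sp A) (hB : Sp B) : Sp (A * B) := by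
  unfold Sp at *
  calc (A * B)ᵀ * J4 * (A * B) = Bᵀ * (Aᵀ * J4 * A) * B := by
        rw [Matrix.transpose_mul]; simp only [Matrix.mul_assoc]
    _ = J4 := by rw [hA, hB]

theorem J4_mul : (J4 : Matrix (Fin 4) (Fin 4) F) * J4 = -1 := by
  ext i j
  (revert i j; simp only [J4, Matrix.mul_apply, Fin.sum_univ_succ, _root_.Fin.forall_fin_succ, _root_.Matrix.of_apply, _root_.Matrix.cons_val', _root_.Matrix.cons_val_fin_one, Fin.isValue, _root_.Matrix.cons_val_zero, _root_.Matrix.cons_val_succ, _root_.Finset.univ_unique, _root_.Fin.default_eq_zero, _root_.Finset.sum_const, _root_.Finset.card_singleton, _root_.one_smul, _root_.Matrix.neg_apply, _root_.MulZeroClass.mul_zero, _root_.mul_neg, _root_.mul_one, _root_.add_zero, _root_.zero_add, _root_.neg_inj, _root_.IsEmpty.forall_iff, _root_.and_true, _root_.Matrix.one_apply_eq, Nat.reduceAdd, _root_.Fin.succ_zero_eq_one, _root_.ne_eq, _root_.zero_ne_one, _root_.not_false_eq_true, _root_.Matrix.one_apply_ne,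 _root_.Fin.succ_one_eq_two, Fin.reduceEq, _root_.neg_zero, Fin.reduceSucc, _root_.and_self, _root_.Fin.succ_ne_zero, _root_.zero_eq_neg, _root_.true_and])

theorem sp_inv {C D : Matrix (Fin 4) (Fin 4) F} (hC : Sp C) (h : C * D = 1) : Sp D := by
  unfold Sp at *
  have h3 : Dᵀ * Cᵀ = 1 := by rw [← Matrix.transpose_mul, h, Matrix.transpose_one]
  have h4 : Dᵀ * (Cᵀ * J4 * C) * D = (Dᵀ * Cᵀ) * J4 * (C * D) := by simp only [Matrix.mul_assoc]
  rw [hC, h3, h, Matrix.one_mul, Matrix.mul_one] at h4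
  exact h4

/-- the inverse of a symplectic matrix -/
theorem Sp.exists_inv {C : Matrix (Fin 4) (Fin 4) F} (hC : Sp C) : ∃ D, Sp D ∧ D * C = 1 ∧ C * D = 1 := by
  obtain ⟨E, hE⟩ : ∃ E, E = -((J4 : Matrix (Fin 4) (Fin 4) F) * Cᵀ * J4) := ⟨_, rfl⟩
  have h1 : E * C = 1 := by
    have h0 : E * C = -(J4 * (Cᵀ * J4 * C)) := by
      rw [hE]; simp only [Matrix.neg_mul, Matrix.mul_assoc]
    have hC' : Cᵀ * J4 * C = J4 := hC
    rw [hC', J4_mul, neg_neg] at h0
    exact h0
  have h2 : C * E = 1 := mul_eq_one_comm.1 h1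
  exact ⟨E, sp_inv hC h2, h1, h2⟩

theorem charpoly_conj {C D M : Matrix (Fin 4) (Fin 4) F} (h : C * D = 1) : (C * M * D).charpoly = M.charpoly := by
  have h' : D * C = 1 := mul_eq_one_comm.1 h
  rw [Matrix.charpoly_mul_comm, ← Matrix.mul_assoc, h', Matrix.one_mul]

theorem Good.conj {t e : F} {G C D : Matrix (Fin 4) (Fin 4) F} (hC : Sp C) (hD : Sp D) (h : C * D = 1)
    (hG : Good t e G) : Good t e (C * G * D) := by
  obtain ⟨A, B, hA, hB, hAB, h1, h2⟩ := hG
  have h' : D * C = 1 := mul_eq_one_comm.1 h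
  have key : C * A * D * (C * B * D) = C * (A * B) * D := by
    calc C * A * D * (C * B * D) = C * A * (D * C) * (B * D) := by simp only [Matrix.mul_assoc]
      _ = _ := by rw [h', Matrix.mul_one]; simp only [Matrix.mul_assoc]
  refine ⟨C * A * D, C * B * D, (hC.mul hA).mul hD, (hC.mul hB).mul hD, ?_, ?_, ?_⟩
  · rw [key]
    rcases hAB with h3 | h3
    · left; rw [h3]
    · right; rw [h3, Matrix.mul_neg, Matrix.neg_mul]
  · rw [charpoly_conj h, h1]
  · rw [charpoly_conj h, h2]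

theorem Good.neg {t e : F} {G : Matrix (Fin 4) (Fin 4) F} (hG : Good t e G) : Good t e (-G) := by
  obtain ⟨A, B, hA, hB, hAB, h1, h2⟩ := hG
  refine ⟨A, B, hA, hB, ?_, h1, h2⟩
  rcases hAB with h3 | h3
  · right; rw [h3, neg_neg]
  · left; rw [h3]

/-- a matrix with given symplectic columns -/
theorem sp_of_cols (c : Fin 4 → Fin 4 → F)
    (h01 : c 0 0 * c 1 2 + c 0 1 * c 1 3 - c 0 2 * c 1 0 - c 0 3 * c 1 1 = 0)
    (h02 : c 0 0 * c 2 2 + c 0 1 * c 2 3 - c 0 2 * c 2 0 - c 0 3 * c 2 1 = 1)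
    (h03 : c 0 0 * c 3 2 + c 0 1 * c 3 3 - c 0 2 * c 3 0 - c 0 3 * c 3 1 = 0)
    (h12 : c 1 0 * c 2 2 + c 1 1 * c 2 3 - c 1 2 * c 2 0 - c 1 3 * c 2 1 = 0)
    (h13 : c 1 0 * c 3 2 + c 1 1 * c 3 3 - c 1 2 * c 3 0 - c 1 3 * c 3 1 = 1)
    (h23 : c 2 0 * c 3 2 + c 2 1 * c 3 3 - c 2 2 * c 3 0 - c 2 3 * c 3 1 = 0) :
    Sp (Matrix.of fun i j => c j i) := by
  unfold Sp
  ext i j
  (revert i j; simp only [J4, Matrix.mul_apply, Fin.sum_univ_succ, _root_.Fin.forall_fin_succ, _root_.Matrix.transpose_apply, _root_.Matrix.of_apply, _root_.Matrix.cons_val', _root_.Matrix.cons_val_fin_one, Fin.isValue, _root_.Matrix.cons_val_zero, _root_.Matrix.cons_val_succ, _root_.Fin.succ_zero_eq_one, _root_.Fin.succ_one_eq_two, _root_.Finset.univ_unique, _root_.Fin.default_eq_zero, _root_.Finset.sum_singleton, Fin.reduceSucc, _root_.MulZeroClass.mul_zero, _root_.mul_neg, _root_.mul_one, _root_.add_zero, _root_.zero_add, _root_.neg_mul, _root_.IsEmpty.forall_iff,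 _root_.and_true, _root_.true_and]) <;> (repeat' with_reducible apply And.intro)
  · ring
  · linear_combination h01
  · linear_combination h02
  · linear_combination h03
  · linear_combination -h01
  · ring
  · linear_combination h12
  · linear_combination h13
  · linear_combination -h02
  · linear_combination -h12
  · ring
  · linear_combination h23
  · linear_combination -h03
  · linear_combination -h13
  · linear_combination -h23
  · ring


/-- a symplectic basis beginning with a given vector -/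
theorem exists_sp_first (t : Fin 4 → F) (ht : t ≠ 0) :
    ∃ C : Matrix (Fin 4) (Fin 4) F, Sp C ∧ C 0 0 = t 0 ∧ C 1 0 = t 1 ∧ C 2 0 = t 2 ∧ C 3 0 = t 3 := by
  by_cases h0 : t 0 = 0
  · by_cases h1 : t 1 = 0
    · by_cases h2 : t 2 = 0
      · have h3 : t 3 ≠ 0 := by
          intro h3
          apply ht
          ext i
          fin_cases i <;> simp [h0, h1, h2, h3]
        refine ⟨_, sp_of_cols ![t, ![1, 0, 0, 0], ![0, -(t 3)⁻¹, 0, 0], ![0, 0, 1, 0]] ?_ ?_ ?_ ?_ ?_ ?_, ?_, ?_, ?_, ?_⟩ <;>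
          simp [h0, h1, h2, h3]
      · refine ⟨_, sp_of_cols ![t, ![- t 3 / t 2, 1, 0, 0], ![-(t 2)⁻¹, 0, 0, 0], ![0, 0, 0, 1]] ?_ ?_ ?_ ?_ ?_ ?_, ?_, ?_, ?_, ?_⟩ <;>
          simp [h0, h1, h2] <;> field_simp <;> ring
    · refine ⟨_, sp_of_cols ![t, ![1, 0, 0, t 2 / t 1], ![0, 0, 0, (t 1)⁻¹], ![0, 0, 1, -(t 0) / t 1]] ?_ ?_ ?_ ?_ ?_ ?_, ?_, ?_, ?_, ?_⟩ <;>
        simp [h0, h1] <;> field_simp <;> ring
  · refine ⟨_, sp_of_cols ![t, ![0, 1, t 3 / t 0, 0], ![0, 0, (t 0)⁻¹, 0], ![0, 0, -(t 1) / t 0, 1]] ?_ ?_ ?_ ?_ ?_ ?_, ?_, ?_, ?_, ?_⟩ <;>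
      simp [h0] <;> field_simp <;> ring

theorem sp_mk (A : Matrix (Fin 4) (Fin 4) F)
    (h01 : A 0 0 * A 2 1 + A 1 0 * A 3 1 - A 2 0 * A 0 1 - A 3 0 * A 1 1 = 0)
    (h02 : A 0 0 * A 2 2 + A 1 0 * A 3 2 - A 2 0 * A 0 2 - A 3 0 * A 1 2 = 1)
    (h03 : A 0 0 * A 2 3 + A 1 0 * A 3 3 - A 2 0 * A 0 3 - A 3 0 * A 1 3 = 0)
    (h12 : A 0 1 * A 2 2 + A 1 1 * A 3 2 - A 2 1 * A 0 2 - A 3 1 * A 1 2 = 0)
    (h13 : A 0 1 * A 2 3 + A 1 1 * A 3 3 - A 2 1 * A 0 3 - A 3 1 * A 1 3 = 1)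
    (h23 : A 0 2 * A 2 3 + A 1 2 * A 3 3 - A 2 2 * A 0 3 - A 3 2 * A 1 3 = 0) : Sp A :=
  sp_of_cols (fun j i => A i j) h01 h02 h03 h12 h13 h23

/-- the transvection `1 + k E₀₂` -/
def T (k : F) : Matrix (Fin 4) (Fin 4) F := !![1, 0, k, 0; 0, 1, 0, 0; 0, 0, 1, 0; 0, 0, 0, 1]

def TA (t a d : F) : Matrix (Fin 4) (Fin 4) F :=
  !![t, 0, a⁻¹, -a⁻¹; t, t, 0, (t ^ 2 + 1) * a⁻¹ * d⁻¹; -a, 0, 0, 0; -(a * d), -(a * d), 0, -t]

def TB (t a d : F) : Matrix (Fin 4) (Fin 4) F :=
  !![0, 0, a⁻¹, 0; 0, t, -a⁻¹, (t ^ 2 + 1) * a⁻¹ * d⁻¹; -a, -(a * d), t, -t; 0, -(a * d), 0, -t]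

theorem sp_TA {t a d : F} (ha : a ≠ 0) (hd : d ≠ 0) : Sp (TA t a d) := by
  refine sp_mk _ ?_ ?_ ?_ ?_ ?_ ?_ <;> simp only [TA, _root_.Cfsg.Agent.H812.TC.Deg.TA, _root_.Fin.isValue, _root_.Matrix.of_apply, _root_.Matrix.cons_val', _root_.Matrix.cons_val_zero, _root_.Matrix.cons_val_fin_one, _root_.Matrix.cons_val_one, _root_.Matrix.cons_val, _root_.MulZeroClass.mul_zero, _root_.mul_neg, _root_.zero_add, _root_.sub_zero, _root_.neg_mul, _root_.sub_neg_eq_add, _root_.add_zero, _root_.neg_neg, _root_.MulZeroClass.zero_mul, _root_.sub_self, _root_.neg_zero] <;> field_simp <;> ring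

theorem sp_TB {t a d : F} (ha : a ≠ 0) (hd : d ≠ 0) : Sp (TB t a d) := by
  refine sp_mk _ ?_ ?_ ?_ ?_ ?_ ?_ <;> simp only [TB, _root_.Cfsg.Agent.H812.TC.Deg.TB, _root_.Fin.isValue, _root_.Matrix.of_apply, _root_.Matrix.cons_val', _root_.Matrix.cons_val_zero, _root_.Matrix.cons_val_fin_one, _root_.Matrix.cons_val_one, _root_.Matrix.cons_val, _root_.mul_neg, _root_.MulZeroClass.zero_mul, _root_.neg_zero, _root_.add_zero, _root_.MulZeroClass.mul_zero, _root_.sub_self, _root_.neg_mul, _root_.sub_neg_eq_add, _root_.zero_add, _root_.sub_zero, _root_.neg_neg, _root_.neg_add_cancel] <;> field_simp <;> ring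

theorem charpoly_TA {t a d : F} (ha : a ≠ 0) (hd : d ≠ 0) : (TA t a d).charpoly = pol t (2 - d) := by
  refine charpoly_fin4 _ _ _ ?_ ?_ ?_ ?_
  · simp only [TA, _root_.Cfsg.Agent.H812.TC.Deg.TA, _root_.Fin.isValue, _root_.Matrix.of_apply, _root_.Matrix.cons_val', _root_.Matrix.cons_val_zero, _root_.Matrix.cons_val_fin_one, _root_.Matrix.cons_val_one, _root_.Matrix.cons_val, _root_.add_zero, _root_.add_neg_cancel_right]
  · simp only [TA, _root_.Cfsg.Agent.H812.TC.Deg.TA, _root_.Fin.isValue, _root_.Matrix.of_apply, _root_.Matrix.cons_val', _root_.Matrix.cons_val_zero, _root_.Matrix.cons_val_fin_one, _root_.Matrix.cons_val_one, _root_.MulZeroClass.zero_mul, _root_.sub_zero, _root_.Matrix.cons_val, _root_.MulZeroClass.mul_zero, _root_.mul_neg, _root_.sub_neg_eq_add, _root_.zero_add, _root_.neg_mul, _root_.neg_neg, _root_.sub_self, _root_.add_zero, _root_.neg_zero]; field_simp; ring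
  · simp only [TA, _root_.Cfsg.Agent.H812.TC.Deg.TA, _root_.Fin.isValue, _root_.Matrix.of_apply, _root_.Matrix.cons_val', _root_.Matrix.cons_val_zero, _root_.Matrix.cons_val_fin_one, _root_.Matrix.cons_val_one, _root_.Matrix.cons_val, _root_.MulZeroClass.mul_zero, _root_.sub_self, _root_.mul_neg, _root_.MulZeroClass.zero_mul, _root_.neg_zero, _root_.sub_neg_eq_add, _root_.zero_add, _root_.sub_zero, _root_.add_zero, _root_.neg_mul, _root_.neg_neg, _root_.zero_sub]; field_simp; ring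
  · rw [Matrix.det_succ_row_zero]
    simp only [Fin.sum_univ_succ, Matrix.det_fin_three, TA, Fin.succAbove, _root_.Nat.succ_eq_add_one, _root_.Nat.reduceAdd, _root_.Cfsg.Agent.H812.TC.Deg.TA, _root_.Fin.isValue, _root_.Matrix.of_apply, _root_.Matrix.cons_val', _root_.Matrix.cons_val_fin_one, _root_.Matrix.cons_val_zero, _root_.Matrix.det_fin_three, _root_.Matrix.submatrix_apply, _root_.Fin.succ_zero_eq_one, _root_.Fin.succAbove, _root_.Fin.castSucc_zero, _root_.Matrix.cons_val_one, _root_.Fin.succ_one_eq_two, _root_.Fin.castSucc_one, _root_.Matrix.cons_val, _root_.Fin.reduceSucc, _root_.Fin.reduceCastSucc, _root_.Fin.sum_univ_succ, _root_.Fin.coe_ofNat_eq_mod, _root_.Nat.zero_mod, _root_.pow_zero, _root_.one_mul, _root_.lt_self_iff_false, ↓ _root_.reduceIte, _root_.not_lt_zero, _root_.MulZeroClass.mul_zero, _root_.mul_neg, _root_.MulZeroClass.zero_mul, _root_.neg_zero, _root_.sub_self, _root_.add_zero, _root_.Fin.val_succ, _root_.Matrix.cons_val_succ,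 _root_.Fin.succ_pos, _root_.neg_mul, _root_.sub_neg_eq_add, _root_.zero_add, _root_.pow_one, _root_.Fin.lt_one_iff, _root_.Fin.reduceEq, _root_.even_two, _root_.Even.neg_pow, _root_.one_pow, _root_.Fin.reduceLT, _root_.neg_neg, _root_.Finset.univ_unique, _root_.Fin.default_eq_zero, _root_.Fin.val_eq_zero, _root_.Finset.sum_neg_distrib, _root_.Finset.sum_singleton]; field_simp; ring

theorem charpoly_TB {t a d : F} (ha : a ≠ 0) (hd : d ≠ 0) : (TB t a d).charpoly = pol t (2 - d) := by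
  refine charpoly_fin4 _ _ _ ?_ ?_ ?_ ?_
  · simp only [TB, _root_.Cfsg.Agent.H812.TC.Deg.TB, _root_.Fin.isValue, _root_.Matrix.of_apply, _root_.Matrix.cons_val', _root_.Matrix.cons_val_zero, _root_.Matrix.cons_val_fin_one, _root_.Matrix.cons_val_one, _root_.zero_add, _root_.Matrix.cons_val, _root_.add_neg_cancel_right]
  · simp only [TB, _root_.Cfsg.Agent.H812.TC.Deg.TB, _root_.Fin.isValue, _root_.Matrix.of_apply, _root_.Matrix.cons_val', _root_.Matrix.cons_val_zero, _root_.Matrix.cons_val_fin_one, _root_.Matrix.cons_val_one, _root_.MulZeroClass.zero_mul, _root_.MulZeroClass.mul_zero, _root_.sub_self, _root_.Matrix.cons_val, _root_.mul_neg, _root_.sub_neg_eq_add, _root_.zero_add, _root_.neg_zero, _root_.add_zero, _root_.neg_mul, _root_.neg_neg, _root_.sub_zero]; field_simp; ring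
  · simp only [TB, _root_.Cfsg.Agent.H812.TC.Deg.TB, _root_.Fin.isValue, _root_.Matrix.of_apply, _root_.Matrix.cons_val', _root_.Matrix.cons_val_zero, _root_.Matrix.cons_val_fin_one, _root_.Matrix.cons_val_one, _root_.Matrix.cons_val, _root_.mul_neg, _root_.neg_mul, _root_.neg_neg, _root_.MulZeroClass.zero_mul, _root_.zero_sub, _root_.neg_zero, _root_.sub_self, _root_.sub_neg_eq_add, _root_.zero_add, _root_.MulZeroClass.mul_zero, _root_.add_zero, _root_.sub_zero]; field_simp; ring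
  · rw [Matrix.det_succ_row_zero]
    simp only [Fin.sum_univ_succ, Matrix.det_fin_three, TB, Fin.succAbove, _root_.Nat.succ_eq_add_one, _root_.Nat.reduceAdd, _root_.Cfsg.Agent.H812.TC.Deg.TB, _root_.Fin.isValue, _root_.Matrix.of_apply, _root_.Matrix.cons_val', _root_.Matrix.cons_val_fin_one, _root_.Matrix.cons_val_zero, _root_.Matrix.det_fin_three, _root_.Matrix.submatrix_apply, _root_.Fin.succ_zero_eq_one, _root_.Fin.succAbove, _root_.Fin.castSucc_zero, _root_.Matrix.cons_val_one, _root_.Fin.succ_one_eq_two, _root_.Fin.castSucc_one, _root_.Matrix.cons_val, _root_.Fin.reduceSucc, _root_.Fin.reduceCastSucc, _root_.Fin.sum_univ_succ, _root_.Fin.coe_ofNat_eq_mod, _root_.Nat.zero_mod, _root_.pow_zero, _root_.MulZeroClass.mul_zero, _root_.lt_self_iff_false, ↓ _root_.reduceIte, _root_.not_lt_zero, _root_.mul_neg, _root_.sub_zero, _root_.neg_mul, _root_.neg_neg, _root_.sub_neg_eq_add, _root_.add_zero, _root_.MulZeroClass.zero_mul, _root_.Fin.val_succ,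 _root_.Matrix.cons_val_succ, _root_.Fin.succ_pos, _root_.sub_self, _root_.zero_add, _root_.pow_one, _root_.Fin.lt_one_iff, _root_.Fin.reduceEq, _root_.neg_zero, _root_.even_two, _root_.Even.neg_pow, _root_.one_pow, _root_.one_mul, _root_.Fin.reduceLT, _root_.Finset.univ_unique, _root_.Fin.default_eq_zero, _root_.Fin.val_eq_zero, _root_.Finset.sum_const_zero]; field_simp; ring

theorem TA_mul_TB {t a d : F} (ha : a ≠ 0) (hd : d ≠ 0) : TA t a d * TB t a d = -T (-2 * t * a⁻¹) := by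
  ext i j
  (revert i j; simp only [TA, TB, T, Matrix.mul_apply, Fin.sum_univ_succ, _root_.Fin.forall_fin_succ, _root_.Matrix.of_apply, _root_.Matrix.cons_val', _root_.Matrix.cons_val_fin_one, Fin.isValue, _root_.Matrix.cons_val_zero, _root_.Matrix.cons_val_succ, _root_.Finset.univ_unique, _root_.Fin.default_eq_zero, _root_.Finset.sum_const, _root_.Finset.card_singleton, _root_.one_smul, _root_.neg_mul, _root_.Matrix.neg_apply, _root_.MulZeroClass.mul_zero, _root_.mul_neg, _root_.add_zero, _root_.zero_add, _root_.neg_inj, _root_.forall_const, _root_.MulZeroClass.zero_mul, _root_.neg_neg, _root_.neg_add_cancel, _root_.neg_zero, _root_.and_true, _root_.true_and, _root_.add_neg_cancel]) <;> (repeat' with_reducible apply And.intro) <;> field_simp <;> ring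

theorem good_T {t e k : F} (h2 : (2 : F) ≠ 0) (ht : t ≠ 0) (he : e ≠ 2) (hk : k ≠ 0) : Good t e (T k) := by
  have ha : -2 * t / k ≠ 0 := div_ne_zero (mul_ne_zero (neg_ne_zero.2 h2) ht) hk
  have hd : 2 - e ≠ 0 := fun h => he (sub_eq_zero.1 h).symm
  refine ⟨TA t (-2 * t / k) (2 - e), TB t (-2 * t / k) (2 - e), sp_TA ha hd, sp_TB ha hd, Or.inr ?_, ?_, ?_⟩
  · rw [TA_mul_TB ha hd]
    congr 2
    field_simp
  · rw [charpoly_TA ha hd]; congr 1; ring
  · rw [charpoly_TB ha hd]; congr 1; ring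

/-- the form -/
def w (x y : Fin 4 → F) : F := x 0 * y 2 + x 1 * y 3 - x 2 * y 0 - x 3 * y 1

theorem w_eq (x y : Fin 4 → F) : w x y = x ⬝ᵥ (J4 *ᵥ y) := by
  simp only [w, J4, Matrix.mulVec, dotProduct, Fin.sum_univ_succ, _root_.Cfsg.Agent.H812.TC.Deg.w, _root_.Fin.isValue, _root_.dotProduct, _root_.Matrix.mulVec, _root_.Cfsg.Agent.H812.TC.Deg.J4, _root_.Matrix.of_apply, _root_.Matrix.cons_val', _root_.Matrix.cons_val_fin_one, _root_.Fin.sum_univ_succ, _root_.Matrix.cons_val_zero, _root_.Matrix.cons_val_succ, _root_.Fin.succ_zero_eq_one, _root_.Fin.succ_one_eq_two, _root_.Finset.univ_unique, _root_.Fin.default_eq_zero, _root_.Finset.sum_singleton, _root_.Fin.reduceSucc, _root_.MulZeroClass.zero_mul, _root_.one_mul, _root_.add_zero, _root_.zero_add, _root_.neg_mul, _root_.mul_neg, _root_.Finset.sum_neg_distrib]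
  ring

theorem Sp.w {G : Matrix (Fin 4) (Fin 4) F} (hG : Sp G) (x y : Fin 4 → F) : w (G *ᵥ x) (G *ᵥ y) = Deg.w x y := by
  have h : Gᵀ * J4 * G = J4 := hG
  rw [w_eq, w_eq]
  conv_rhs => rw [← h]
  rw [← Matrix.mulVec_mulVec, ← Matrix.mulVec_mulVec, Matrix.dotProduct_mulVec x Gᵀ, Matrix.vecMul_transpose]

theorem Sp.cols {C : Matrix (Fin 4) (Fin 4) F} (hC : Sp C) (i j : Fin 4) :
    Deg.w (fun l => C l i) (fun l => C l j) = J4 i j := by
  have h : Cᵀ * J4 * C = J4 := hC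
  have h1 := congrFun (congrFun h i) j
  rw [← h1]
  simp only [Deg.w, J4, Matrix.mul_apply, Fin.sum_univ_succ, _root_.Cfsg.Agent.H812.TC.Deg.w, _root_.Fin.isValue, _root_.Cfsg.Agent.H812.TC.Deg.J4, _root_.Matrix.mul_apply, _root_.Matrix.transpose_apply, _root_.Matrix.of_apply, _root_.Matrix.cons_val', _root_.Matrix.cons_val_fin_one, _root_.Fin.sum_univ_succ, _root_.Matrix.cons_val_zero, _root_.Matrix.cons_val_succ, _root_.Fin.succ_zero_eq_one, _root_.Fin.succ_one_eq_two, _root_.Finset.univ_unique, _root_.Fin.default_eq_zero, _root_.Finset.sum_singleton, _root_.Fin.reduceSucc, _root_.MulZeroClass.mul_zero, _root_.mul_neg, _root_.mul_one, _root_.add_zero, _root_.zero_add, _root_.neg_mul]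
  ring

theorem exists_w_eq_one {x : Fin 4 → F} (hx : x ≠ 0) : ∃ y, Deg.w x y = 1 := by
  obtain ⟨C, hC, h0, h1, h2, h3⟩ := exists_sp_first x hx
  refine ⟨fun l => C l 2, ?_⟩
  have h := hC.cols 0 2
  have hx : (fun l => C l 0) = x := by
    ext l; fin_cases l
    · exact h0
    · exact h1
    · exact h2
    · exact h3
  rw [hx] at h
  rw [h]
  simp [J4]

theorem mul_col (G C : Matrix (Fin 4) (Fin 4) F) (i j : Fin 4) : (G * C) i j = (G *ᵥ fun l => C l j) i := rfl

/-- transvections -/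
theorem good_transv {t e k : F} (h2 : (2 : F) ≠ 0) (ht : t ≠ 0) (he : e ≠ 2) (hk : k ≠ 0) {v : Fin 4 → F} (hv : v ≠ 0)
    {G : Matrix (Fin 4) (Fin 4) F} (hG : ∀ x, G *ᵥ x = x + (k * Deg.w v x) • v) : Good t e G := by
  obtain ⟨C, hC, h0, h1, h2', h3⟩ := exists_sp_first v hv
  have hx : (fun l => C l 0) = v := by
    ext l; fin_cases l
    · exact h0
    · exact h1
    · exact h2'
    · exact h3
  obtain ⟨D, hD, hDC, hCD⟩ := hC.exists_inv
  have key : G * C = C * T k := by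
    ext i j
    rw [mul_col, hG, ← hx]
    simp only [Pi.add_apply, Pi.smul_apply, smul_eq_mul]
    rw [hC.cols]
    (revert j; simp only [J4, T, Matrix.mul_apply, Fin.sum_univ_succ, _root_.Fin.forall_fin_succ, Fin.isValue, _root_.Matrix.of_apply, _root_.Matrix.cons_val', _root_.Matrix.cons_val_fin_one, _root_.Matrix.cons_val_zero, _root_.Matrix.cons_val_succ, _root_.Fin.succ_zero_eq_one, _root_.Fin.succ_one_eq_two, _root_.Finset.univ_unique, _root_.Fin.default_eq_zero, _root_.Finset.sum_singleton, Fin.reduceSucc, _root_.MulZeroClass.mul_zero, _root_.MulZeroClass.zero_mul, _root_.add_zero, _root_.mul_one, _root_.zero_add, _root_.IsEmpty.forall_iff, _root_.and_true, _root_.true_and]) <;> (repeat' with_reducible apply And.intro)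
    ring
  have key2 : G = C * T k * D := by
    rw [← key, Matrix.mul_assoc, hCD, Matrix.mul_one]
  rw [key2]
  exact (good_T h2 ht he hk).conj hC hD hCD

/-- the standard noncentral involution -/
def Z : Matrix (Fin 4) (Fin 4) F := !![-1, 0, 0, 0; 0, 1, 0, 0; 0, 0, -1, 0; 0, 0, 0, 1]

def XA (t g a c : F) : Matrix (Fin 4) (Fin 4) F :=
  !![a, 0, g * t + c * g ^ 2, -g; 1, t + c * g, 0, -a; c, 1, -a, 0; 0, -a, g, -(c * g)]

def XB (t g a c : F) : Matrix (Fin 4) (Fin 4) F :=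
  !![a, g, g * t + c * g ^ 2, 0; 0, -(c * g), -g, a; c, 0, -a, 1; 1, a, 0, t + c * g]

theorem sp_XA {t g a c : F} (h : -a ^ 2 - c * (g * t + c * g ^ 2) + g = 1) : Sp (XA t g a c) := by
  refine sp_mk _ ?_ ?_ ?_ ?_ ?_ ?_ <;> simp only [XA, _root_.Cfsg.Agent.H812.TC.Deg.XA, _root_.Fin.isValue, _root_.Matrix.of_apply, _root_.Matrix.cons_val', _root_.Matrix.cons_val_zero, _root_.Matrix.cons_val_fin_one, _root_.Matrix.cons_val_one, _root_.Matrix.cons_val, _root_.mul_one, _root_.mul_neg, _root_.one_mul, _root_.add_neg_cancel, _root_.MulZeroClass.mul_zero, _root_.sub_self, _root_.MulZeroClass.zero_mul, _root_.sub_zero, _root_.zero_add, _root_.neg_zero, _root_.sub_neg_eq_add, _root_.neg_mul, _root_.neg_neg, _root_.add_zero, _root_.zero_sub]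
  all_goals first
    | ring1
    | linear_combination h

theorem sp_XB {t g a c : F} (h : -a ^ 2 - c * (g * t + c * g ^ 2) + g = 1) : Sp (XB t g a c) := by
  refine sp_mk _ ?_ ?_ ?_ ?_ ?_ ?_ <;> simp only [XB, _root_.Cfsg.Agent.H812.TC.Deg.XB, _root_.Fin.isValue, _root_.Matrix.of_apply, _root_.Matrix.cons_val', _root_.Matrix.cons_val_zero, _root_.Matrix.cons_val_fin_one, _root_.Matrix.cons_val_one, _root_.Matrix.cons_val, _root_.MulZeroClass.mul_zero, _root_.MulZeroClass.zero_mul, _root_.add_zero, _root_.zero_sub, _root_.mul_neg, _root_.one_mul, _root_.sub_self, _root_.sub_neg_eq_add, _root_.mul_one, _root_.sub_zero, _root_.neg_mul]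
  all_goals first
    | ring1
    | linear_combination h

theorem charpoly_XA {t g a c : F} (h : -a ^ 2 - c * (g * t + c * g ^ 2) + g = 1) :
    (XA t g a c).charpoly = pol t (2 - 2 * g) := by
  refine charpoly_fin4 _ _ _ ?_ ?_ ?_ ?_
  · simp only [XA, _root_.Cfsg.Agent.H812.TC.Deg.XA, _root_.Fin.isValue, _root_.Matrix.of_apply, _root_.Matrix.cons_val', _root_.Matrix.cons_val_zero, _root_.Matrix.cons_val_fin_one, _root_.Matrix.cons_val_one, _root_.Matrix.cons_val, _root_.add_neg_cancel_comm, _root_.add_neg_cancel_right]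
  · simp only [XA, _root_.Cfsg.Agent.H812.TC.Deg.XA, _root_.Fin.isValue, _root_.Matrix.of_apply, _root_.Matrix.cons_val', _root_.Matrix.cons_val_zero, _root_.Matrix.cons_val_fin_one, _root_.Matrix.cons_val_one, _root_.mul_one, _root_.sub_zero, _root_.Matrix.cons_val, _root_.mul_neg, _root_.MulZeroClass.mul_zero, _root_.neg_mul, _root_.neg_neg, _root_.MulZeroClass.zero_mul]; linear_combination 2 * h
  · simp only [XA, _root_.Cfsg.Agent.H812.TC.Deg.XA, _root_.Fin.isValue, _root_.Matrix.of_apply, _root_.Matrix.cons_val', _root_.Matrix.cons_val_zero, _root_.Matrix.cons_val_fin_one, _root_.Matrix.cons_val_one, _root_.Matrix.cons_val, _root_.mul_neg, _root_.mul_one, _root_.sub_zero, _root_.one_mul, _root_.MulZeroClass.zero_mul, _root_.neg_zero, _root_.neg_mul, _root_.neg_neg, _root_.MulZeroClass.mul_zero, _root_.sub_neg_eq_add]; linear_combination t * h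
  · rw [Matrix.det_succ_row_zero]
    simp only [Fin.sum_univ_succ, Matrix.det_fin_three, XA, Fin.succAbove, _root_.Nat.succ_eq_add_one, _root_.Nat.reduceAdd, _root_.Cfsg.Agent.H812.TC.Deg.XA, _root_.Fin.isValue, _root_.Matrix.of_apply, _root_.Matrix.cons_val', _root_.Matrix.cons_val_fin_one, _root_.Matrix.cons_val_zero, _root_.Matrix.det_fin_three, _root_.Matrix.submatrix_apply, _root_.Fin.succ_zero_eq_one, _root_.Fin.succAbove, _root_.Fin.castSucc_zero, _root_.Matrix.cons_val_one, _root_.Fin.succ_one_eq_two, _root_.Fin.castSucc_one, _root_.Matrix.cons_val, _root_.Fin.reduceSucc, _root_.Fin.reduceCastSucc, _root_.Fin.sum_univ_succ, _root_.Fin.coe_ofNat_eq_mod, _root_.Nat.zero_mod, _root_.pow_zero, _root_.one_mul, _root_.lt_self_iff_false, ↓ _root_.reduceIte, _root_.not_lt_zero, _root_.mul_neg, _root_.neg_mul, _root_.neg_neg, _root_.MulZeroClass.mul_zero, _root_.MulZeroClass.zero_mul, _root_.sub_zero, _root_.mul_one, _root_.neg_zero, _root_.add_zero,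 _root_.sub_neg_eq_add, _root_.Fin.val_succ, _root_.Matrix.cons_val_succ, _root_.Fin.succ_pos, _root_.zero_add, _root_.pow_one, _root_.Fin.lt_one_iff, _root_.Fin.reduceEq, _root_.even_two, _root_.Even.neg_pow, _root_.one_pow, _root_.Fin.reduceLT, _root_.Finset.univ_unique, _root_.Fin.default_eq_zero, _root_.Fin.val_eq_zero, _root_.Finset.sum_neg_distrib, _root_.Finset.sum_singleton]
    linear_combination (-a ^ 2 - c * (g * t + c * g ^ 2) + g + 1) * h

theorem charpoly_XB {t g a c : F} (h : -a ^ 2 - c * (g * t + c * g ^ 2) + g = 1) :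
    (XB t g a c).charpoly = pol t (2 - 2 * g) := by
  refine charpoly_fin4 _ _ _ ?_ ?_ ?_ ?_
  · simp only [XB, _root_.Cfsg.Agent.H812.TC.Deg.XB, _root_.Fin.isValue, _root_.Matrix.of_apply, _root_.Matrix.cons_val', _root_.Matrix.cons_val_zero, _root_.Matrix.cons_val_fin_one, _root_.Matrix.cons_val_one, _root_.Matrix.cons_val, _root_.add_neg_cancel_comm, _root_.neg_add_cancel_comm_assoc]
  · simp only [XB, _root_.Cfsg.Agent.H812.TC.Deg.XB, _root_.Fin.isValue, _root_.Matrix.of_apply, _root_.Matrix.cons_val', _root_.Matrix.cons_val_zero, _root_.Matrix.cons_val_fin_one, _root_.Matrix.cons_val_one, _root_.mul_neg, _root_.MulZeroClass.mul_zero, _root_.sub_zero, _root_.Matrix.cons_val, _root_.mul_one, _root_.neg_mul, _root_.neg_neg]; linear_combination 2 * h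
  · simp only [XB, _root_.Cfsg.Agent.H812.TC.Deg.XB, _root_.Fin.isValue, _root_.Matrix.of_apply, _root_.Matrix.cons_val', _root_.Matrix.cons_val_zero, _root_.Matrix.cons_val_fin_one, _root_.Matrix.cons_val_one, _root_.Matrix.cons_val, _root_.mul_neg, _root_.neg_mul, _root_.neg_neg, _root_.MulZeroClass.mul_zero, _root_.sub_zero, _root_.MulZeroClass.zero_mul, _root_.neg_zero, _root_.sub_neg_eq_add, _root_.zero_add, _root_.mul_one, _root_.zero_sub, _root_.add_zero, _root_.one_mul]; linear_combination t * h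
  · rw [Matrix.det_succ_row_zero]
    simp only [Fin.sum_univ_succ, Matrix.det_fin_three, XB, Fin.succAbove, _root_.Nat.succ_eq_add_one, _root_.Nat.reduceAdd, _root_.Cfsg.Agent.H812.TC.Deg.XB, _root_.Fin.isValue, _root_.Matrix.of_apply, _root_.Matrix.cons_val', _root_.Matrix.cons_val_fin_one, _root_.Matrix.cons_val_zero, _root_.Matrix.det_fin_three, _root_.Matrix.submatrix_apply, _root_.Fin.succ_zero_eq_one, _root_.Fin.succAbove, _root_.Fin.castSucc_zero, _root_.Matrix.cons_val_one, _root_.Fin.succ_one_eq_two, _root_.Fin.castSucc_one, _root_.Matrix.cons_val, _root_.Fin.reduceSucc, _root_.Fin.reduceCastSucc, _root_.Fin.sum_univ_succ, _root_.Fin.coe_ofNat_eq_mod, _root_.Nat.zero_mod, _root_.pow_zero, _root_.one_mul, _root_.lt_self_iff_false, ↓ _root_.reduceIte, _root_.not_lt_zero, _root_.mul_neg, _root_.neg_mul, _root_.neg_neg, _root_.mul_one, _root_.MulZeroClass.mul_zero, _root_.sub_zero, _root_.MulZeroClass.zero_mul, _root_.add_zero, _root_.sub_neg_eq_add,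 _root_.Fin.val_succ, _root_.Matrix.cons_val_succ, _root_.Fin.succ_pos, _root_.sub_self, _root_.zero_sub, _root_.zero_add, _root_.pow_one, _root_.Fin.lt_one_iff, _root_.Fin.reduceEq, _root_.even_two, _root_.Even.neg_pow, _root_.one_pow, _root_.Fin.reduceLT, _root_.Finset.univ_unique, _root_.Fin.default_eq_zero, _root_.Fin.val_eq_zero, _root_.Finset.sum_const_zero]
    linear_combination (-a ^ 2 - c * (g * t + c * g ^ 2) + g + 1) * h

theorem XA_mul_XB {t g a c : F} (h : -a ^ 2 - c * (g * t + c * g ^ 2) + g = 1) : XA t g a c * XB t g a c = Z := by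
  ext i j
  (revert i j; simp only [XA, XB, Z, Matrix.mul_apply, Fin.sum_univ_succ, _root_.Fin.forall_fin_succ, _root_.Matrix.of_apply, _root_.Matrix.cons_val', _root_.Matrix.cons_val_fin_one, Fin.isValue, _root_.Matrix.cons_val_zero, _root_.Matrix.cons_val_succ, _root_.Finset.univ_unique, _root_.Fin.default_eq_zero, _root_.Finset.sum_const, _root_.Finset.card_singleton, _root_.one_smul, _root_.MulZeroClass.mul_zero, _root_.mul_one, _root_.zero_add, _root_.mul_neg, _root_.add_zero, _root_.forall_const, _root_.MulZeroClass.zero_mul, _root_.neg_zero, _root_.neg_mul, _root_.one_mul, _root_.add_neg_cancel, _root_.neg_neg, _root_.and_true, _root_.true_and]) <;> (repeat' with_reducible apply And.intro)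
  all_goals first
    | ring1
    | linear_combination h
    | linear_combination -h


theorem good_Z [Fintype F] (hF : Fintype.card F % 2 = 1) (h2 : (2 : F) ≠ 0) {t e : F} (he : e ≠ 2) :
    Good t e (Z : Matrix (Fin 4) (Fin 4) F) := by
  obtain ⟨g, hg⟩ : ∃ g : F, g = 1 - e / 2 := ⟨_, rfl⟩
  have hg0 : g ≠ 0 := by
    rw [hg]
    intro h
    apply he
    field_simp at h
    linear_combination -h
  have heg : e = 2 - 2 * g := by rw [hg]; field_simp; ring
  obtain ⟨a, c, hac⟩ := FiniteField.exists_root_sum_quadratic (R := F) (f := X ^ 2)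
    (g := C (g ^ 2) * X ^ 2 + C (g * t) * X + C (1 - g)) (by simp only [_root_.Polynomial.degree_pow, _root_.Polynomial.degree_X, _root_.nsmul_eq_mul, _root_.Nat.cast_ofNat, _root_.mul_one]) (degree_quadratic (pow_ne_zero 2 hg0)) hF
  simp only [eval_pow, eval_X, eval_add, eval_mul, eval_C] at hac
  have h : -a ^ 2 - c * (g * t + c * g ^ 2) + g = 1 := by linear_combination -hac
  refine ⟨XA t g a c, XB t g a c, sp_XA h, sp_XB h, Or.inl (XA_mul_XB h), ?_, ?_⟩
  · rw [charpoly_XA h, heg]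
  · rw [charpoly_XB h, heg]

theorem w_add_right (x y z : Fin 4 → F) : Deg.w x (y + z) = Deg.w x y + Deg.w x z := by
  simp only [Deg.w, _root_.Cfsg.Agent.H812.TC.Deg.w, _root_.Fin.isValue, _root_.Pi.add_apply]; ring
theorem w_sub_right (x y z : Fin 4 → F) : Deg.w x (y - z) = Deg.w x y - Deg.w x z := by
  simp only [Deg.w, _root_.Cfsg.Agent.H812.TC.Deg.w, _root_.Fin.isValue, _root_.Pi.sub_apply]; ring
theorem w_smul_right (c : F) (x y : Fin 4 → F) : Deg.w x (c • y) = c * Deg.w x y := by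
  simp only [Deg.w, _root_.Cfsg.Agent.H812.TC.Deg.w, _root_.Fin.isValue, _root_.Pi.smul_apply, _root_.smul_eq_mul]; ring
theorem w_neg_left (x y : Fin 4 → F) : Deg.w (-x) y = - Deg.w x y := by
  simp only [Deg.w, _root_.Cfsg.Agent.H812.TC.Deg.w, _root_.Fin.isValue, _root_.Pi.neg_apply, _root_.neg_mul, _root_.sub_neg_eq_add, _root_.neg_sub]; ring
theorem w_swap (x y : Fin 4 → F) : Deg.w x y = - Deg.w y x := by
  simp only [Deg.w, _root_.Cfsg.Agent.H812.TC.Deg.w, _root_.Fin.isValue, _root_.neg_sub]; ring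

/-- noncentral involutions -/
theorem good_inv [Fintype F] (hF : Fintype.card F % 2 = 1) (h2 : (2 : F) ≠ 0) {t e : F} (he : e ≠ 2)
    {G : Matrix (Fin 4) (Fin 4) F} (hG : Sp G) (hGG : G * G = 1) (h1 : G ≠ 1) (hm : G ≠ -1) : Good t e G := by
  have hGx : ∀ x, G *ᵥ (G *ᵥ x) = x := fun x => by rw [Matrix.mulVec_mulVec, hGG, Matrix.one_mulVec]
  obtain ⟨x, hx⟩ : ∃ x, G *ᵥ x ≠ x := by
    by_contra hcon
    push Not at hcon
    apply h1
    apply Matrix.mulVec_injective
    ext x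
    rw [hcon, Matrix.one_mulVec]
  obtain ⟨y, hy⟩ : ∃ y, G *ᵥ y ≠ -y := by
    by_contra hcon
    push Not at hcon
    apply hm
    apply Matrix.mulVec_injective
    ext x
    rw [hcon, Matrix.neg_mulVec, Matrix.one_mulVec]
  obtain ⟨u, hu⟩ : ∃ u, u = G *ᵥ x - x := ⟨_, rfl⟩
  obtain ⟨v, hv⟩ : ∃ v, v = G *ᵥ y + y := ⟨_, rfl⟩
  have hu0 : u ≠ 0 := by rw [hu]; exact sub_ne_zero.2 hx
  have hv0 : v ≠ 0 := by
    rw [hv]
    intro h
    exact hy (eq_neg_of_add_eq_zero_left h)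
  have hGu : G *ᵥ u = -u := by rw [hu, Matrix.mulVec_sub, hGx]; abel
  have hGv : G *ᵥ v = v := by rw [hv, Matrix.mulVec_add, hGx]; abel
  obtain ⟨u', hu'⟩ := exists_w_eq_one hu0
  obtain ⟨v', hv'⟩ := exists_w_eq_one hv0
  obtain ⟨f, hf⟩ : ∃ f, f = (2 : F)⁻¹ • (u' - G *ᵥ u') := ⟨_, rfl⟩
  obtain ⟨k, hk⟩ : ∃ k, k = (2 : F)⁻¹ • (v' + G *ᵥ v') := ⟨_, rfl⟩
  have hGf : G *ᵥ f = -f := by
    rw [hf, Matrix.mulVec_smul, Matrix.mulVec_sub, hGx, ← smul_neg]
    congr 1
    abel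
  have hGk : G *ᵥ k = k := by
    rw [hk, Matrix.mulVec_smul, Matrix.mulVec_add, hGx]
    congr 1
    abel
  have e1 : Deg.w u (G *ᵥ u') = -1 := by
    rw [← hG.w, hGu, hGx, w_neg_left, hu']
  have e2 : Deg.w v (G *ᵥ v') = 1 := by
    rw [← hG.w, hGv, hGx, hv']
  have huf : Deg.w u f = 1 := by
    rw [hf, w_smul_right, w_sub_right, hu', e1]
    field_simp
    norm_num
  have hvk : Deg.w v k = 1 := by
    rw [hk, w_smul_right, w_add_right, hv', e2]
    field_simp
    norm_num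
  have orth : ∀ a b, G *ᵥ a = -a → G *ᵥ b = b → Deg.w a b = 0 := by
    intro a b ha hb
    have h := hG.w a b
    rw [ha, hb, w_neg_left] at h
    have h' : (2 : F) * Deg.w a b = 0 := by linear_combination -h
    exact (mul_eq_zero.1 h').resolve_left h2
  have hC : Sp (Matrix.of fun i j => (![u, v, f, k] : Fin 4 → Fin 4 → F) j i) := by
    refine sp_of_cols ![u, v, f, k] ?_ ?_ ?_ ?_ ?_ ?_
    · exact orth u v hGu hGv
    · exact huf
    · exact orth u k hGu hGk
    · show Deg.w v f = 0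
      rw [w_swap, orth f v hGf hGv, neg_zero]
    · exact hvk
    · exact orth f k hGf hGk
  obtain ⟨C, hCe⟩ : ∃ C, C = (Matrix.of fun i j => (![u, v, f, k] : Fin 4 → Fin 4 → F) j i) := ⟨_, rfl⟩
  rw [← hCe] at hC
  obtain ⟨D, hD, hDC, hCD⟩ := hC.exists_inv
  have c0 : (fun l => C l 0) = u := by rw [hCe]; rfl
  have c1 : (fun l => C l 1) = v := by rw [hCe]; rfl
  have c2 : (fun l => C l 2) = f := by rw [hCe]; rfl
  have c3 : (fun l => C l 3) = k := by rw [hCe]; rfl
  have key : G * C = C * Z := by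
    ext i j
    rw [mul_col]
    fin_cases j
    · show (G *ᵥ fun l => C l 0) i = _
      rw [c0, hGu, ← c0]
      simp [Z, Matrix.mul_apply, Fin.sum_univ_succ]
    · show (G *ᵥ fun l => C l 1) i = _
      rw [c1, hGv, ← c1]
      simp [Z, Matrix.mul_apply, Fin.sum_univ_succ]
    · show (G *ᵥ fun l => C l 2) i = _
      rw [c2, hGf, ← c2]
      simp [Z, Matrix.mul_apply, Fin.sum_univ_succ]
    · show (G *ᵥ fun l => C l 3) i = _
      rw [c3, hGk, ← c3]
      simp [Z, Matrix.mul_apply, Fin.sum_univ_succ]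
  have key2 : G = C * Z * D := by
    rw [← key, Matrix.mul_assoc, hCD, Matrix.mul_one]
  rw [key2]
  exact (good_Z hF h2 he).conj hC hD hCD

end Cfsg.Agent.H812.TC.Deg
end

-- part: H7/TC/SpFour
section
/-!
# S2464, row `PSp_4(q)`: the frame lemma (helper7)

`V` a symplectic space of dimension 4 over a field with at least 4 elements, `g` an isometry with
`ω(u, g u) ≠ 0` for some `u`. Then `g` is a scalar times a transvection, or there are `x, y` with
`ω(x, y) = 0`, `ω(y, g x) = 0`, `ω(x, g x) ≠ 0`, `ω(y, g y) ≠ 0`.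
-/

set_option autoImplicit false

namespace Cfsg.Agent.H7.TC

open Module

variable {F V : Type*} [Field F] [AddCommGroup V] [Module F V]

/-- the frame with two prescribed vectors -/
def HasFrame (ω : LinearMap.BilinForm F V) (g : V →ₗ[F] V) : Prop :=
  ∃ x y : V, ω x y = 0 ∧ ω y (g x) = 0 ∧ ω x (g x) ≠ 0 ∧ ω y (g y) ≠ 0

theorem exists_ne_affine {A B : F} (hB : B ≠ 0) : ∃ p : F, A + B * p ≠ 0 := by
  by_cases hA : A = 0
  · exact ⟨1, by rw [hA, zero_add, mul_one]; exact hB⟩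
  · exact ⟨0, by rw [mul_zero, add_zero]; exact hA⟩

section
variable {ω : LinearMap.BilinForm F V} {g : V →ₗ[F] V} {u u₁ w₀ w₁ : V} {s c β β₀ β₁ d : F}

theorem caseB (ha : ω.IsAlt) (hs : s ≠ 0) (h1 : ω u u₁ = s) (h2 : ω u w₀ = 0) (h3 : ω u w₁ = 0)
    (h4 : ω u₁ w₀ = 0) (h5 : ω u₁ w₁ = 0) (h6 : ω w₀ w₁ = 1) (gu : g u = u₁)
    (gu₁ : g u₁ = -u + β • u₁ + (c * s * β₁) • w₀ + (-(c * s * β₀)) • w₁)
    (gw₀ : g w₀ = β₀ • u₁ + c • w₀) (gw₁ : g w₁ = β₁ • u₁ + c • w₁) (hc : c * c = 1) (hβ : β₀ ≠ 0)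
    (hd0 : d ≠ 0) (hd1 : 1 + d ≠ 0) (hd2 : 2 + d ≠ 0) : HasFrame ω g := by
  have n0 : ∀ x, ω x x = 0 := ha
  have n1 : ω u₁ u = -s := by rw [← h1, ha.neg_eq]
  have n2 : ω w₀ u = 0 := by rw [← ha.neg_eq, h2, neg_zero]
  have n3 : ω w₁ u = 0 := by rw [← ha.neg_eq, h3, neg_zero]
  have n4 : ω w₀ u₁ = 0 := by rw [← ha.neg_eq, h4, neg_zero]
  have n5 : ω w₁ u₁ = 0 := by rw [← ha.neg_eq, h5, neg_zero]
  have n6 : ω w₁ w₀ = -1 := by rw [← ha.neg_eq, h6]
  obtain ⟨p, hp⟩ := exists_ne_affine (A := s * (1 - c * (1 + d) * β + (1 + d) * (1 + d)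
    + (2 + d) * (β₁ * (c * s * β₀ * (1 + d) / d)))) (B := s * ((2 + d) * β₀))
    (mul_ne_zero hs (mul_ne_zero hd2 hβ))
  have e1 : ω (u + (d / β₀) • w₀) (g (u + (d / β₀) • w₀)) = s * (1 + d) := by
    simp only [map_add, map_smul, LinearMap.add_apply, LinearMap.smul_apply, smul_eq_mul, gu, gw₀, n0, h1, h2, n4]
    field_simp
    ring
  have e2 : ∀ r : F, ω (u + (-(c * (1 + d))) • u₁ + p • w₀ + r • w₁)
      (g (u + (-(c * (1 + d))) • u₁ + p • w₀ + r • w₁)) =
        s * (1 - c * (1 + d) * β + (1 + d) * (1 + d) + (2 + d) * (β₁ * r)) + s * ((2 + d) * β₀) * p := by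
    intro r
    simp only [map_add, map_smul, map_neg, LinearMap.add_apply, LinearMap.smul_apply,
      smul_eq_mul, gu, gu₁, gw₀, gw₁, n0, h1, h2, h3, h4, h5, h6, n1, n2, n3, n4, n5, n6]
    linear_combination (s * ((1 + d) * (1 + d) + (1 + d) * (p * β₀ + r * β₁))) * hc
  refine ⟨u + (d / β₀) • w₀, u + (-(c * (1 + d))) • u₁ + p • w₀ + (c * s * β₀ * (1 + d) / d) • w₁, ?_, ?_, ?_, ?_⟩
  · simp only [map_add, map_smul, LinearMap.add_apply, LinearMap.smul_apply, smul_eq_mul, n0, h1, h2, h3, n2, n4, h6]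
    field_simp
    ring
  · simp only [map_add, map_smul, LinearMap.add_apply, LinearMap.smul_apply, smul_eq_mul, gu, gw₀, n0, h1, h2, h4, n4,
      n5, n6]
    field_simp
    linear_combination (-(s * β₀ * d * (1 + d))) * hc
  · rw [e1]
    exact mul_ne_zero hs hd1
  · rw [e2]
    exact hp

/-- the case of trivial action on the complement -/
theorem caseA (ha : ω.IsAlt) (hs : s ≠ 0) (h1 : ω u u₁ = s) (h2 : ω u w₀ = 0) (h3 : ω u w₁ = 0)
    (h4 : ω u₁ w₀ = 0) (h5 : ω u₁ w₁ = 0) (h6 : ω w₀ w₁ = 1) (gu : g u = u₁)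
    (gu₁ : g u₁ = -u + β • u₁) (gw₀ : g w₀ = c • w₀) (gw₁ : g w₁ = c • w₁) (hc : c * c = 1)
    (hβ : c * β ≠ 2) : HasFrame ω g := by
  have n0 : ∀ x, ω x x = 0 := ha
  have n1 : ω u₁ u = -s := by rw [← h1, ha.neg_eq]
  have n2 : ω w₀ u = 0 := by rw [← ha.neg_eq, h2, neg_zero]
  have n3 : ω w₁ u = 0 := by rw [← ha.neg_eq, h3, neg_zero]
  have n4 : ω w₀ u₁ = 0 := by rw [← ha.neg_eq, h4, neg_zero]
  have n5 : ω w₁ u₁ = 0 := by rw [← ha.neg_eq, h5, neg_zero]
  have n6 : ω w₁ w₀ = -1 := by rw [← ha.neg_eq, h6]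
  have e1 : ω (u + w₀) (g (u + w₀)) = s := by
    simp only [map_add, map_smul, LinearMap.add_apply, smul_eq_mul, gu, gw₀, n0, h1, h2, n4]
    ring
  have e2 : ω (u₁ + (-c) • u + (-s) • w₁) (g (u₁ + (-c) • u + (-s) • w₁)) = s * (2 - c * β) := by
    simp only [map_add, map_smul, map_neg, LinearMap.add_apply, LinearMap.smul_apply,
      smul_eq_mul, gu, gu₁, gw₁, n0, h1, h3, h5, n1, n3, n5]
    linear_combination s * hc
  refine ⟨u + w₀, u₁ + (-c) • u + (-s) • w₁, ?_, ?_, ?_, ?_⟩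
  · simp only [map_add, map_smul, LinearMap.add_apply, smul_eq_mul, n0, h1, h3, n2, n4, h6]
    ring
  · simp only [map_add, map_smul, LinearMap.add_apply, LinearMap.smul_apply, smul_eq_mul, gu, gw₀, n0, h1, h2, h4, n5,
      n6]
    ring
  · rw [e1]
    exact hs
  · rw [e2]
    exact mul_ne_zero hs (sub_ne_zero.2 (Ne.symm hβ))

end

/-- the frame lemma -/
theorem frame [FiniteDimensional F V] (ω : LinearMap.BilinForm F V) (ha : ω.IsAlt)
    (hn : ∀ x, (∀ y, ω x y = 0) → x = 0) (h4 : finrank F V = 4) (g : V →ₗ[F] V)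
    (hg : ∀ x y, ω (g x) (g y) = ω x y) (hF : ∃ d : F, d ≠ 0 ∧ 1 + d ≠ 0 ∧ 2 + d ≠ 0)
    (hu : ∃ u, ω u (g u) ≠ 0) :
    (∃ (c k : F) (t : V), c * c = 1 ∧ ∀ x, g x = c • (x + (k * ω t x) • t)) ∨ HasFrame ω g := by
  classical
  obtain ⟨d, hd0, hd1, hd2⟩ := hF
  obtain ⟨u, hu⟩ := hu
  obtain ⟨s, hs'⟩ : ∃ s, ω u (g u) = s := ⟨_, rfl⟩
  obtain ⟨u₁, gu⟩ : ∃ u₁, g u = u₁ := ⟨_, rfl⟩
  rw [hs'] at hu
  have h1 : ω u u₁ = s := by rw [← gu, hs']
  have n0 : ∀ x, ω x x = 0 := ha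
  have n1 : ω u₁ u = -s := by rw [← h1, ha.neg_eq]
  -- the complement
  obtain ⟨w₀, hw₀, hw₀0⟩ : ∃ w, w ∈ LinearMap.ker ((ω u).prod (ω u₁)) ∧ w ≠ 0 := by
    have hk : LinearMap.ker ((ω u).prod (ω u₁)) ≠ ⊥ := by
      apply LinearMap.ker_ne_bot_of_finrank_lt
      rw [h4, Module.finrank_prod, Module.finrank_self]
      norm_num
    exact (Submodule.ne_bot_iff _).1 hk
  have hw₀' : ω u w₀ = 0 ∧ ω u₁ w₀ = 0 := by
    have h := LinearMap.mem_ker.1 hw₀
    exact ⟨congrArg Prod.fst h, congrArg Prod.snd h⟩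
  obtain ⟨h2, h4'⟩ := hw₀'
  have n2 : ω w₀ u = 0 := by rw [← ha.neg_eq, h2, neg_zero]
  have n4 : ω w₀ u₁ = 0 := by rw [← ha.neg_eq, h4', neg_zero]
  obtain ⟨w₁, h3, h5, h6⟩ : ∃ w, ω u w = 0 ∧ ω u₁ w = 0 ∧ ω w₀ w = 1 := by
    obtain ⟨v, hv⟩ : ∃ v, ω w₀ v ≠ 0 := by
      by_contra hcon
      push Not at hcon
      exact hw₀0 (hn _ hcon)
    refine ⟨(ω w₀ v)⁻¹ • (v + (-(ω u v / s)) • u₁ + (ω u₁ v / s) • u), ?_, ?_, ?_⟩
    · simp only [map_add, map_smul, smul_eq_mul, n0, h1]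
      field_simp
      ring
    · simp only [map_add, map_smul, smul_eq_mul, n0, n1]
      field_simp
      ring
    · simp only [map_add, map_smul, smul_eq_mul, n2, n4]
      field_simp
      ring
  have n3 : ω w₁ u = 0 := by rw [← ha.neg_eq, h3, neg_zero]
  have n5 : ω w₁ u₁ = 0 := by rw [← ha.neg_eq, h5, neg_zero]
  have n6 : ω w₁ w₀ = -1 := by rw [← ha.neg_eq, h6]
  -- the basis
  have hli : LinearIndependent F ![u, u₁, w₀, w₁] := by
    rw [Fintype.linearIndependent_iff]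
    intro a hsum
    simp only [Fin.sum_univ_four, Matrix.cons_val_zero, Matrix.cons_val_one, Matrix.cons_val] at hsum
    have e1 := congrArg (ω u) hsum
    have e2 := congrArg (ω u₁) hsum
    have e3 := congrArg (ω w₀) hsum
    have e4 := congrArg (ω w₁) hsum
    simp only [map_add, map_smul, smul_eq_mul, map_zero, n0, h1, h2, h3, h4', h5, h6, n1, n2, n3, n4, n5, n6,
      mul_zero, add_zero, zero_add, mul_one, mul_neg, neg_eq_zero, mul_eq_zero, hu, or_false] at e1 e2 e3 e4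
    intro i
    fin_cases i
    · exact e2
    · exact e1
    · exact e4
    · exact e3
  let b : Basis (Fin 4) F V := basisOfLinearIndependentOfCardEqFinrank hli (by rw [h4, Fintype.card_fin])
  have hexp : ∀ x : V, ∃ a0 a1 a2 a3 : F, x = a0 • u + a1 • u₁ + a2 • w₀ + a3 • w₁ := by
    intro x
    refine ⟨b.repr x 0, b.repr x 1, b.repr x 2, b.repr x 3, ?_⟩
    conv_lhs => rw [← b.sum_repr x]
    rw [Fin.sum_univ_four]
    simp only [b, coe_basisOfLinearIndependentOfCardEqFinrank, Matrix.cons_val_zero, Matrix.cons_val_one,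
      Matrix.cons_val]
  by_cases hno : ∃ v, ω u v = 0 ∧ ω v (g u) = 0 ∧ ω v (g v) ≠ 0
  · obtain ⟨v, hv1, hv2, hv3⟩ := hno
    exact Or.inr ⟨u, v, hv1, hv2, by rw [hs']; exact hu, hv3⟩
  push Not at hno
  obtain ⟨α₀, β₀, γ₀, δ₀, gw₀⟩ := hexp (g w₀)
  obtain ⟨α₁, β₁, γ₁, δ₁, gw₁⟩ := hexp (g w₁)
  obtain ⟨α, β, γ, δ, gu₁⟩ := hexp (g u₁)
  have E1 : α₀ = 0 := by
    have := hg w₀ u
    rw [gw₀, gu] at this
    simp only [map_add, map_smul, LinearMap.add_apply, LinearMap.smul_apply, smul_eq_mul, n0, h1, n2, n4, n5,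
      mul_zero, add_zero, mul_eq_zero, hu, or_false] at this
    exact this
  have E2 : α₁ = 0 := by
    have := hg w₁ u
    rw [gw₁, gu] at this
    simp only [map_add, map_smul, LinearMap.add_apply, LinearMap.smul_apply, smul_eq_mul, n0, h1, n3, n4, n5,
      mul_zero, add_zero, mul_eq_zero, hu, or_false] at this
    exact this
  subst E1 E2
  have E3 : δ₀ = 0 := by
    have := hno w₀ h2 (by rw [gu]; exact n4)
    rw [gw₀] at this
    simp only [map_add, map_smul, smul_eq_mul, n0, n4, n2, h6, mul_zero, add_zero, zero_add, mul_one] at this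
    exact this
  have E4 : γ₁ = 0 := by
    have := hno w₁ h3 (by rw [gu]; exact n5)
    rw [gw₁] at this
    simp only [map_add, map_smul, smul_eq_mul, n0, n5, n3, n6, mul_zero, add_zero, zero_add, mul_neg, mul_one,
      neg_eq_zero] at this
    exact this
  subst E3 E4
  have E5 : δ₁ = γ₀ := by
    have := hno (w₀ + w₁) (by rw [map_add, h2, h3, add_zero]) (by
      rw [gu, LinearMap.map_add₂, n4, n5, add_zero])
    rw [g.map_add, gw₀, gw₁] at this
    simp only [map_add, map_smul, LinearMap.add_apply, smul_eq_mul, n0, n2, n3, n4, n5, n6, h6] at this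
    linear_combination this
  subst E5
  have hc : δ₁ * δ₁ = 1 := by
    have := hg w₀ w₁
    rw [gw₀, gw₁, h6] at this
    simp only [map_add, map_smul, LinearMap.add_apply, LinearMap.smul_apply, smul_eq_mul, n0, n1, n2, n3, n4, n5, n6,
      h1, h2, h3, h4', h5, h6] at this
    linear_combination this
  have E6 : α = -1 := by
    have := hg u₁ u
    rw [gu₁, gu, n1] at this
    simp only [map_add, map_smul, LinearMap.add_apply, LinearMap.smul_apply, smul_eq_mul, n0, n4, n5, h1] at this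
    apply mul_right_cancel₀ hu
    linear_combination this
  subst E6
  have hγ : γ = δ₁ * s * β₁ := by
    have := hg u₁ w₁
    rw [gu₁, gw₁, h5] at this
    simp only [map_add, map_smul, LinearMap.add_apply, LinearMap.smul_apply, smul_eq_mul, n0, n4, n5, h1, h2, h3, h4',
      h5, h6] at this
    linear_combination δ₁ * this - γ * hc
  have hδ : δ = -(δ₁ * s * β₀) := by
    have := hg u₁ w₀
    rw [gu₁, gw₀, h4'] at this
    simp only [map_add, map_smul, LinearMap.add_apply, LinearMap.smul_apply, smul_eq_mul, n0, n4, n5, n6, h1, h2, h3,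
      h4', h5] at this
    linear_combination -δ₁ * this - δ * hc
  subst hγ hδ
  rw [zero_smul, zero_add, zero_smul, add_zero] at gw₀
  rw [zero_smul, zero_add, zero_smul, add_zero] at gw₁
  rw [neg_smul, one_smul] at gu₁
  by_cases hb0 : β₀ = 0
  · by_cases hb1 : β₁ = 0
    · subst hb0 hb1
      rw [zero_smul, zero_add] at gw₀ gw₁
      rw [mul_zero, neg_zero, zero_smul, add_zero, zero_smul, add_zero] at gu₁
      by_cases hcb : δ₁ * β = 2
      · left
        refine ⟨δ₁, -(δ₁ / s), δ₁ • u₁ - u, hc, fun x => ?_⟩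
        obtain ⟨a0, a1, a2, a3, rfl⟩ := hexp x
        have hb : β = 2 * δ₁ := by linear_combination δ₁ * hcb - β * hc
        have ht : ω (δ₁ • u₁ - u) (a0 • u + a1 • u₁ + a2 • w₀ + a3 • w₁) = -(s * (δ₁ * a0 + a1)) := by
          simp only [map_add, map_smul, map_sub, LinearMap.sub_apply, LinearMap.smul_apply, smul_eq_mul, n0, n1, h1,
            h2, h3, h4', h5]
          ring
        rw [ht]
        have hk : -(δ₁ / s) * -(s * (δ₁ * a0 + a1)) = a0 + δ₁ * a1 := by
          field_simp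
          linear_combination a0 * hc
        rw [hk, map_add, map_add, map_add, map_smul, map_smul, map_smul, map_smul, gu, gu₁, gw₀, gw₁, hb]
        match_scalars
        · linear_combination (-(a0 + δ₁ * a1)) * hc
        · linear_combination a1 * hc
        · ring
        · ring
      · exact Or.inr (caseA ha hu h1 h2 h3 h4' h5 h6 gu gu₁ gw₀ gw₁ hc hcb)
    · subst hb0
      have h7 : ω w₁ (-w₀) = 1 := by rw [map_neg, n6, neg_neg]
      have h8 : ω u (-w₀) = 0 := by rw [map_neg, h2, neg_zero]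
      have h9 : ω u₁ (-w₀) = 0 := by rw [map_neg, h4', neg_zero]
      refine Or.inr (caseB (β₀ := β₁) (β₁ := 0) (β := β) (c := δ₁) ha hu h1 h3 h8 h5 h9 h7 gu ?_ gw₁ ?_ hc hb1 hd0
        hd1 hd2)
      · rw [gu₁]
        simp only [mul_zero, neg_zero, zero_smul, add_zero, smul_neg, neg_smul, neg_neg]
      · rw [map_neg, gw₀]
        simp only [zero_smul, zero_add, smul_neg]
  · exact Or.inr (caseB ha hu h1 h2 h3 h4' h5 h6 gu gu₁ gw₀ gw₁ hc hb0 hd0 hd1 hd2)

theorem exists_d [Fintype F] (hF : 4 ≤ Fintype.card F) : ∃ d : F, d ≠ 0 ∧ 1 + d ≠ 0 ∧ 2 + d ≠ 0 := by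
  classical
  obtain ⟨d, -, hd⟩ := Finset.exists_mem_notMem_of_card_lt_card (s := ({0, -1, -2} : Finset F))
    (t := Finset.univ) (lt_of_le_of_lt Finset.card_le_three (by rw [Finset.card_univ]; omega))
  simp only [Finset.mem_insert, Finset.mem_singleton, not_or] at hd
  refine ⟨d, hd.1, fun h => hd.2.1 ?_, fun h => hd.2.2 ?_⟩
  · linear_combination h
  · linear_combination h

/-- if `ω(u, g u) = 0` for all `u` then `g² = 1` -/
theorem exists_ne_of_sq [FiniteDimensional F V] (ω : LinearMap.BilinForm F V) (ha : ω.IsAlt)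
    (hn : ∀ x, (∀ y, ω x y = 0) → x = 0) (g : V →ₗ[F] V)
    (hg : ∀ x y, ω (g x) (g y) = ω x y) (h2 : ∃ x, g (g x) ≠ x) : ∃ u, ω u (g u) ≠ 0 := by
  by_contra hcon
  push Not at hcon
  obtain ⟨x, hx⟩ := h2
  have hinj : Function.Injective g := by
    rw [← LinearMap.ker_eq_bot, LinearMap.ker_eq_bot']
    intro z hz
    refine hn z fun y => ?_
    rw [← hg, hz, map_zero, LinearMap.zero_apply]
  have hsurj : Function.Surjective g := (LinearMap.injective_iff_surjective).1 hinj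
  apply hx
  rw [← sub_eq_zero]
  refine hn _ fun y => ?_
  obtain ⟨z, rfl⟩ := hsurj y
  have h1 := hcon (x + z)
  rw [g.map_add, map_add, LinearMap.map_add₂, LinearMap.map_add₂, hcon x, hcon z] at h1
  have h3 : ω (g x) z = -ω z (g x) := by rw [← ha.neg_eq]
  rw [LinearMap.map_sub₂, hg (g x) z, h3]
  linear_combination -h1

open Matrix in
/-- the symplectic form on `F⁴`, index order `e₁, e₂, f₁, f₂` -/
def w4 (u v : Fin 4 → F) : F := u 0 * v 2 + u 1 * v 3 - u 2 * v 0 - u 3 * v 1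

/-- as a bilinear form -/
def B4 : LinearMap.BilinForm F (Fin 4 → F) :=
  LinearMap.mk₂ F w4 (fun a b c => by simp only [w4, Pi.add_apply]; ring)
    (fun k a b => by simp only [w4, Pi.smul_apply, smul_eq_mul]; ring)
    (fun a b c => by simp only [w4, Pi.add_apply]; ring)
    (fun k a b => by simp only [w4, Pi.smul_apply, smul_eq_mul]; ring)

theorem B4_apply (u v : Fin 4 → F) : B4 u v = w4 u v := rfl

theorem B4_alt : (B4 : LinearMap.BilinForm F (Fin 4 → F)).IsAlt := fun u => by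
  rw [B4_apply, w4]
  ring

theorem B4_nondeg (x : Fin 4 → F) (h : ∀ y, B4 x y = 0) : x = 0 := by
  funext i
  fin_cases i
  · simpa [B4_apply, w4] using h (Pi.single 2 1)
  · simpa [B4_apply, w4] using h (Pi.single 3 1)
  · simpa [B4_apply, w4] using h (Pi.single 0 1)
  · simpa [B4_apply, w4] using h (Pi.single 1 1)

/-- the frame lemma for matrices, index `Fin 4` -/
theorem frame4 [Fintype F] (hF : 4 ≤ Fintype.card F) (G : Matrix (Fin 4) (Fin 4) F)
    (hG : ∀ x y, w4 (G.mulVec x) (G.mulVec y) = w4 x y) (h2 : G * G ≠ 1) :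
    (∃ (c k : F) (t : Fin 4 → F), c * c = 1 ∧ ∀ x, G.mulVec x = c • (x + (k * w4 t x) • t)) ∨
      ∃ x y : Fin 4 → F, w4 x y = 0 ∧ w4 y (G.mulVec x) = 0 ∧ w4 x (G.mulVec x) ≠ 0 ∧ w4 y (G.mulVec y) ≠ 0 := by
  have h3 : ∃ x, G.mulVecLin (G.mulVecLin x) ≠ x := by
    by_contra hcon
    push Not at hcon
    apply h2
    apply Matrix.mulVec_injective
    funext x
    rw [Matrix.one_mulVec, ← Matrix.mulVec_mulVec]
    exact hcon x
  have h4 := exists_ne_of_sq B4 (by exact B4_alt) (by exact B4_nondeg) G.mulVecLin (fun x y => hG x y) h3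
  rcases frame B4 (by exact B4_alt) (by exact B4_nondeg) (by rw [Module.finrank_fintype_fun_eq_card, Fintype.card_fin]) G.mulVecLin
    (fun x y => hG x y) (exists_d hF) h4 with h | h
  · exact Or.inl h
  · exact (Or.inr h :)

end Cfsg.Agent.H7.TC
end

-- part: H812/TC/OddRow
section
/-!
# S2464, row `PSp_4(q)`, `q` odd: the row from the product theorem for framed elements (helper812)
-/

set_option autoImplicit false

namespace Cfsg.Agent.H812.TC.OddRow

open Matrix Polynomial Deg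

variable {F : Type} [Field F]

/-- the reindexing `Fin 2 ⊕ Fin 2 ≃ Fin 4` -/
noncomputable def toF : Matrix (Fin 2 ⊕ Fin 2) (Fin 2 ⊕ Fin 2) F ≃ₐ[F] Matrix (Fin 4) (Fin 4) F :=
  Matrix.reindexAlgEquiv F F finSumFinEquiv

theorem toF_transpose (A : Matrix (Fin 2 ⊕ Fin 2) (Fin 2 ⊕ Fin 2) F) : toF Aᵀ = (toF A)ᵀ := rfl

theorem toF_J : toF (Matrix.J (Fin 2) F) = -J4 := by
  ext i j
  fin_cases i <;> fin_cases j <;>
    simp [toF, Matrix.J, J4, Matrix.coe_reindexAlgEquiv, finSumFinEquiv, Fin.addCases]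

theorem charpoly_toF (A : Matrix (Fin 2 ⊕ Fin 2) (Fin 2 ⊕ Fin 2) F) : (toF A).charpoly = A.charpoly :=
  Matrix.charpoly_reindex finSumFinEquiv A

theorem sp_toF {A : Matrix (Fin 2 ⊕ Fin 2) (Fin 2 ⊕ Fin 2) F} : Sp (toF A) ↔ A ∈ symplecticGroup (Fin 2) F := by
  rw [SymplecticGroup.mem_iff']
  have h : (toF A)ᵀ * J4 * toF A = -toF (Aᵀ * Matrix.J (Fin 2) F * A) := by
    rw [map_mul, map_mul, toF_J, toF_transpose]
    simp
  have h' : (J4 : Matrix (Fin 4) (Fin 4) F) = -toF (Matrix.J (Fin 2) F) := by rw [toF_J, neg_neg]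
  unfold Sp
  rw [h]
  conv_lhs => rw [h']
  constructor
  · intro h1
    exact toF.injective (neg_injective h1)
  · intro h1
    rw [h1]

theorem charpoly_neg (M : Matrix (Fin 2 ⊕ Fin 2) (Fin 2 ⊕ Fin 2) F) : (-M).charpoly = M.charpoly.comp (-X) := by
  have h4 : (-M).charmatrix = (-1 : F[X]) • (M.charmatrix.map (Polynomial.compRingHom (-X))) := by
    ext i j : 1
    by_cases hij : i = j
    · subst hij
      simp only [Matrix.charmatrix_apply_eq, sub_eq_add_neg, add_comm, _root_.Matrix.charmatrix_apply_eq, _root_.Matrix.neg_apply, _root_.map_neg, _root_.sub_eq_add_neg, _root_.neg_neg, _root_.Polynomial.coe_compRingHom, _root_.Matrix.smul_apply, _root_.Matrix.map_apply, _root_.Polynomial.add_comp, _root_.Polynomial.X_comp, _root_.Polynomial.neg_comp, _root_.Polynomial.C_comp, _root_.smul_eq_mul, _root_.neg_mul, _root_.one_mul, _root_.neg_add_rev, _root_.add_comm]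
    · simp only [Matrix.charmatrix_apply_ne _ _ _ hij, _root_.Matrix.neg_apply, _root_.map_neg, _root_.neg_neg, _root_.Polynomial.coe_compRingHom, _root_.Matrix.smul_apply, _root_.Matrix.map_apply, _root_.Polynomial.neg_comp, _root_.Polynomial.C_comp, _root_.smul_eq_mul, _root_.mul_neg, _root_.neg_mul, _root_.one_mul]
  have hev : Even (Fintype.card (Fin 2 ⊕ Fin 2)) := ⟨2, by simp⟩
  rw [Matrix.charpoly, h4, Matrix.det_smul, hev.neg_one_pow, one_mul, Matrix.charpoly]
  have h5 := (Polynomial.compRingHom (-X : F[X])).map_det M.charmatrix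
  rw [RingHom.mapMatrix_apply] at h5
  rw [← h5]
  rfl

theorem ne_zero_of {r : ℕ} (hr : r.Prime) (h5 : 5 ≤ r) [Fintype F] (h2 : (2 : F) ≠ 0)
    (h4 : orderOf ((Fintype.card F : ℕ) : ZMod r) = 4) {x : symplecticGroup (Fin 2) F} (hx : orderOf x = r) {t e : F}
    (hxp : x.1.charpoly = pol t e) : t ≠ 0 := by
  rintro rfl
  have hxr : x ^ r = 1 := by rw [← hx]; exact pow_orderOf_eq_one x
  have hx1 : x ≠ 1 := by
    rintro rfl
    rw [orderOf_one] at hx
    omega
  let y : symplecticGroup (Fin 2) F := ⟨-x.1, SymplecticGroup.neg_mem x.2⟩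
  have hy : y.1.charpoly = x.1.charpoly := by
    have h1 : (-x.1).charpoly = x.1.charpoly.comp (-X) := by
      exact charpoly_neg x.1
    show (-x.1).charpoly = _
    rw [h1, hxp]
    unfold pol
    simp only [_root_.map_zero, _root_.MulZeroClass.zero_mul, _root_.sub_zero, _root_.Polynomial.add_comp, _root_.Polynomial.pow_comp, _root_.Polynomial.X_comp, _root_.Polynomial.mul_comp, _root_.Polynomial.C_comp, _root_.even_two, _root_.Even.neg_pow, _root_.Polynomial.one_comp, _root_.add_left_inj]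
    ring
  obtain ⟨c, hc⟩ := isConj_iff.1 (SpF.isConj_of hr h4 hxr hx1 hy)
  have hyr : y ^ r = 1 := by
    rw [← hc, conj_pow, hxr, mul_one, mul_inv_cancel]
  have h6 : (y ^ r).1 = -1 := by
    rw [SubmonoidClass.coe_pow]
    show (-x.1) ^ r = -1
    have h7 := congrArg Subtype.val hxr
    rw [SubmonoidClass.coe_pow] at h7
    rw [(hr.odd_of_ne_two (by omega)).neg_pow, h7]
    rfl
  rw [hyr] at h6
  have h8 := congrFun (congrFun h6 (Sum.inl 0)) (Sum.inl 0)
  simp only [_root_.Fin.isValue, _root_.OneMemClass.coe_one, _root_.Matrix.one_apply_eq, _root_.Matrix.neg_apply] at h8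
  apply h2
  linear_combination h8

theorem ne_two_of {r : ℕ} (hr : r.Prime) (h5 : 5 ≤ r) [Fintype F]
    (h4 : orderOf ((Fintype.card F : ℕ) : ZMod r) = 4) {x : symplecticGroup (Fin 2) F} (hx : orderOf x = r) {t e : F}
    (hxp : x.1.charpoly = pol t e) : e ≠ 2 := by
  rintro rfl
  have hxr : x ^ r = 1 := by rw [← hx]; exact pow_orderOf_eq_one x
  have hx1 : x ≠ 1 := by
    rintro rfl
    rw [orderOf_one] at hx
    omega
  have hirr : Irreducible x.1.charpoly := by
    refine SpF.irr_charpoly hr h4 (by simp) (M := x.1) ?_ (fun h1 => hx1 (Subtype.ext h1))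
    have := congrArg Subtype.val hxr
    rwa [SubmonoidClass.coe_pow] at this
  rw [hxp] at hirr
  have hf : pol t 2 = (X ^ 2 + 1) * (X ^ 2 - C t * X + 1) := by
    unfold pol
    rw [show (C (2 : F) : F[X]) = 2 from rfl]
    ring
  rcases hirr.isUnit_or_isUnit hf with h | h
  · have h1 := natDegree_eq_zero_of_isUnit h
    have h2 : (X ^ 2 + 1 : F[X]).natDegree = 2 := by compute_degree!
    omega
  · have h1 := natDegree_eq_zero_of_isUnit h
    have h2 : (X ^ 2 - C t * X + 1 : F[X]).natDegree = 2 := by compute_degree!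
    omega


/-- the row, `q` odd, from the framed elements -/
theorem row3_odd [Fintype F] (hodd : Fintype.card F % 2 = 1) (hF : 4 ≤ Fintype.card F) {r : ℕ} (hr : r.Prime)
    (h5 : 5 ≤ r) (h4 : orderOf ((Fintype.card F : ℕ) : ZMod r) = 4) {x : symplecticGroup (Fin 2) F}
    (hx : orderOf x = r) {t e : F} (hxp : x.1.charpoly = pol t e)
    (gen : ∀ G : Matrix (Fin 4) (Fin 4) F, Sp G → ∀ e1 e2 : Fin 4 → F, w e1 e2 = 0 → w e2 (G *ᵥ e1) = 0 →
      w e1 (G *ᵥ e1) ≠ 0 → w e2 (G *ᵥ e2) ≠ 0 → Good t e G) : H210.TC.Row3 (PSp 2 F) := by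
  have h2 : (2 : F) ≠ 0 := by
    intro h
    have h7 : ringChar F = 2 := by
      have h8 : ringChar F ∣ 2 := ringChar.dvd (by exact_mod_cast h)
      exact ((Nat.dvd_prime Nat.prime_two).1 h8).resolve_left (CharP.ringChar_ne_one)
    have h9 := FiniteField.even_card_iff_char_two.1 h7
    omega
  have ht := ne_zero_of hr h5 h2 h4 hx hxp
  have he := ne_two_of hr h5 h4 hx hxp
  refine SpF.row3_sign hr h5 h4 hx fun g hg => ?_
  have hGood : Good t e (toF g.1) := by
    have hG : Sp (toF g.1) := sp_toF.2 g.2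
    have hc : ∀ c : F, toF g.1 ≠ c • 1 := by
      intro c hc
      apply hg
      rw [LieClassical.SympCenter.mem_center_iff]
      refine ⟨c, ?_⟩
      apply toF.injective
      rw [hc, map_smul, map_one]
    by_cases hGG : toF g.1 * toF g.1 = 1
    · exact good_inv hodd h2 he hG hGG (fun h => hc 1 (by rw [h, one_smul])) (fun h => hc (-1) (by rw [h, neg_smul, one_smul]))
    · rcases H7.TC.frame4 hF (toF g.1) (fun x y => hG.w x y) hGG with ⟨c, k, v, hcc, hv⟩ | ⟨e1, e2, a1, a2, a3, a4⟩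
      · have hk : k ≠ 0 := by
          rintro rfl
          apply hc c
          apply Matrix.mulVec_injective
          ext x
          rw [hv, Matrix.smul_mulVec, Matrix.one_mulVec]
          simp
        have hv0 : v ≠ 0 := by
          rintro rfl
          apply hc c
          apply Matrix.mulVec_injective
          ext x
          rw [hv, Matrix.smul_mulVec, Matrix.one_mulVec]
          simp
        rcases mul_self_eq_one_iff.1 hcc with rfl | rfl
        · exact good_transv h2 ht he hk hv0 (fun x => by rw [hv, one_smul]; rfl)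
        · have h6 : Good t e (-toF g.1) := by
            refine good_transv h2 ht he hk hv0 (fun x => ?_)
            rw [Matrix.neg_mulVec, hv, neg_smul, one_smul, neg_neg]
            rfl
          have h7 := h6.neg
          rwa [neg_neg] at h7
      · exact gen _ hG e1 e2 a1 a2 a3 a4
  obtain ⟨A, B, hA, hB, hAB, h1, h3⟩ := hGood
  obtain ⟨A, rfl⟩ := toF.surjective A
  obtain ⟨B, rfl⟩ := toF.surjective B
  refine ⟨⟨A, sp_toF.1 hA⟩, ⟨B, sp_toF.1 hB⟩, ?_, ?_, ?_⟩
  · rcases hAB with h | h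
    · left
      apply toF.injective
      rw [map_mul]
      exact h
    · right
      apply toF.injective
      rw [map_mul, map_neg]
      exact h
  · rw [hxp, ← h1, charpoly_toF]
  · rw [hxp, ← h3, charpoly_toF]

end Cfsg.Agent.H812.TC.OddRow
end

-- part: H812/TC/Gen
section
/-!
# S2464, row `PSp_4(q)`: the framed elements (helper812, formula of helper877)
-/

set_option autoImplicit false

namespace Cfsg.Agent.H812.TC.Gen

open Matrix Polynomial Deg

variable {F : Type*} [Field F]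

/-- the normal form -/
def NN (ε ζ η a b c : F) : Matrix (Fin 4) (Fin 4) F :=
  !![0, 0, -ε⁻¹, 0; 0, 0, η * ζ⁻¹ * ε⁻¹, -ζ⁻¹; ε, η, c, b; 0, ζ, (ζ * b - η * a) * ε⁻¹, a]

def GA (l m r s t : F) : Matrix (Fin 4) (Fin 4) F :=
  !![0, 0, 0, -m⁻¹; l, 0, r, l * t * m⁻¹; 0, m, t, s; 0, 0, l⁻¹, 0]

def GB (l m r s t ε ζ η a b c : F) : Matrix (Fin 4) (Fin 4) F :=
  !![0, -(r * ζ), -(t * ε⁻¹) + η * l⁻¹ * ζ⁻¹ * ε⁻¹ - r * ((ζ * b - η * a) * ε⁻¹), -(l⁻¹ * ζ⁻¹) - r * a;
    ε * m⁻¹, η * m⁻¹ - l * t * m⁻¹ * ζ, -(s * ε⁻¹) + c * m⁻¹ - l * t * m⁻¹ * ((ζ * b - η * a) * ε⁻¹),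
      b * m⁻¹ - l * t * m⁻¹ * a;
    0, l * ζ, l * ((ζ * b - η * a) * ε⁻¹), l * a;
    0, 0, m * ε⁻¹, 0]

variable {l m r s t ε ζ η a b c : F}

theorem sp_GA (hl : l ≠ 0) (hm : m ≠ 0) : Sp (GA l m r s t) := by
  refine sp_mk _ ?_ ?_ ?_ ?_ ?_ ?_ <;> simp only [GA, _root_.Cfsg.Agent.H812.TC.Gen.GA, _root_.Fin.isValue, _root_.Matrix.of_apply, _root_.Matrix.cons_val', _root_.Matrix.cons_val_zero, _root_.Matrix.cons_val_fin_one, _root_.Matrix.cons_val_one, _root_.Matrix.cons_val, _root_.MulZeroClass.zero_mul, _root_.MulZeroClass.mul_zero, _root_.add_zero, _root_.sub_self, _root_.zero_add, _root_.sub_zero, _root_.mul_neg, _root_.neg_zero, _root_.sub_neg_eq_add] <;> field_simp <;> ring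

theorem sp_GB (hl : l ≠ 0) (hm : m ≠ 0) (hε : ε ≠ 0) (hζ : ζ ≠ 0) : Sp (GB l m r s t ε ζ η a b c) := by
  refine sp_mk _ ?_ ?_ ?_ ?_ ?_ ?_ <;> simp only [GB, _root_.Cfsg.Agent.H812.TC.Gen.GB, _root_.Fin.isValue, _root_.Matrix.of_apply, _root_.Matrix.cons_val', _root_.Matrix.cons_val_zero, _root_.Matrix.cons_val_fin_one, _root_.Matrix.cons_val_one, _root_.Matrix.cons_val, _root_.MulZeroClass.zero_mul, _root_.MulZeroClass.mul_zero, _root_.add_zero, _root_.mul_neg, _root_.neg_zero, _root_.sub_self, _root_.zero_add, _root_.sub_zero, _root_.neg_mul] <;> field_simp <;> ring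

theorem GA_mul_GB (hl : l ≠ 0) (hm : m ≠ 0) (hε : ε ≠ 0) (hζ : ζ ≠ 0) :
    GA l m r s t * GB l m r s t ε ζ η a b c = NN ε ζ η a b c := by
  ext i j
  (revert i j; simp only [GA, GB, NN, Matrix.mul_apply, Fin.sum_univ_succ, _root_.Fin.forall_fin_succ, _root_.Matrix.of_apply, _root_.Matrix.cons_val', _root_.Matrix.cons_val_fin_one, Fin.isValue, _root_.Matrix.cons_val_zero, _root_.Matrix.cons_val_succ, _root_.Finset.univ_unique, _root_.Fin.default_eq_zero, _root_.Finset.sum_const, _root_.Finset.card_singleton, _root_.one_smul, _root_.MulZeroClass.mul_zero, _root_.add_zero, _root_.zero_add, _root_.mul_neg, _root_.forall_const, _root_.MulZeroClass.zero_mul, _root_.neg_zero, _root_.neg_mul, _root_.neg_inj, _root_.and_true, _root_.true_and]) <;> (repeat' with_reducible apply And.intro) <;> field_simp <;> ring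

theorem charpoly_GA (hl : l ≠ 0) (hm : m ≠ 0) {e : F} (h : -r * m - s * l⁻¹ = e) :
    (GA l m r s t).charpoly = pol t e := by
  refine charpoly_fin4 _ _ _ ?_ ?_ ?_ ?_
  · simp only [GA, _root_.Cfsg.Agent.H812.TC.Gen.GA, _root_.Fin.isValue, _root_.Matrix.of_apply, _root_.Matrix.cons_val', _root_.Matrix.cons_val_zero, _root_.Matrix.cons_val_fin_one, _root_.Matrix.cons_val_one, _root_.add_zero, _root_.Matrix.cons_val, _root_.zero_add]
  · rw [← h]; simp only [GA, _root_.Cfsg.Agent.H812.TC.Gen.GA, _root_.Fin.isValue, _root_.Matrix.of_apply, _root_.Matrix.cons_val', _root_.Matrix.cons_val_zero, _root_.Matrix.cons_val_fin_one, _root_.Matrix.cons_val_one, _root_.MulZeroClass.mul_zero, _root_.MulZeroClass.zero_mul, _root_.sub_self, _root_.Matrix.cons_val, _root_.add_zero, _root_.zero_sub, _root_.zero_add, _root_.neg_mul]; ring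
  · simp only [GA, _root_.Cfsg.Agent.H812.TC.Gen.GA, _root_.Fin.isValue, _root_.Matrix.of_apply, _root_.Matrix.cons_val', _root_.Matrix.cons_val_zero, _root_.Matrix.cons_val_fin_one, _root_.Matrix.cons_val_one, _root_.Matrix.cons_val, _root_.MulZeroClass.zero_mul, _root_.zero_sub, _root_.mul_neg, _root_.neg_zero, _root_.MulZeroClass.mul_zero, _root_.sub_zero, _root_.sub_self, _root_.add_zero, _root_.zero_add]; field_simp
  · rw [Matrix.det_succ_row_zero]
    simp only [Fin.sum_univ_succ, Matrix.det_fin_three, GA, Fin.succAbove, _root_.Nat.succ_eq_add_one, _root_.Nat.reduceAdd, _root_.Cfsg.Agent.H812.TC.Gen.GA, _root_.Fin.isValue, _root_.Matrix.of_apply, _root_.Matrix.cons_val', _root_.Matrix.cons_val_fin_one, _root_.Matrix.cons_val_zero, _root_.Matrix.det_fin_three, _root_.Matrix.submatrix_apply, _root_.Fin.succ_zero_eq_one, _root_.Fin.succAbove, _root_.Fin.castSucc_zero, _root_.Matrix.cons_val_one, _root_.Fin.succ_one_eq_two, _root_.Fin.castSucc_one,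 _root_.Matrix.cons_val, _root_.Fin.reduceSucc, _root_.Fin.reduceCastSucc, _root_.Fin.sum_univ_succ, _root_.Fin.coe_ofNat_eq_mod, _root_.Nat.zero_mod, _root_.pow_zero, _root_.MulZeroClass.mul_zero, _root_.lt_self_iff_false, ↓ _root_.reduceIte, _root_.not_lt_zero, _root_.MulZeroClass.zero_mul, _root_.sub_self, _root_.add_zero, _root_.zero_add, _root_.sub_zero, _root_.Fin.val_succ, _root_.Matrix.cons_val_succ, _root_.Fin.succ_pos, _root_.pow_one, _root_.Fin.lt_one_iff, _root_.Fin.reduceEq, _root_.zero_sub, _root_.mul_neg, _root_.neg_zero, _root_.even_two, _root_.Even.neg_pow, _root_.one_pow, _root_.Fin.reduceLT, _root_.Finset.univ_unique, _root_.Fin.default_eq_zero, _root_.Fin.val_eq_zero, _root_.neg_mul, _root_.Finset.sum_neg_distrib, _root_.Finset.sum_singleton]; field_simp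

theorem charpoly_GB (hl : l ≠ 0) (hm : m ≠ 0) (hε : ε ≠ 0) (hζ : ζ ≠ 0) {e : F}
    (h1 : η * m⁻¹ - l * t * m⁻¹ * ζ + l * ((ζ * b - η * a) * ε⁻¹) = t)
    (h2 : r * ζ * ε * m⁻¹ + l * ((ζ * b - η * a) * ε⁻¹) * η * m⁻¹ + s * l * ζ * ε⁻¹ - c * l * ζ * m⁻¹
      - l * a * m * ε⁻¹ = e) :
    (GB l m r s t ε ζ η a b c).charpoly = pol t e := by
  refine charpoly_fin4 _ _ _ ?_ ?_ ?_ ?_
  · refine Eq.trans ?_ h1
    simp only [GB, _root_.Cfsg.Agent.H812.TC.Gen.GB, _root_.Fin.isValue, _root_.Matrix.of_apply, _root_.Matrix.cons_val', _root_.Matrix.cons_val_zero, _root_.Matrix.cons_val_fin_one, _root_.Matrix.cons_val_one, _root_.zero_add, _root_.Matrix.cons_val, _root_.add_zero]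
  · rw [← h2]; simp only [GB, _root_.Cfsg.Agent.H812.TC.Gen.GB, _root_.Fin.isValue, _root_.Matrix.of_apply, _root_.Matrix.cons_val', _root_.Matrix.cons_val_zero, _root_.Matrix.cons_val_fin_one, _root_.Matrix.cons_val_one, _root_.MulZeroClass.zero_mul, _root_.neg_mul, _root_.sub_neg_eq_add, _root_.zero_add, _root_.Matrix.cons_val, _root_.MulZeroClass.mul_zero, _root_.sub_self, _root_.add_zero, _root_.zero_sub]; ring
  · conv_rhs => rw [← h1]
    simp only [GB, _root_.Cfsg.Agent.H812.TC.Gen.GB, _root_.Fin.isValue, _root_.Matrix.of_apply, _root_.Matrix.cons_val', _root_.Matrix.cons_val_zero, _root_.Matrix.cons_val_fin_one, _root_.Matrix.cons_val_one, _root_.Matrix.cons_val, _root_.MulZeroClass.zero_mul, _root_.MulZeroClass.mul_zero, _root_.sub_zero, _root_.neg_mul, _root_.sub_neg_eq_add, _root_.zero_add, _root_.sub_self, _root_.add_zero, _root_.zero_sub, _root_.mul_neg, _root_.neg_zero]; field_simp; ring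
  · rw [Matrix.det_succ_row_zero]
    simp only [Fin.sum_univ_succ, Matrix.det_fin_three, GB, Fin.succAbove, _root_.Nat.succ_eq_add_one, _root_.Nat.reduceAdd, _root_.Cfsg.Agent.H812.TC.Gen.GB, _root_.Fin.isValue, _root_.Matrix.of_apply, _root_.Matrix.cons_val', _root_.Matrix.cons_val_fin_one, _root_.Matrix.cons_val_zero, _root_.Matrix.det_fin_three, _root_.Matrix.submatrix_apply, _root_.Fin.succ_zero_eq_one, _root_.Fin.succAbove, _root_.Fin.castSucc_zero, _root_.Matrix.cons_val_one, _root_.Fin.succ_one_eq_two, _root_.Fin.castSucc_one, _root_.Matrix.cons_val, _root_.Fin.reduceSucc, _root_.Fin.reduceCastSucc, _root_.Fin.sum_univ_succ, _root_.Fin.coe_ofNat_eq_mod, _root_.Nat.zero_mod, _root_.pow_zero, _root_.MulZeroClass.mul_zero, _root_.lt_self_iff_false, ↓ _root_.reduceIte, _root_.not_lt_zero, _root_.zero_sub, _root_.sub_zero, _root_.add_zero, _root_.MulZeroClass.zero_mul, _root_.Fin.val_succ, _root_.Matrix.cons_val_succ, _root_.Fin.succ_pos,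 _root_.zero_add, _root_.pow_one, _root_.mul_neg, _root_.neg_mul, _root_.one_mul, _root_.neg_neg, _root_.Fin.lt_one_iff, _root_.Fin.reduceEq, _root_.even_two, _root_.Even.neg_pow, _root_.one_pow, _root_.Fin.reduceLT, _root_.sub_self, _root_.Finset.univ_unique, _root_.Fin.default_eq_zero, _root_.Fin.val_eq_zero, _root_.Finset.sum_singleton]; field_simp; ring


/-- the choice of `l` -/
theorem exists_l [Fintype F] (hF : 8 ≤ Fintype.card F) (ht : t ≠ 0) (hζ : ζ ≠ 0) (g ε η : F) :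
    ∃ l : F, l ≠ 0 ∧ t - l * g ≠ 0 ∧ η - ζ * l * t ≠ 0 ∧ l * (η - ζ * l * t) ≠ ε * (t - l * g) ∧
      l * (η - ζ * l * t) ≠ -(ε * (t - l * g)) := by
  classical
  let P : F[X] := X * ((C t - X * C g) * ((C η - C ζ * X * C t) *
    ((X * (C η - C ζ * X * C t) - C ε * (C t - X * C g)) * (X * (C η - C ζ * X * C t) + C ε * (C t - X * C g)))))
  have n1 : (C t - X * C g : F[X]) ≠ 0 := by
    intro h
    have := congrArg (eval 0) h
    simp at this
    exact ht this
  have n2 : (C η - C ζ * X * C t : F[X]) ≠ 0 := by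
    intro h
    have := congrArg (fun p => coeff p 1) h
    simp [coeff_C] at this
    rcases this with h | h
    · exact hζ h
    · exact ht h
  have n3 : ((X * (C η - C ζ * X * C t) - C ε * (C t - X * C g)) : F[X]) ≠ 0 := by
    intro h
    have h' : (C (-(ζ * t)) * X ^ 2 + C (η + ε * g) * X + C (-(ε * t)) : F[X]) = 0 := by
      rw [← h]
      simp only [C_neg, C_mul, C_add]
      ring
    have h3 := leadingCoeff_quadratic (a := -(ζ * t)) (b := η + ε * g) (c := -(ε * t))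
      (neg_ne_zero.2 (mul_ne_zero hζ ht))
    rw [h', leadingCoeff_zero] at h3
    exact mul_ne_zero hζ ht (neg_eq_zero.1 h3.symm)
  have n4 : ((X * (C η - C ζ * X * C t) + C ε * (C t - X * C g)) : F[X]) ≠ 0 := by
    intro h
    have h' : (C (-(ζ * t)) * X ^ 2 + C (η - ε * g) * X + C (ε * t) : F[X]) = 0 := by
      rw [← h]
      simp only [C_neg, C_mul, C_sub]
      ring
    have h3 := leadingCoeff_quadratic (a := -(ζ * t)) (b := η - ε * g) (c := ε * t)
      (neg_ne_zero.2 (mul_ne_zero hζ ht))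
    rw [h', leadingCoeff_zero] at h3
    exact mul_ne_zero hζ ht (neg_eq_zero.1 h3.symm)
  have hP : P ≠ 0 := mul_ne_zero X_ne_zero (mul_ne_zero n1 (mul_ne_zero n2 (mul_ne_zero n3 n4)))
  have hd : P.natDegree ≤ 7 := by
    have d1 : (C t - X * C g : F[X]).natDegree ≤ 1 := by compute_degree
    have d2 : (C η - C ζ * X * C t : F[X]).natDegree ≤ 1 := by compute_degree
    have d3 : ((X * (C η - C ζ * X * C t) - C ε * (C t - X * C g)) : F[X]).natDegree ≤ 2 := by compute_degree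
    have d4 : ((X * (C η - C ζ * X * C t) + C ε * (C t - X * C g)) : F[X]).natDegree ≤ 2 := by compute_degree
    refine natDegree_mul_le.trans ?_
    have h1 : (X : F[X]).natDegree ≤ 1 := natDegree_X_le
    have h2 := natDegree_mul_le (p := (C t - X * C g : F[X])) (q := ((C η - C ζ * X * C t) *
      ((X * (C η - C ζ * X * C t) - C ε * (C t - X * C g)) * (X * (C η - C ζ * X * C t) + C ε * (C t - X * C g)))))
    have h3 := natDegree_mul_le (p := (C η - C ζ * X * C t : F[X])) (q :=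
      ((X * (C η - C ζ * X * C t) - C ε * (C t - X * C g)) * (X * (C η - C ζ * X * C t) + C ε * (C t - X * C g))))
    have h4 := natDegree_mul_le (p := (X * (C η - C ζ * X * C t) - C ε * (C t - X * C g) : F[X]))
      (q := (X * (C η - C ζ * X * C t) + C ε * (C t - X * C g)))
    omega
  obtain ⟨l, hl⟩ := P.exists_eval_ne_zero_of_natDegree_lt_card hP (by
    rw [Cardinal.mk_fintype]
    exact_mod_cast (by omega : P.natDegree < Fintype.card F))
  simp only [P, eval_mul, eval_sub, eval_add, eval_X, eval_C] at hl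
  refine ⟨l, ?_, ?_, ?_, ?_, ?_⟩
  · exact fun h => hl (by rw [h]; ring)
  · exact fun h => hl (by rw [h]; ring)
  · exact fun h => hl (by rw [h]; ring)
  · exact fun h => hl (by rw [sub_eq_zero.2 h]; ring)
  · exact fun h => hl (by rw [show l * (η - ζ * l * t) + ε * (t - l * g) = 0 by rw [h]; ring]; ring)

/-- the one-parameter formula for a given `l` -/
theorem good_NN_of {e : F} (hε : ε ≠ 0) (hζ : ζ ≠ 0) (hl : l ≠ 0) (h1 : t - l * ((ζ * b - η * a) * ε⁻¹) ≠ 0)
    (h2 : η - ζ * l * t ≠ 0) (h3 : l * (η - ζ * l * t) ≠ ε * (t - l * ((ζ * b - η * a) * ε⁻¹)))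
    (h4 : l * (η - ζ * l * t) ≠ -(ε * (t - l * ((ζ * b - η * a) * ε⁻¹)))) : Good t e (NN ε ζ η a b c) := by
  obtain ⟨g, hg⟩ : ∃ g, g = (ζ * b - η * a) * ε⁻¹ := ⟨_, rfl⟩
  rw [← hg] at h1 h3 h4
  obtain ⟨m, hm⟩ : ∃ m, m = (η - ζ * l * t) / (t - l * g) := ⟨_, rfl⟩
  have hm0 : m ≠ 0 := by rw [hm]; exact div_ne_zero h2 h1
  have hm1 : m * (t - l * g) = η - ζ * l * t := by rw [hm]; field_simp
  have hk : l ^ 2 * m ^ 2 - ε ^ 2 ≠ 0 := by
    intro h
    have h5 : (l * m - ε) * (l * m + ε) = 0 := by linear_combination h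
    rcases mul_eq_zero.1 h5 with h6 | h6
    · apply h3
      rw [← hm1]
      linear_combination (t - l * g) * h6
    · apply h4
      rw [← hm1]
      linear_combination (t - l * g) * h6
  obtain ⟨s, hs⟩ : ∃ s, s * (ζ * (l ^ 2 * m ^ 2 - ε ^ 2)) = ε * m ^ 2 * e + e * ζ * ε ^ 2 - l * m * ε * (η * g - ζ * c)
      + l * a * m ^ 3 := ⟨(ε * m ^ 2 * e + e * ζ * ε ^ 2 - l * m * ε * (η * g - ζ * c) + l * a * m ^ 3) /
        (ζ * (l ^ 2 * m ^ 2 - ε ^ 2)), div_mul_cancel₀ _ (mul_ne_zero hζ hk)⟩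
  obtain ⟨r, hr⟩ : ∃ r, r = -(e + s) / m := ⟨_, rfl⟩
  refine ⟨GA l m r (s * l) t, GB l m r (s * l) t ε ζ η a b c, sp_GA hl hm0, sp_GB hl hm0 hε hζ,
    Or.inl (GA_mul_GB hl hm0 hε hζ), charpoly_GA hl hm0 ?_, charpoly_GB hl hm0 hε hζ ?_ ?_⟩
  · rw [hr]; field_simp; ring
  · rw [← hg]
    field_simp
    linear_combination -hm1
  · rw [← hg, hr]
    field_simp
    linear_combination hs

theorem good_NN [Fintype F] (hF : 8 ≤ Fintype.card F) {e : F} (ht : t ≠ 0) (hε : ε ≠ 0) (hζ : ζ ≠ 0) :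
    Good t e (NN ε ζ η a b c) := by
  obtain ⟨l, hl, h1, h2, h3, h4⟩ := exists_l hF ht hζ ((ζ * b - η * a) * ε⁻¹) ε η
  exact good_NN_of hε hζ hl h1 h2 h3 h4

/-- the negative of a normal form -/
theorem neg_NN : -(NN ε ζ η a b c) = NN (-ε) (-ζ) (-η) (-a) (-b) (-c) := by
  ext i j
  (revert i j; simp only [NN, _root_.Fin.forall_fin_succ, _root_.Matrix.neg_apply, _root_.Matrix.of_apply, _root_.Matrix.cons_val', _root_.Matrix.cons_val_fin_one, _root_.inv_neg, _root_.neg_neg, _root_.mul_neg, _root_.neg_mul, Fin.isValue, _root_.Matrix.cons_val_zero, _root_.Matrix.cons_val_succ, _root_.forall_const, _root_.neg_zero, _root_.and_self, _root_.implies_true])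

theorem eq_NN {M : Matrix (Fin 4) (Fin 4) F} (hM : Sp M) (hε : ε ≠ 0) (hζ : ζ ≠ 0) (h00 : M 0 0 = 0) (h10 : M 1 0 = 0)
    (h20 : M 2 0 = ε) (h30 : M 3 0 = 0) (h01 : M 0 1 = 0) (h11 : M 1 1 = 0) (h21 : M 2 1 = η) (h31 : M 3 1 = ζ) :
    M = NN ε ζ η (M 3 3) (M 2 3) (M 2 2) := by
  have e02 := hM.cols 0 2
  have e03 := hM.cols 0 3
  have e12 := hM.cols 1 2
  have e13 := hM.cols 1 3
  have e23 := hM.cols 2 3
  simp only [Deg.w, h00, h10, h20, h30, h01, h11, h21, h31, J4] at e02 e03 e12 e13 e23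
  simp only [_root_.Fin.isValue, _root_.MulZeroClass.zero_mul, _root_.add_zero, _root_.zero_sub, _root_.sub_zero, _root_.Matrix.of_apply, _root_.Matrix.cons_val', _root_.Matrix.cons_val, _root_.Matrix.cons_val_fin_one, _root_.Matrix.cons_val_zero, _root_.neg_eq_zero, _root_.mul_eq_zero, _root_.Matrix.cons_val_one] at e02 e03 e12 e13 e23
  have m03 : M 0 3 = 0 := by
    rcases e03 with h | h
    · exact absurd h hε
    · exact h
  rw [m03] at e13 e23
  have m02 : M 0 2 = -ε⁻¹ := by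
    field_simp
    linear_combination -e02
  have m12 : M 1 2 = η * ζ⁻¹ * ε⁻¹ := by
    rw [m02] at e12
    field_simp at e12 ⊢
    linear_combination -e12
  have m13 : M 1 3 = -ζ⁻¹ := by
    field_simp
    linear_combination -e13
  have m32 : M 3 2 = (ζ * M 2 3 - η * M 3 3) * ε⁻¹ := by
    rw [m02, m12, m13] at e23
    field_simp at e23 ⊢
    linear_combination e23
  ext i j
  (revert i j; simp only [NN, h00, h10, h20, h30, h01, h11, h21, h31, m03, m02, m12, m13, m32, _root_.Fin.forall_fin_succ, Fin.isValue, _root_.Matrix.of_apply, _root_.Matrix.cons_val', _root_.Matrix.cons_val_fin_one, _root_.Matrix.cons_val_zero, _root_.Matrix.cons_val_succ, _root_.Fin.succ_zero_eq_one, _root_.Fin.succ_one_eq_two, Fin.reduceSucc, _root_.IsEmpty.forall_iff, _root_.and_true, _root_.and_self])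

/-- **the framed elements** -/
theorem good_frame_of {e : F} (hNN : ∀ ε ζ η a b c : F, ε ≠ 0 → ζ ≠ 0 → Good t e (NN ε ζ η a b c))
    {G : Matrix (Fin 4) (Fin 4) F} (hG : Sp G) {x y : Fin 4 → F} (a1 : Deg.w x y = 0) (a2 : Deg.w y (G *ᵥ x) = 0) (a3 : Deg.w x (G *ᵥ x) ≠ 0)
    (a4 : Deg.w y (G *ᵥ y) ≠ 0) : Good t e G := by
  obtain ⟨ε, hε⟩ : ∃ ε, ε = Deg.w x (G *ᵥ x) := ⟨_, rfl⟩
  obtain ⟨ζ, hζ⟩ : ∃ ζ, ζ = Deg.w y (G *ᵥ y) := ⟨_, rfl⟩
  obtain ⟨η, hη⟩ : ∃ η, η = Deg.w x (G *ᵥ y) := ⟨_, rfl⟩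
  rw [← hε] at a3
  rw [← hζ] at a4
  obtain ⟨u, hu⟩ : ∃ u, u = ε⁻¹ • (G *ᵥ x) := ⟨_, rfl⟩
  obtain ⟨v, hv⟩ : ∃ v, v = ζ⁻¹ • (G *ᵥ y - η • u) := ⟨_, rfl⟩
  have b1 : Deg.w x u = 1 := by rw [hu, w_smul_right, ← hε, inv_mul_cancel₀ a3]
  have b2 : Deg.w y u = 0 := by rw [hu, w_smul_right, a2, mul_zero]
  have b3 : Deg.w x v = 0 := by rw [hv, w_smul_right, w_sub_right, w_smul_right, b1, ← hη]; ring
  have b4 : Deg.w y v = 1 := by
    rw [hv, w_smul_right, w_sub_right, w_smul_right, b2, ← hζ, mul_zero, sub_zero, inv_mul_cancel₀ a4]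
  have b5 : Deg.w u v = 0 := by
    have h1 : Deg.w u (G *ᵥ y) = 0 := by
      rw [w_swap, hu, w_smul_right, w_swap, hG.w, a1]
      ring
    have h2 : Deg.w u u = 0 := by simp [Deg.w]; ring
    rw [hv, w_smul_right, w_sub_right, w_smul_right, h1, h2]
    ring
  have hC : Sp (Matrix.of fun i j => (![x, y, u, v] : Fin 4 → Fin 4 → F) j i) :=
    sp_of_cols ![x, y, u, v] a1 b1 b3 b2 b4 b5
  obtain ⟨C, hCe⟩ : ∃ C, C = (Matrix.of fun i j => (![x, y, u, v] : Fin 4 → Fin 4 → F) j i) := ⟨_, rfl⟩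
  rw [← hCe] at hC
  obtain ⟨D, hD, hDC, hCD⟩ := hC.exists_inv
  have c0 : (fun l => C l 0) = x := by rw [hCe]; rfl
  have c1 : (fun l => C l 1) = y := by rw [hCe]; rfl
  have c2 : (fun l => C l 2) = u := by rw [hCe]; rfl
  have c3 : (fun l => C l 3) = v := by rw [hCe]; rfl
  have hM : Sp (D * G * C) := (hD.mul hG).mul hC
  have key : ∀ i j, (D * G * C) i j = (D *ᵥ (G *ᵥ fun l => C l j)) i := by
    intro i j
    rw [mul_col, Matrix.mulVec_mulVec]
  have k2 : ∀ j, D *ᵥ (fun l => C l j) = fun i => (1 : Matrix (Fin 4) (Fin 4) F) i j := by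
    intro j
    ext i
    rw [← mul_col, hDC]
  have g0 : G *ᵥ x = ε • u := by rw [hu, smul_smul, mul_inv_cancel₀ a3, one_smul]
  have g1 : G *ᵥ y = ζ • v + η • u := by
    rw [hv, smul_smul, mul_inv_cancel₀ a4, one_smul, sub_add_cancel]
  have col0 : ∀ i, (D * G * C) i 0 = ε * (1 : Matrix (Fin 4) (Fin 4) F) i 2 := by
    intro i
    rw [key, c0, g0, Matrix.mulVec_smul, ← c2, k2]
    rfl
  have col1 : ∀ i, (D * G * C) i 1 = ζ * (1 : Matrix (Fin 4) (Fin 4) F) i 3 + η * (1 : Matrix (Fin 4) (Fin 4) F) i 2 := by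
    intro i
    rw [key, c1, g1, Matrix.mulVec_add, Matrix.mulVec_smul, Matrix.mulVec_smul, ← c2, ← c3, k2, k2]
    rfl
  have hN := eq_NN (η := η) hM a3 a4 (by rw [col0]; simp) (by rw [col0]; simp) (by rw [col0]; simp)
    (by rw [col0]; simp) (by rw [col1]; simp) (by rw [col1]; simp) (by rw [col1]; simp) (by rw [col1]; simp)
  have h6 : Good t e (D * G * C) := by
    rw [hN]
    exact hNN _ _ _ _ _ _ a3 a4
  have h7 := h6.conj hC hD hCD
  have h8 : C * (D * G * C) * D = G := by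
    calc C * (D * G * C) * D = (C * D) * G * (C * D) := by simp only [Matrix.mul_assoc]
      _ = G := by rw [hCD, Matrix.one_mul, Matrix.mul_one]
  rwa [h8] at h7

theorem good_frame [Fintype F] (hF : 8 ≤ Fintype.card F) {e : F} (ht : t ≠ 0) {G : Matrix (Fin 4) (Fin 4) F} (hG : Sp G)
    {x y : Fin 4 → F} (a1 : Deg.w x y = 0) (a2 : Deg.w y (G *ᵥ x) = 0) (a3 : Deg.w x (G *ᵥ x) ≠ 0)
    (a4 : Deg.w y (G *ᵥ y) ≠ 0) : Good t e G :=
  good_frame_of (fun _ _ _ _ _ _ h1 h2 => good_NN hF ht h1 h2) hG a1 a2 a3 a4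

end Cfsg.Agent.H812.TC.Gen
end

-- part: H144/TC/Even
section
/-!
# Types `ξ ⊕ 1`

`x ∈ GL(P)` isomorphic to `ξ ⊕ 1` on `M × F`, extended to `V = P ⊕ Q`.  `tt_of_corner2` : the engine; the conditions are
`n (p, p) = 0` for the fixed vector `p` of `x` and `m (q, q) = 0` for the fixed vector `q ∈ Q` of `z`.
-/

set_option autoImplicit false
open Polynomial

noncomputable section

namespace Cfsg.Agent.H144.TC

open Cfsg.Agent.H144.War

variable {F V M N : Type*} [Field F] [AddCommGroup V] [Module F V] [AddCommGroup M] [Module F M]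
  [AddCommGroup N] [Module F N]

theorem aeval_fixed {X : V ≃ₗ[F] V} {p : V} (h : X p = p) (f : F[X]) : aeval (X : Module.End F V) f p = f.eval 1 • p := by
  induction f using Polynomial.induction_on' with
  | add f g hf hg => rw [map_add, LinearMap.add_apply, hf, hg, eval_add, add_smul]
  | monomial k a =>
    have hk : ∀ k : ℕ, ((X : Module.End F V) ^ k) p = p := by
      intro k
      induction k with
      | zero => rfl
      | succ k ih => rw [pow_succ, Module.End.mul_apply]; exact (congrArg _ h).trans ih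
    simp only [aeval_monomial, Module.algebraMap_end_eq_smul_id, Module.End.mul_apply, LinearMap.smul_apply,
      LinearMap.id_apply, hk, eval_monomial, one_pow, mul_one]

section FD

variable [FiniteDimensional F V]

/-- The Sylvester equation with a fixed vector. -/
theorem sylvester2 {B : LinearMap.BilinForm F V} (hB : Alt B) (hN : Nond B) {P Q : Submodule F V} (hPQ : P ⊔ Q = ⊤)
    (hQ : Orth B Q Q) {X : V ≃ₗ[F] V} (hX : Iso B X) (hXQ : ∀ v ∈ Q, X v ∈ Q) (f : F[X]) {p : V} (hXp : X p = p)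
    (hf : f.eval 1 ≠ 0) (hfP : ∀ v ∈ P, ∃ c : F, aeval (X : Module.End F V) f v = c • p)
    (hfQ : ∀ v ∈ Q, aeval (X : Module.End F V) f v = 0 → v = 0)
    {n : Module.End F V} (hn : n ∈ Skew B Q) (hnp : B (n p) p = 0) :
    ∃ z ∈ Skew B Q, ∀ v, z (X v) = X (z v) + n (X v) := by
  have hXi := inv_mem_of_mem hXQ
  let S : Submodule F (Module.End F V) := Skew B Q ⊓
    { carrier := {z | B (z p) p = 0}
      zero_mem' := by simp only [_root_.Set.mem_ofPred_eq, _root_.LinearMap.zero_apply, _root_.map_zero]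
      add_mem' := by
        intro a b ha hb
        have h1 : B (a p) p = 0 := ha
        have h2 : B (b p) p = 0 := hb
        change B ((a + b) p) p = 0
        rw [LinearMap.add_apply, map_add, LinearMap.add_apply, h1, h2, add_zero]
      smul_mem' := by
        intro c a ha
        have h1 : B (a p) p = 0 := ha
        change B ((c • a) p) p = 0
        rw [LinearMap.smul_apply, map_smul, LinearMap.smul_apply, h1, smul_zero] }
  have hS : ∀ z, z ∈ S ↔ z ∈ Skew B Q ∧ B (z p) p = 0 := fun z => Iff.rfl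
  have hXsp : X.symm p = p := by rw [LinearEquiv.symm_apply_eq, hXp]
  have key : ∀ z ∈ S, z - X.conj z ∈ S := by
    rintro z ⟨hz, hzp⟩
    have hzp : B (z p) p = 0 := hzp
    refine S.sub_mem ⟨hz, hzp⟩ ((hS _).2 ⟨⟨fun v => ?_, fun v hv => ?_, fun x y => ?_⟩, ?_⟩)
    · exact hXQ _ (hz.1 _)
    · have : z (X.symm v) = 0 := hz.2.1 _ (hXi v hv)
      rw [LinearEquiv.conj_apply_apply, this, map_zero]
    · have h1 := hz.2.2 (X.symm x) (X.symm y)
      have h2 := hX (z (X.symm x)) (X.symm y)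
      have h3 := hX (X.symm x) (z (X.symm y))
      rw [X.apply_symm_apply] at h2 h3
      rw [LinearEquiv.conj_apply_apply, LinearEquiv.conj_apply_apply, h2, h3, h1]
    · rw [LinearEquiv.conj_apply_apply, hXsp]
      have h1 := hX (z p) p
      rw [hXp] at h1
      rw [h1, hzp]
  let T : S →ₗ[F] S :=
    ((LinearMap.id - (X.conj : Module.End F V →ₗ[F] Module.End F V)) ∘ₗ S.subtype).codRestrict
      S (fun z => (key z.1 z.2 :))
  have hT : Function.Injective T := by
    rw [← LinearMap.ker_eq_bot, LinearMap.ker_eq_bot']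
    rintro ⟨z, hz, hzp⟩ h
    have hzp : B (z p) p = 0 := hzp
    have h0 : z - X.conj z = 0 := congrArg Subtype.val h
    have hc : ∀ v, z (X v) = X (z v) := by
      intro v
      have := LinearMap.congr_fun h0 (X v)
      rw [LinearMap.sub_apply, LinearEquiv.conj_apply_apply, X.symm_apply_apply, LinearMap.zero_apply,
        sub_eq_zero] at this
      exact this
    have hcf : ∀ p : F[X], ∀ v, z (aeval (X : Module.End F V) p v) = aeval (X : Module.End F V) p (z v) := by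
      intro p v
      induction p using Polynomial.induction_on' generalizing v with
      | add p q hp hq => simp only [map_add, LinearMap.add_apply, hp, hq]
      | monomial k a =>
        have hk : ∀ k : ℕ, ∀ v, z (((X : Module.End F V) ^ k) v) = ((X : Module.End F V) ^ k) (z v) := by
          intro k
          induction k with
          | zero => intro v; simp
          | succ k ih =>
            intro v
            rw [pow_succ, Module.End.mul_apply, Module.End.mul_apply, ih]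
            congr 1
            exact hc v
        rw [aeval_monomial]
        simp only [Module.algebraMap_end_eq_smul_id, Module.End.mul_apply, LinearMap.smul_apply,
          LinearMap.id_apply, map_smul, hk]
    have hzP : ∀ v ∈ P, ∃ c : F, z v = c • z p := by
      intro v hv
      obtain ⟨c, hcv⟩ := hfP v hv
      refine ⟨(f.eval 1)⁻¹ * c, ?_⟩
      have h1 : z (v - ((f.eval 1)⁻¹ * c) • p) = 0 := by
        apply hfQ _ (hz.1 _)
        rw [← hcf, map_sub, map_smul, hcv, aeval_fixed hXp, smul_smul, mul_comm _ c, mul_assoc, inv_mul_cancel₀ hf,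
          mul_one, sub_self, map_zero]
      rw [map_sub, map_smul, sub_eq_zero] at h1
      exact h1
    have hzp0 : z p = 0 := by
      apply eq_zero_of_orth hN hPQ
      · intro w hw
        obtain ⟨c, hcw⟩ := hzP w hw
        have h1 := hz.2.2 p w
        rw [hcw, map_smul, smul_eq_mul, hB.zero hzp, mul_zero, add_zero] at h1
        exact h1
      · intro w hw
        exact hQ _ (hz.1 p) w hw
    have hz0 : z = 0 := by
      ext v
      have hv : v ∈ P ⊔ Q := by rw [hPQ]; trivial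
      obtain ⟨p, hp, q, hq, rfl⟩ := Submodule.mem_sup.1 hv
      obtain ⟨c, hc⟩ := hzP p hp
      rw [map_add, hz.2.1 q hq, add_zero, LinearMap.zero_apply, hc, hzp0, smul_zero]
    exact Subtype.ext hz0
  have hSu : Function.Surjective T := LinearMap.injective_iff_surjective.1 hT
  obtain ⟨⟨z, hz, hzp⟩, h⟩ := hSu ⟨n, hn, hnp⟩
  have h0 : z - X.conj z = n := congrArg Subtype.val h
  refine ⟨z, hz, fun v => ?_⟩
  rw [← h0, LinearMap.sub_apply, LinearEquiv.conj_apply_apply, X.symm_apply_apply]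
  abel

/-- `ξ ⊕ 1` -/
def s1 (ξ : M ≃ₗ[F] M) : (M × F) ≃ₗ[F] (M × F) := ξ.prodCongr (LinearEquiv.refl F F)

omit [FiniteDimensional F V] in
theorem s1_apply (ξ : M ≃ₗ[F] M) (v : M × F) : s1 ξ v = (ξ v.1, v.2) := rfl

omit [FiniteDimensional F V] in
theorem aeval_s1 (ξ : M ≃ₗ[F] M) (f : F[X]) (v : M × F) :
    aeval ((s1 ξ : (M × F) ≃ₗ[F] (M × F)) : Module.End F (M × F)) f v =
      (aeval (ξ : Module.End F M) f v.1, f.eval 1 • v.2) := by
  rw [s1, aeval_prodCongr]
  congr 1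
  exact aeval_fixed (X := LinearEquiv.refl F F) rfl f

omit [FiniteDimensional F V] in
theorem s1_inv (ξ : M ≃ₗ[F] M) : (s1 ξ)⁻¹ = s1 ξ⁻¹ := rfl

/-- the polynomial conditions for the extension of `x ≅ ξ ⊕ 1` to `V` -/
theorem sing_levi2 {B : LinearMap.BilinForm F V} (hB : Alt B) (hN : Nond B) {P Q : Submodule F V}
    (hQ : Orth B Q Q) (hPQ : P ⊔ Q = ⊤) {ξ : M ≃ₗ[F] M} {f f' : F[X]} (hξ : Sing ξ f f') (h1 : f.eval 1 ≠ 0)
    (h1' : f'.eval 1 ≠ 0) (φ : P ≃ₗ[F] (M × F)) {q : V} (hq : q ∈ Q) (hφq : ∀ v : P, B v q = (φ v).2)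
    {X : V ≃ₗ[F] V} (hX : Iso B X) (hXx : ∀ v : P, X v = tr φ (s1 ξ) v) (hXQ : ∀ v ∈ Q, X v ∈ Q) :
    (∀ v ∈ P, ∃ c : F, aeval (X : Module.End F V) f v = c • (φ.symm (0, 1) : V)) ∧
    (∀ v ∈ Q, aeval (X : Module.End F V) f v = 0 → v = 0) ∧
    (∀ v ∈ Q, ∃ c : F, aeval (X : Module.End F V) f' v = c • q) ∧
    (∀ v ∈ P, aeval (X : Module.End F V) f' v = 0 → v = 0) ∧
    X (φ.symm (0, 1)) = (φ.symm (0, 1) : V) ∧ X q = q := by
  have hXi : ∀ v : P, X⁻¹ v = ((tr φ (s1 ξ))⁻¹ v : P) := by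
    intro v
    have h1 := hXx ((tr φ (s1 ξ))⁻¹ v)
    rw [app_inv] at h1
    rw [← h1, inv_app]
  have htri : ∀ v : P, (tr φ (s1 ξ))⁻¹ v = φ.symm (s1 ξ⁻¹ (φ v)) := fun v => rfl
  have ae : ∀ (h : F[X]) (v : P), aeval (X : Module.End F V) h v =
      (φ.symm (aeval (ξ : Module.End F M) h (φ v).1, h.eval 1 • (φ v).2) : V) := by
    intro h v
    rw [aeval_restrict (X := (X : Module.End F V)) (x := ((tr φ (s1 ξ) : P ≃ₗ[F] P) : Module.End F P)) hXx h v,
      aeval_conj φ (s1 ξ) (tr φ (s1 ξ)) (fun v => rfl), aeval_s1]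
  have ae' : ∀ (h : F[X]) (v : P), aeval ((X⁻¹ : V ≃ₗ[F] V) : Module.End F V) h v =
      (φ.symm (aeval ((ξ⁻¹ : M ≃ₗ[F] M) : Module.End F M) h (φ v).1, h.eval 1 • (φ v).2) : V) := by
    intro h v
    rw [aeval_restrict (X := ((X⁻¹ : V ≃ₗ[F] V) : Module.End F V))
      (x := (((tr φ (s1 ξ))⁻¹ : P ≃ₗ[F] P) : Module.End F P)) hXi h v,
      aeval_conj φ (s1 ξ⁻¹) (tr φ (s1 ξ))⁻¹ htri, aeval_s1]
  have sm : ∀ c : F, φ.symm ((0 : M), c) = c • φ.symm (0, 1) := by
    intro c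
    rw [← map_smul, Prod.smul_mk, smul_zero, smul_eq_mul, mul_one]
  have hB' : ∀ w v : V, B w v = 0 → B v w = 0 := fun w v h => hB.zero h
  refine ⟨fun v hv => ?_, fun v hv h0 => ?_, fun v hv => ?_, fun v hv h0 => ?_, ?_, ?_⟩
  · refine ⟨f.eval 1 • (φ ⟨v, hv⟩).2, ?_⟩
    have h2 := ae f ⟨v, hv⟩
    simp only at h2
    rw [h2, hξ.1, sm]
    rfl
  · apply eq_zero_of_orth hN hPQ _ (hQ v hv)
    intro w hw
    -- `f (x⁻¹)` is surjective on `P`
    have hinj : Function.Injective (aeval (((tr φ (s1 ξ))⁻¹ : P ≃ₗ[F] P) : Module.End F P) f) := by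
      rw [← LinearMap.ker_eq_bot, LinearMap.ker_eq_bot']
      intro u hu
      rw [aeval_conj φ (s1 ξ⁻¹) (tr φ (s1 ξ))⁻¹ htri, aeval_s1, φ.symm.map_eq_zero_iff, Prod.mk_eq_zero] at hu
      apply φ.map_eq_zero_iff.1
      ext
      · exact hξ.2.1 _ hu.1
      · exact (smul_eq_zero.1 hu.2).resolve_left h1
    obtain ⟨w', hw'⟩ := (LinearMap.injective_iff_surjective.1 hinj) ⟨w, hw⟩
    have h3 := aeval_adj hX f (w' : V) v
    have h2 := aeval_restrict (X := ((X⁻¹ : V ≃ₗ[F] V) : Module.End F V))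
      (x := (((tr φ (s1 ξ))⁻¹ : P ≃ₗ[F] P) : Module.End F P)) hXi f w'
    rw [h0, map_zero, h2, hw'] at h3
    exact hB.zero h3.symm
  · refine ⟨f'.eval 1 * B (φ.symm (0, 1)) v, ?_⟩
    rw [← sub_eq_zero]
    apply eq_zero_of_orth hN hPQ _ (hQ _ (Q.sub_mem (aeval_mem hXQ f' v hv) (Q.smul_mem _ hq)))
    intro w hw
    apply hB.zero
    have h3 := aeval_adj hX f' w v
    have h2 := ae' f' ⟨w, hw⟩
    simp only at h2
    rw [h2, hξ.2.2.1, sm, Submodule.coe_smul, map_smul, LinearMap.smul_apply] at h3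
    have h4 := hφq ⟨w, hw⟩
    simp only at h4
    rw [map_sub, map_smul, h4, h3]
    simp only [smul_eq_mul]
    ring
  · have h2 := ae f' ⟨v, hv⟩
    simp only at h2
    rw [h2, Submodule.coe_eq_zero, φ.symm.map_eq_zero_iff, Prod.mk_eq_zero] at h0
    have h3 : φ ⟨v, hv⟩ = 0 := by
      ext
      · exact hξ.2.2.2 _ h0.1
      · exact (smul_eq_zero.1 h0.2).resolve_left h1'
    exact congrArg Subtype.val (φ.map_eq_zero_iff.1 h3)
  · rw [hXx, tr_apply, φ.apply_symm_apply, s1_apply]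
    simp
  · rw [← sub_eq_zero]
    apply eq_zero_of_orth hN hPQ _ (hQ _ (Q.sub_mem (hXQ q hq) hq))
    intro w hw
    apply hB.zero
    have h2 := hX (X⁻¹ w) q
    rw [app_inv] at h2
    have h3 := hXi ⟨w, hw⟩
    simp only at h3
    have h4 := hφq ⟨w, hw⟩
    simp only at h4
    rw [map_sub, h2, h3, hφq, htri, φ.apply_symm_apply, s1_apply, h4, sub_self]

/-- **the engine** for the types `ξ ⊕ 1` -/
theorem tt_of_corner2 {B : LinearMap.BilinForm F V} (hB : Alt B) (hN : Nond B) {P Q : Submodule F V}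
    (hP : Orth B P P) (hQ : Orth B Q Q) (hPQ : P ⊔ Q = ⊤) {ξ : M ≃ₗ[F] M} {ζ : N ≃ₗ[F] N} {f₁ f₁' f₂ f₂' : F[X]}
    (hξ : Sing ξ f₁ f₁') (hζ : Sing ζ f₂ f₂') (e1 : f₁.eval 1 ≠ 0) (e1' : f₁'.eval 1 ≠ 0) (e2 : f₂.eval 1 ≠ 0)
    (e2' : f₂'.eval 1 ≠ 0) (φ : P ≃ₗ[F] (M × F)) (ψ : P ≃ₗ[F] (N × F)) {q : V} (hq : q ∈ Q)
    (hψq : ∀ v : P, B v q = (ψ v).2) {A : P ≃ₗ[F] P} (hA : ∀ v, A v = tr φ (s1 ξ) (tr ψ (s1 ζ) v))
    {g : V ≃ₗ[F] V} (hg : Iso B g) (hc : ∀ v : P, g v - A v ∈ Q)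
    (hn0 : ∀ v : P, A v = φ.symm (0, 1) → B (g v) (φ.symm (0, 1)) = 0)
    (hm0 : ∀ q' ∈ Q, (∀ v : P, B (A v) q' = B v q) → B (g q) q' = 0) : TT B (s1 ξ) (s1 ζ) g := by
  obtain ⟨X, hX, hXx, hXQ⟩ := levi hB hN hP hQ hPQ (tr φ (s1 ξ))
  obtain ⟨Z, hZ, hZz, hZQ⟩ := levi hB hN hP hQ hPQ (tr ψ (s1 ζ))
  -- a vector of `Q` for `φ`
  obtain ⟨q₁, hq₁, hφq⟩ : ∃ q₁ ∈ Q, ∀ v : P, B v q₁ = (φ v).2 := by
    have hc := isCompl_of hN hP hQ hPQ
    obtain ⟨w, hw⟩ := exists_rep hB hN ((LinearMap.snd F M F ∘ₗ (φ : P →ₗ[F] (M × F))) ∘ₗ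
      (Submodule.projectionOnto P Q hc))
    refine ⟨w, mem_of_orth hN hQ hP (by rw [sup_comm]; exact hPQ) (fun v hv => ?_), fun v => ?_⟩
    · apply hB.zero
      rw [hw]
      change (φ (Submodule.projectionOnto P Q hc v)).2 = 0
      rw [Submodule.projectionOnto_apply_of_mem_right hc hv, map_zero]
      rfl
    · rw [hw]
      change (φ (Submodule.projectionOnto P Q hc v)).2 = _
      rw [Submodule.projectionOnto_apply_left]
  obtain ⟨a1, a2, -, -, a5, -⟩ := sing_levi2 hB hN hQ hPQ hξ e1 e1' φ hq₁ hφq hX hXx hXQ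
  obtain ⟨-, -, b3, b4, -, b6⟩ := sing_levi2 hB hN hQ hPQ hζ e2 e2' ψ hq hψq hZ hZz hZQ
  set! p : V := (φ.symm (0, 1) : V) with hp; rewrite [← hp] at a5 a1 hn0
  have tX : HasType B (s1 ξ) X := ⟨hX, P, Q, hP, hQ, hPQ, hXQ, φ, hXx⟩
  have tZ : HasType B (s1 ζ) Z := ⟨hZ, P, Q, hP, hQ, hPQ, hZQ, ψ, hZz⟩
  have hXP : ∀ v ∈ P, X v ∈ P := fun v hv => by rw [hXx ⟨v, hv⟩]; exact (tr φ (s1 ξ) ⟨v, hv⟩).2
  have hZP : ∀ v ∈ P, Z v ∈ P := fun v hv => by rw [hZz ⟨v, hv⟩]; exact (tr ψ (s1 ζ) ⟨v, hv⟩).2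
  have hXZP : ∀ v ∈ P, (X * Z) v ∈ P := fun v hv => hXP _ (hZP v hv)
  have hXZA : ∀ v : P, (X * Z) v = (A v : P) := by
    intro v
    rw [LinearEquiv.mul_apply, hZz, hXx, hA]
  obtain ⟨n, m, hn, hm, hnm⟩ := c1_factor hB hN hP hQ hPQ (g := g * (X * Z)⁻¹) (hg.mul (hX.mul hZ).inv) (by
    intro v hv
    have h1 := inv_mem_of_mem hXZP v hv
    have h2 := hc ⟨_, h1⟩
    have h3 : ((A ⟨_, h1⟩ : P) : V) = v := by
      rw [← hXZA]
      exact app_inv (X * Z) v
    rw [h3] at h2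
    exact h2)
  have hgn : g = uni n (skew_sq hn) * uni m (skew_sq hm) * (X * Z) := by
    rw [← hnm]; group
  have hpP : p ∈ P := (φ.symm (0, 1)).2
  -- `n (p, p) = 0`
  have hnp : B (n p) p = 0 := by
    obtain ⟨v, hv⟩ := A.surjective (φ.symm (0, 1))
    have h1 := hn0 v hv
    have h2 : (X * Z) v = p := by rw [hXZA, hv]
    have h3 : g v = p + n p := by
      rw [hgn, LinearEquiv.mul_apply, h2, LinearEquiv.mul_apply, uni_apply, uni_apply, hm.2.1 p hpP, add_zero]
    rw [h3, map_add, LinearMap.add_apply, hB p, zero_add] at h1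
    exact h1
  have hm' := skew_conj hX hXP hm
  have e0 : uni m (skew_sq hm) * X = X * uni (X.symm.conj m) (skew_sq hm') := by
    ext v
    rw [LinearEquiv.mul_apply, LinearEquiv.mul_apply, uni_apply, uni_apply, map_add]
    congr 1
    exact (X.apply_symm_apply _).symm
  -- `m (q, q) = 0`
  have hmq : B ((X.symm.conj m) q) q = 0 := by
    have h1 := hm0 (X q) (hXQ q hq) (fun v => by
      have h4 : ((A v : P) : V) = X (Z v) := (hXZA v).symm
      rw [h4, hX]
      have h5 := hZ v q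
      rw [b6] at h5
      exact h5)
    have h2 : g q = X q + m (X q) + n (m (X q)) := by
      rw [hgn, LinearEquiv.mul_apply, LinearEquiv.mul_apply, LinearEquiv.mul_apply, b6, uni_apply, uni_apply, map_add,
        hn.2.1 _ (hXQ q hq), zero_add]
    rw [h2, map_add, map_add, LinearMap.add_apply, LinearMap.add_apply, hB, zero_add, hQ _ (hn.1 _) _ (hXQ q hq),
      add_zero] at h1
    have h3 := hX ((X.symm.conj m) q) q
    rw [← h3, ← h1]
    congr 2
    exact X.apply_symm_apply _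
  obtain ⟨s, hs, hsX⟩ := sylvester2 hB hN hPQ hQ hX hXQ f₁ a5 e1 a1 a2 hn hnp
  have k0 : uni s (skew_sq hs) * X = uni n (skew_sq hn) * X * uni s (skew_sq hs) := by
    ext v
    simp only [LinearEquiv.mul_apply, uni_apply, map_add]
    have : n (X (s v)) = 0 := hn.2.1 _ (hXQ _ (hs.1 v))
    rw [hsX, this]
    abel
  have hQP : Q ⊔ P = ⊤ := by rw [sup_comm]; exact hPQ
  obtain ⟨t, ht, htZ⟩ := sylvester2 hB hN hQP hP hZ hZP f₂' b6 e2' b3 b4 hm' hmq
  have k00 : uni t (skew_sq ht) * Z = uni (X.symm.conj m) (skew_sq hm') * Z * uni t (skew_sq ht) := by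
    ext v
    simp only [LinearEquiv.mul_apply, uni_apply, map_add]
    have : (X.symm.conj m) (Z (t v)) = 0 := hm'.2.1 _ (hZP _ (ht.1 v))
    rw [htZ, this]
    abel
  have hui : Iso B (uni s (skew_sq hs)) := skew_iso hQ hs
  have hti : Iso B (uni t (skew_sq ht)) := skew_iso hP ht
  generalize uni n (skew_sq hn) = a at *
  generalize uni m (skew_sq hm) = b at *
  generalize uni (X.symm.conj m) (skew_sq hm') = b' at *
  generalize uni s (skew_sq hs) = u at *
  generalize uni t (skew_sq ht) = w at *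
  have k1 : a * X = u * X * u⁻¹ := by rw [k0]; group
  have k2 : b' * Z = w * Z * w⁻¹ := by rw [k00]; group
  refine ⟨u * X * u⁻¹, w * Z * w⁻¹, tX.conj hui, tZ.conj hti, ?_⟩
  rw [← k1, ← k2, hgn]
  calc a * b * (X * Z) = a * (b * X) * Z := by group
    _ = a * (X * b') * Z := by rw [e0]
    _ = _ := by group

end FD

end Cfsg.Agent.H144.TC
end
end

-- part: H7/TC/SpEightA
section
/-!
# S2464, row `PSp_8(q)`, `q` odd: the structure lemma (helper7)

An isometry `g` of a symplectic space of dimension `8` has the corner `1`, or `-g` has the corner `1`, or `g = 1` or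
`g = -1` on a nondegenerate plane.
-/

set_option autoImplicit false
open Polynomial

noncomputable section

namespace Cfsg.Agent.H7.TC

open Cfsg.Agent.H144 Cfsg.Agent.H144.War

variable {F V : Type*} [Field F] [AddCommGroup V] [Module F V] [FiniteDimensional F V]

theorem gr_ng (g : V ≃ₗ[F] V) {Q : Submodule F V} (hQI : _root_.Cfsg.Agent.H144.Inv g Q) :
    gr (ng g) Q (inv_ng hQI) = ng (gr g Q hQI) := by
  ext w
  rfl

theorem dich [Finite F] {B : LinearMap.BilinForm F V} (hB : Alt B) {g : V ≃ₗ[F] V} (hg : Iso B g)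
    (hno : ∀ Q : Submodule F V, Nd B Q → Module.finrank F Q = 2 → (¬ ∀ v ∈ Q, g v = v) ∧ ¬ ∀ v ∈ Q, g v = -v)
    (n : ℕ) : ∀ P : Submodule F V, _root_.Cfsg.Agent.H144.Inv g P → Nd B P → Module.finrank F P = n → n ≤ 11 →
      (C1On B g P ∨ C1On B (ng g) P) ∧ (n < 6 → C1On B g P ∧ C1On B (ng g) P) := by
  induction n using Nat.strong_induction_on with
  | _ n ih =>
  intro P hPI hPN hn hle
  rcases Nat.eq_zero_or_pos n with h0 | hpos
  · rw [h0] at hn
    have hbot : P = ⊥ := Submodule.finrank_eq_zero.1 hn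
    subst hbot
    exact ⟨Or.inl (C1On.bot B g), fun _ => ⟨C1On.bot B g, C1On.bot B _⟩⟩
  · classical
    have hex : ∃ k, ∃ Q : Submodule F V, Q ≤ P ∧ Q ≠ ⊥ ∧ _root_.Cfsg.Agent.H144.Inv g Q ∧ Nd B Q ∧ Module.finrank F Q = k :=
      ⟨n, P, le_rfl, by
        rintro rfl
        rw [finrank_bot] at hn
        omega, hPI, hPN, hn⟩
    obtain ⟨Q, hQP, hQ0, hQI, hQN, hQk⟩ := Nat.find_spec hex
    have hmin : ∀ Q' : Submodule F V, Q' ≤ P → Q' ≠ ⊥ → _root_.Cfsg.Agent.H144.Inv g Q' → Nd B Q' →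
        Module.finrank F Q ≤ Module.finrank F Q' := by
      intro Q' h1 h2 h3 h4
      rw [hQk]
      exact Nat.find_min' hex ⟨Q', h1, h2, h3, h4, rfl⟩
    have hQnt : Nontrivial Q := Submodule.nontrivial_iff_ne_bot.2 hQ0
    have hIndec : Indec (B.restrict Q) (gr g Q hQI) := by
      intro R hRI hRN
      by_cases hR : R = ⊥
      · exact Or.inl hR
      right
      have h1 : Module.finrank F (R.map Q.subtype) = Module.finrank F R :=
        (Submodule.equivMapOfInjective Q.subtype Q.injective_subtype R).finrank_eq.symm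
      have h2 := hmin (R.map Q.subtype) ((Submodule.map_subtype_le Q R).trans hQP) (by
        intro h0
        apply hR
        rw [h0, finrank_bot] at h1
        exact Submodule.finrank_eq_zero.1 h1.symm) (by
        rintro _ ⟨x, hx, rfl⟩
        exact ⟨_, hRI x hx, rfl⟩) (by
        rintro _ ⟨x, hx, rfl⟩ h0
        have := hRN x hx (fun w hw => h0 w ⟨w, hw, rfl⟩)
        rw [this]; rfl)
      rw [h1] at h2
      exact Submodule.eq_top_of_finrank_eq (le_antisymm (Submodule.finrank_le R) h2)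
    have hIndec' : Indec (B.restrict Q) (ng (gr g Q hQI)) := fun R hRI hRN =>
      hIndec R (by have := inv_ng hRI; rwa [ng_ng] at this) hRN
    have hp1 := indec_main (restrict_alt hB Q) (restrict_nond hQN) (gr_iso hg Q hQI) hIndec
    have hp2 := indec_main (restrict_alt hB Q) (restrict_nond hQN) (ng_iso (gr_iso hg Q hQI)) hIndec'
    rw [ng_ng] at hp2
    have hc1 : C1 (B.restrict Q) (gr g Q hQI) → C1On B g Q := fun h => c1On_of_c1 hQI h
    have hc2 : C1 (B.restrict Q) (ng (gr g Q hQI)) → C1On B (ng g) Q := fun h => by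
      apply c1On_of_c1 (inv_ng hQI)
      rw [gr_ng]
      exact h
    have hone : C1On B g Q ∨ C1On B (ng g) Q := by
      rcases hp1 with h | ⟨-, h⟩
      · exact Or.inl (hc1 h)
      · exact Or.inr (hc2 h.1)
    have hboth : Module.finrank F Q < 6 → C1On B g Q ∧ C1On B (ng g) Q := by
      intro hlt
      constructor
      · rcases hp1 with h | ⟨-, -, a, ha, ha0, -⟩
        · exact hc1 h
        · exfalso
          have ha' : a = 0 := by omega
          subst ha'
          refine (hno Q hQN (by omega)).2 fun v hv => ?_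
          have := congrArg Subtype.val (ha0 rfl ⟨v, hv⟩)
          rw [ng_apply, Submodule.coe_neg, gr_apply] at this
          rw [← neg_eq_iff_eq_neg]
          exact this
      · rcases hp2 with h | ⟨-, -, a, ha, ha0, -⟩
        · exact hc2 h
        · exfalso
          have ha' : a = 0 := by omega
          subst ha'
          refine (hno Q hQN (by omega)).1 fun v hv => ?_
          exact congrArg Subtype.val (ha0 rfl ⟨v, hv⟩)
    obtain ⟨R, hRP, hQRo, hQR, hRN, hfin, hRdef⟩ := split_off hB hQP hQN hPN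
    have hRI : _root_.Cfsg.Agent.H144.Inv g R := by
      rw [hRdef]
      intro v hv
      refine ⟨hPI v hv.1, fun w hw => ?_⟩
      rw [hg.adj']
      exact hv.2 _ (inv_mem_of_mem hQI w hw)
    have hQpos : 0 < Module.finrank F Q := Module.finrank_pos
    obtain ⟨r1, r2⟩ := ih (Module.finrank F R) (by omega) R hRI hRN rfl (by omega)
    have hs : ∀ {h : V ≃ₗ[F] V}, C1On B h Q → C1On B h R → C1On B h P := fun a b => by
      have := C1On.sup hB hQRo a b
      rwa [hQR] at this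
    refine ⟨?_, fun h6 => ?_⟩
    · by_cases hQ6 : Module.finrank F Q < 6
      · obtain ⟨q1, q2⟩ := hboth hQ6
        rcases r1 with r | r
        · exact Or.inl (hs q1 r)
        · exact Or.inr (hs q2 r)
      · obtain ⟨s1, s2⟩ := r2 (by omega)
        rcases hone with q | q
        · exact Or.inl (hs q s1)
        · exact Or.inr (hs q s2)
    · obtain ⟨q1, q2⟩ := hboth (by omega)
      obtain ⟨s1, s2⟩ := r2 (by omega)
      exact ⟨hs q1 s1, hs q2 s2⟩

theorem exists_case [Finite F] {B : LinearMap.BilinForm F V} (hB : Alt B) (hN : Nond B) (h8 : Module.finrank F V = 8)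
    {g : V ≃ₗ[F] V} (hg : Iso B g) : C1On B g ⊤ ∨ C1On B (ng g) ⊤ ∨
      ∃ Q : Submodule F V, Nd B Q ∧ Module.finrank F Q = 2 ∧ ((∀ v ∈ Q, g v = v) ∨ ∀ v ∈ Q, ng g v = v) := by
  by_cases hno : ∀ Q : Submodule F V, Nd B Q → Module.finrank F Q = 2 →
      (¬ ∀ v ∈ Q, g v = v) ∧ ¬ ∀ v ∈ Q, g v = -v
  · obtain ⟨h, -⟩ := dich hB hg hno 8 ⊤ (fun _ _ => trivial) (fun v _ h => hN v (fun w => h w trivial))
      (by rw [finrank_top, h8]) (by norm_num)
    rcases h with h | h
    · exact Or.inl h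
    · exact Or.inr (Or.inl h)
  · right
    right
    push Not at hno
    obtain ⟨Q, hQ, h2, h⟩ := hno
    refine ⟨Q, hQ, h2, ?_⟩
    by_cases h1 : ∀ v ∈ Q, g v = v
    · exact Or.inl h1
    · right
      intro v hv
      rw [ng_apply, h (by push Not at h1; exact h1) v hv, neg_neg]

end Cfsg.Agent.H7.TC
end
end

-- part: H7/TC/SpEight
section
/-!
# S2464, row `PSp_8(q)`, `q` odd (helper7)

* `tt_gp` : a good pair gives `g = X Z`, `X` of type `ξ ⊕ 1`, `Z` of type `ξ⁻¹ ⊕ 1`;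
* `tt_plane` : `g = 1` on a nondegenerate plane `Q`, `g` on `Q^⊥` a product of types `ξ`, `ζ`.
-/

set_option autoImplicit false
open Polynomial

noncomputable section

namespace Cfsg.Agent.H7.TC

open Cfsg.Agent.H144 Cfsg.Agent.H144.War Cfsg.Agent.H144.TC

variable {F V M N : Type*} [Field F] [AddCommGroup V] [Module F V] [AddCommGroup M] [Module F M]
  [AddCommGroup N] [Module F N]

/-- a coordinate system of `P` with prescribed last vector and last coordinate -/
theorem exists_phi [FiniteDimensional F V] [FiniteDimensional F M] (ℓ : V →ₗ[F] F) (p : V) (hp : ℓ p = 1)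
    (hM : Module.finrank F V = Module.finrank F M + 1) :
    ∃ φ : V ≃ₗ[F] (M × F), φ.symm (0, 1) = p ∧ ∀ v, ℓ v = (φ v).2 := by
  have hrk : Module.finrank F (LinearMap.ker ℓ) = Module.finrank F M := by
    have h1 := LinearMap.finrank_range_add_finrank_ker ℓ
    have h2 : LinearMap.range ℓ = ⊤ := by
      rw [LinearMap.range_eq_top]
      intro c
      exact ⟨c • p, by rw [map_smul, hp, smul_eq_mul, mul_one]⟩
    rw [h2, finrank_top, Module.finrank_self] at h1
    omega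
  let e : M ≃ₗ[F] LinearMap.ker ℓ := LinearEquiv.ofFinrankEq _ _ hrk.symm
  let T : (M × F) →ₗ[F] V := ((LinearMap.ker ℓ).subtype ∘ₗ (e : M →ₗ[F] LinearMap.ker ℓ)).coprod
    (LinearMap.toSpanSingleton F V p)
  have hT : ∀ x : M × F, T x = (e x.1 : V) + x.2 • p := fun x => rfl
  have hℓT : ∀ x : M × F, ℓ (T x) = x.2 := by
    intro x
    rw [hT, map_add, map_smul, hp, smul_eq_mul, mul_one]
    have := (e x.1).2
    rw [LinearMap.mem_ker] at this
    rw [this, zero_add]
  have hinj : Function.Injective T := by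
    rw [← LinearMap.ker_eq_bot, LinearMap.ker_eq_bot']
    intro x hx
    have h1 : x.2 = 0 := by rw [← hℓT, hx, map_zero]
    have h2 := hT x
    rw [hx, h1, zero_smul, add_zero] at h2
    have h3 : e x.1 = 0 := Subtype.ext h2.symm
    rw [LinearEquiv.map_eq_zero_iff] at h3
    exact Prod.ext h3 h1
  let φ' : (M × F) ≃ₗ[F] V := LinearEquiv.ofInjectiveOfFinrankEq T hinj (by
    rw [Module.finrank_prod, Module.finrank_self, hM])
  have hφ' : ∀ x, φ' x = T x := fun x => rfl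
  refine ⟨φ'.symm, ?_, fun v => ?_⟩
  · rw [LinearEquiv.symm_symm, hφ', hT]
    simp
  · obtain ⟨x, rfl⟩ := φ'.surjective v
    rw [LinearEquiv.symm_apply_apply, hφ', hℓT]

theorem tt_gp [FiniteDimensional F V] [FiniteDimensional F M] {B : LinearMap.BilinForm F V} (hB : Alt B) (hN : Nond B)
    {g : V ≃ₗ[F] V} (hg : Iso B g) (hGP : GP B g ⊤) {ξ : M ≃ₗ[F] M} {f f' : F[X]} (hξ : Sing ξ f f')
    (e1 : f.eval 1 ≠ 0) (e1' : f'.eval 1 ≠ 0) (hM : Module.finrank F V = 2 * (Module.finrank F M + 1)) :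
    TT B (s1 ξ) (s1 ξ⁻¹) g := by
  obtain ⟨P, Q, ⟨hP, hQ, hPQ, hc⟩, p, hp, q, hq, hpq, hgp, hgq⟩ := hGP
  have hf := finrank_two hB hN hP hQ hPQ
  obtain ⟨p', hp', hp'e⟩ : ∃ p' : V, p' ∈ P ∧ p' = (B p q)⁻¹ • p := ⟨_, P.smul_mem _ hp, rfl⟩
  have h1 : B p' q = 1 := by
    rw [hp'e, LinearMap.map_smul₂, smul_eq_mul, inv_mul_cancel₀ hpq]
  have hgp' : B (g p') p' = 0 := by
    simp only [hp'e, map_smul, LinearMap.smul_apply, hgp, smul_zero]
  obtain ⟨φ, hφ1, hφ2⟩ := exists_phi (M := M) (V := P) ((B.flip q) ∘ₗ P.subtype) ⟨p', hp'⟩ h1 (by omega)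
  refine tt_of_corner2 hB hN hP hQ hPQ hξ (sing_inv hξ) e1 e1' e1' e1 φ φ hq (fun v => hφ2 v)
    (A := LinearEquiv.refl F P) (fun v => ?_) hg (fun v => hc v v.2) (fun v hv => ?_) (fun q' hq' h => ?_)
  · rw [← s1_inv, tr_apply, tr_apply, φ.apply_symm_apply, app_inv, φ.symm_apply_apply]
    rfl
  · rw [hφ1] at hv ⊢
    have : (v : V) = p' := congrArg Subtype.val hv
    rw [this]
    exact hgp'
  · have : q' = q := by
      rw [← sub_eq_zero]
      apply eq_zero_of_orth hN hPQ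
      · intro w hw
        apply hB.zero
        rw [map_sub, sub_eq_zero]
        exact h ⟨w, hw⟩
      · intro w hw
        exact hQ _ (Q.sub_mem hq' hq) _ hw
    rw [this]
    exact hgq

/-- types of orthogonal sums -/
theorem type_ds [FiniteDimensional F V] {B : LinearMap.BilinForm F V} (hB : Alt B) {R S : Submodule F V}
    (hRS : Orth B R S) (hc : IsCompl R S) {ξ : M ≃ₗ[F] M} {ζ : N ≃ₗ[F] N} {X : R ≃ₗ[F] R} {Y : S ≃ₗ[F] S}
    (h : HasType (B.restrict R) ξ X) (h' : HasType (B.restrict S) ζ Y) :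
    HasType B (ξ.prodCongr ζ) (ds hc X Y) := by
  obtain ⟨hX, P, Q, hP, hQ, hPQ, hXQ, φ, hφ⟩ := h
  obtain ⟨hY, P₂, Q₂, hP₂, hQ₂, hPQ₂, hYQ, ψ, hψ⟩ := h'
  have oRS : ∀ (r : R) (s : S), B r s = 0 := fun r s => hRS r r.2 s s.2
  have oSR : ∀ (s : S) (r : R), B s r = 0 := fun s r => hB.zero (hRS r r.2 s s.2)
  let T : (M × N) →ₗ[F] V := (R.subtype ∘ₗ P.subtype ∘ₗ (φ.symm : M →ₗ[F] P)).coprod
    (S.subtype ∘ₗ P₂.subtype ∘ₗ (ψ.symm : N →ₗ[F] P₂))
  have hT : ∀ x : M × N, T x = ((φ.symm x.1 : P) : R) + ((ψ.symm x.2 : P₂) : S) := fun x => rfl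
  have hinj : Function.Injective T := by
    rw [← LinearMap.ker_eq_bot, LinearMap.ker_eq_bot']
    intro x hx
    rw [hT] at hx
    have h1 : (((φ.symm x.1 : P) : R) : V) = 0 := by
      apply Submodule.disjoint_def.1 hc.disjoint _ ((φ.symm x.1 : P) : R).2
      rw [eq_neg_of_add_eq_zero_left hx]
      exact S.neg_mem ((ψ.symm x.2 : P₂) : S).2
    rw [h1, zero_add] at hx
    have h2 : φ.symm x.1 = 0 := Subtype.ext (Subtype.ext h1)
    have h3 : ψ.symm x.2 = 0 := Subtype.ext (Subtype.ext hx)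
    exact Prod.ext (φ.symm.map_eq_zero_iff.1 h2) (ψ.symm.map_eq_zero_iff.1 h3)
  refine ⟨ds_iso hB hc hRS hX hY, LinearMap.range T, Q.map R.subtype ⊔ Q₂.map S.subtype, ?_, ?_, ?_, ?_,
    (LinearEquiv.ofInjective T hinj).symm, ?_⟩
  · rintro _ ⟨x, rfl⟩ _ ⟨y, rfl⟩
    have h1 : B ((φ.symm x.1 : P) : R) ((φ.symm y.1 : P) : R) = 0 := hP _ (φ.symm x.1).2 _ (φ.symm y.1).2
    have h2 : B ((ψ.symm x.2 : P₂) : S) ((ψ.symm y.2 : P₂) : S) = 0 := hP₂ _ (ψ.symm x.2).2 _ (ψ.symm y.2).2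
    rw [hT, hT, map_add, map_add, LinearMap.add_apply, LinearMap.add_apply, h1, h2, oRS, oSR]
    simp
  · intro x hx y hy
    obtain ⟨_, ⟨a, ha, rfl⟩, _, ⟨b, hb, rfl⟩, rfl⟩ := Submodule.mem_sup.1 hx
    obtain ⟨_, ⟨a', ha', rfl⟩, _, ⟨b', hb', rfl⟩, rfl⟩ := Submodule.mem_sup.1 hy
    have h1 : B (a : R) (a' : R) = 0 := hQ _ ha _ ha'
    have h2 : B (b : S) (b' : S) = 0 := hQ₂ _ hb _ hb'
    rw [Submodule.subtype_apply, Submodule.subtype_apply, Submodule.subtype_apply, Submodule.subtype_apply,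
      map_add, map_add, LinearMap.add_apply, LinearMap.add_apply, h1, h2, oRS, oSR]
    simp
  · rw [eq_top_iff]
    intro v _
    obtain ⟨r, hr, s, hs, rfl⟩ := mem_sup_top hc.sup_eq_top v
    obtain ⟨p, hp, q, hq, hpq⟩ := mem_sup_top hPQ ⟨r, hr⟩
    obtain ⟨p₂, hp₂, q₂, hq₂, hpq₂⟩ := mem_sup_top hPQ₂ ⟨s, hs⟩
    have h1 : r = (p : V) + (q : V) := (congrArg Subtype.val hpq).symm
    have h2 : s = (p₂ : V) + (q₂ : V) := (congrArg Subtype.val hpq₂).symm
    have h3 : r + s = T (φ ⟨p, hp⟩, ψ ⟨p₂, hp₂⟩) + ((q : V) + (q₂ : V)) := by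
      rw [hT, h1, h2]
      simp only [LinearEquiv.symm_apply_apply]
      abel
    rw [h3]
    exact Submodule.add_mem_sup ⟨_, rfl⟩ (Submodule.add_mem_sup ⟨q, hq, rfl⟩ ⟨q₂, hq₂, rfl⟩)
  · intro x hx
    obtain ⟨_, ⟨a, ha, rfl⟩, _, ⟨b, hb, rfl⟩, rfl⟩ := Submodule.mem_sup.1 hx
    rw [Submodule.subtype_apply, Submodule.subtype_apply, ds_apply]
    exact Submodule.add_mem_sup ⟨_, hXQ a ha, rfl⟩ ⟨_, hYQ b hb, rfl⟩
  · intro v
    obtain ⟨x, rfl⟩ := (LinearEquiv.ofInjective T hinj).surjective v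
    rw [tr_apply, LinearEquiv.symm_symm, LinearEquiv.symm_apply_apply]
    change ds hc X Y (T x) = T (ξ x.1, ζ x.2)
    rw [hT, hT, ds_apply, hφ, hψ, tr_apply, tr_apply, φ.apply_symm_apply, ψ.apply_symm_apply]

/-- the identity of a plane is of type `1` -/
theorem type_plane [FiniteDimensional F V] [Finite F] {B : LinearMap.BilinForm F V} (hB : Alt B) {S : Submodule F V}
    (hS : Nd B S) (h2 : Module.finrank F S = 2) : HasType (B.restrict S) (LinearEquiv.refl F F) (1 : S ≃ₗ[F] S) := by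
  have hBS := restrict_alt hB S
  have hNS := restrict_nond hS
  obtain ⟨P, Q, hP, hQ, hPQ, -⟩ := exists_lag (B := B.restrict S) hBS (R := ⊤) (fun v _ h => hNS v fun w => h w trivial)
    (g := 1) (fun v w => rfl) (fun v _ => rfl)
  have h3 := finrank_two hBS hNS hP hQ hPQ
  refine ⟨fun v w => rfl, P, Q, hP, hQ, hPQ, fun v hv => hv,
    LinearEquiv.ofFinrankEq P F (by rw [Module.finrank_self]; omega), fun v => ?_⟩
  rw [tr_apply, LinearEquiv.refl_apply, LinearEquiv.symm_apply_apply]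
  rfl

/-- `g = 1` on a nondegenerate plane -/
theorem tt_plane [FiniteDimensional F V] [Finite F] {B : LinearMap.BilinForm F V} (hB : Alt B) {R S : Submodule F V}
    (hRS : Orth B R S) (hc : IsCompl R S) (hS : Nd B S) (h2 : Module.finrank F S = 2) {ξ : M ≃ₗ[F] M}
    {ζ : N ≃ₗ[F] N} {g : V ≃ₗ[F] V} (hI : _root_.Cfsg.Agent.H144.Inv g R) (h1 : ∀ v ∈ S, g v = v)
    (h : TT (B.restrict R) ξ ζ (gr g R hI)) : TT B (s1 ξ) (s1 ζ) g := by
  obtain ⟨X, Z, hX, hZ, hXZ⟩ := h
  refine ⟨ds hc X 1, ds hc Z 1, type_ds hB hRS hc hX (type_plane hB hS h2), type_ds hB hRS hc hZ (type_plane hB hS h2),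
    ?_⟩
  ext v
  obtain ⟨r, hr, s, hs, rfl⟩ := mem_sup_top hc.sup_eq_top v
  have e1 := ds_apply hc Z 1 ⟨r, hr⟩ ⟨s, hs⟩
  have e2 := ds_apply hc X 1 (Z ⟨r, hr⟩) ⟨s, hs⟩
  have e3 : ((gr g R hI) ⟨r, hr⟩ : V) = g r := rfl
  rw [hXZ] at e3
  simp only [LinearEquiv.coe_one, id_eq] at e1 e2
  rw [LinearEquiv.mul_apply, e1, e2, map_add, h1 s hs, ← e3]
  rfl

end Cfsg.Agent.H7.TC
end
end

-- part: H930/TC/Swap
section
/-!
# S2464, row `PSp_8(q)`, box F: exchange of the two totally isotropic spaces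

`hasType_swap`, `hasType_swap1` : an isometry of type `ξ⁻¹` (`ξ⁻¹ ⊕ 1`) is of type `ξ` (`ξ ⊕ 1`).
`sing_xi` : `Sing ξ (cu s r) (cu r s)`.
-/

set_option autoImplicit false
open Polynomial

noncomputable section

namespace Cfsg.Agent.H930.TC

open Cfsg.Agent.H144 Cfsg.Agent.H144.War Cfsg.Agent.H144.TC
open Cfsg.Agent.H126.M3 (cu)

variable {F V M N : Type*} [Field F] [AddCommGroup V] [Module F V] [AddCommGroup M] [Module F M]
  [AddCommGroup N] [Module F N]

/-! ### Cyclic operators -/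

theorem dvd_iff {f : F[X]} (hf : Irreducible f) {a : Module.End F M} (ha : aeval a f = 0) {v : M} (hv : v ≠ 0)
    (p : F[X]) : aeval a p v = 0 ↔ f ∣ p := by
  constructor
  · intro h
    by_contra hnd
    obtain ⟨x, y, hxy⟩ := (Irreducible.coprime_iff_not_dvd hf).2 hnd
    apply hv
    have h1 : aeval a (x * f + y * p) v = v := by rw [hxy]; simp only [_root_.map_one, _root_.Module.End.one_apply]
    rw [map_add, map_mul, map_mul, LinearMap.add_apply, Module.End.mul_apply, Module.End.mul_apply, ha, h] at h1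
    simpa using h1.symm
  · rintro ⟨q, rfl⟩
    rw [map_mul, ha, zero_mul, LinearMap.zero_apply]

theorem surj_of [FiniteDimensional F M] {f : F[X]} (hf : Irreducible f) {a : Module.End F M} (ha : aeval a f = 0)
    (hM : Module.finrank F M = f.natDegree) {v : M} (hv : v ≠ 0) (w : M) : ∃ p : F[X], aeval a p v = w := by
  let α : F[X] →ₗ[F] M := (LinearMap.applyₗ v) ∘ₗ (aeval a).toLinearMap
  let β : degreeLT F f.natDegree →ₗ[F] M := α ∘ₗ (degreeLT F f.natDegree).subtype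
  have hinj : Function.Injective β := by
    rw [← LinearMap.ker_eq_bot, LinearMap.ker_eq_bot']
    rintro ⟨p, hp⟩ h0
    have h1 : f ∣ p := (dvd_iff hf ha hv p).1 h0
    have h2 : p.degree < f.degree := by
      rw [degree_eq_natDegree hf.ne_zero]
      exact mem_degreeLT.1 hp
    exact Subtype.ext (eq_zero_of_dvd_of_degree_lt h1 h2)
  have hfin : Module.finrank F (degreeLT F f.natDegree) = Module.finrank F M := by
    rw [(degreeLTEquiv F f.natDegree).finrank_eq, Module.finrank_fin_fun, hM]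
  have : FiniteDimensional F (degreeLT F f.natDegree) :=
    Module.Finite.equiv (degreeLTEquiv F f.natDegree).symm
  obtain ⟨p, hp⟩ := (LinearMap.injective_iff_surjective_of_finrank_eq_finrank hfin).1 hinj w
  exact ⟨p, hp⟩

/-- two operators killed by the same irreducible polynomial of degree `dim M = dim N` are conjugate -/
theorem exists_intertwine [FiniteDimensional F M] [FiniteDimensional F N] {f : F[X]} (hf : Irreducible f)
    {a : Module.End F M} {b : Module.End F N} (ha : aeval a f = 0) (hb : aeval b f = 0)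
    (hM : Module.finrank F M = f.natDegree) (hN : Module.finrank F N = f.natDegree) :
    ∃ θ : M ≃ₗ[F] N, ∀ v, θ (a v) = b (θ v) := by
  have hpos : 0 < f.natDegree := hf.natDegree_pos
  have : Nontrivial M := Module.nontrivial_of_finrank_pos (R := F) (by omega)
  have : Nontrivial N := Module.nontrivial_of_finrank_pos (R := F) (by omega)
  obtain ⟨v, hv⟩ := exists_ne (0 : M)
  obtain ⟨w, hw⟩ := exists_ne (0 : N)
  let α : F[X] →ₗ[F] M := (LinearMap.applyₗ v) ∘ₗ (aeval a).toLinearMap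
  let β : F[X] →ₗ[F] N := (LinearMap.applyₗ w) ∘ₗ (aeval b).toLinearMap
  have hα : Function.Surjective α := fun x => surj_of hf ha hM hv x
  have hβ : Function.Surjective β := fun x => surj_of hf hb hN hw x
  have hk : LinearMap.ker α = LinearMap.ker β := by
    ext p
    exact (dvd_iff hf ha hv p).trans (dvd_iff hf hb hw p).symm
  let e1 := α.quotKerEquivOfSurjective hα
  let e2 := β.quotKerEquivOfSurjective hβ
  have he1 : ∀ p, e1 (Submodule.Quotient.mk p) = α p := fun p => rfl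
  have he2 : ∀ p, e2 (Submodule.Quotient.mk p) = β p := fun p => rfl
  let θ : M ≃ₗ[F] N := e1.symm.trans ((Submodule.quotEquivOfEq _ _ hk).trans e2)
  have hθ : ∀ p, θ (α p) = β p := by
    intro p
    change e2 (Submodule.quotEquivOfEq _ _ hk (e1.symm (α p))) = β p
    rw [← he1, e1.symm_apply_apply, Submodule.quotEquivOfEq_mk, he2]
  refine ⟨θ, fun x => ?_⟩
  obtain ⟨p, rfl⟩ := hα x
  have h1 : a (α p) = α (X * p) := by
    change a (aeval a p v) = aeval a (X * p) v
    rw [map_mul, aeval_X]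
    rfl
  have h2 : b (β p) = β (X * p) := by
    change b (aeval b p w) = aeval b (X * p) w
    rw [map_mul, aeval_X]
    rfl
  rw [h1, hθ, hθ, h2]

theorem aeval_dual (a : Module.End F M) (p : F[X]) (l : Module.Dual F M) :
    aeval (LinearMap.dualMap a : Module.End F (Module.Dual F M)) p l = l ∘ₗ aeval a p := by
  induction p using Polynomial.induction_on' with
  | add p q hp hq => rw [map_add, LinearMap.add_apply, hp, hq, map_add, LinearMap.comp_add]
  | monomial k c =>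
    have hk : ∀ k : ℕ, ((LinearMap.dualMap a : Module.End F (Module.Dual F M)) ^ k) l = l ∘ₗ (a ^ k) := by
      intro k
      induction k with
      | zero => rfl
      | succ k ih =>
        rw [pow_succ', Module.End.mul_apply, ih, pow_succ]
        rfl
    ext v
    simp only [aeval_monomial, Module.algebraMap_end_eq_smul_id, Module.End.mul_apply, LinearMap.smul_apply,
      LinearMap.id_apply, hk, LinearMap.comp_apply, map_smul]

/-- the dual of an operator killed by an irreducible polynomial -/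
theorem exists_dual [FiniteDimensional F M] {f : F[X]} (hf : Irreducible f) {a : Module.End F M} (ha : aeval a f = 0)
    (hM : Module.finrank F M = f.natDegree) :
    ∃ θ : Module.Dual F M ≃ₗ[F] M, ∀ l : Module.Dual F M, θ (l ∘ₗ a) = a (θ l) := by
  obtain ⟨θ, hθ⟩ := exists_intertwine (a := (LinearMap.dualMap a : Module.End F (Module.Dual F M))) hf (b := a) (by
    ext l : 1
    rw [aeval_dual, ha, LinearMap.comp_zero, LinearMap.zero_apply]) ha (by rw [Subspace.dual_finrank_eq, hM]) hM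
  exact ⟨θ, fun l => hθ l⟩

/-! ### The exchange -/

theorem swap_of [FiniteDimensional F V] [FiniteDimensional F N] {B : LinearMap.BilinForm F V} (hB : Alt B)
    (hN : Nond B) {ζ : N ≃ₗ[F] N} (θ : Module.Dual F N ≃ₗ[F] N)
    (hθ : ∀ l : Module.Dual F N, θ (l ∘ₗ (ζ : N →ₗ[F] N)) = ζ (θ l)) {X : V ≃ₗ[F] V} (h : HasType B ζ⁻¹ X) :
    HasType B ζ X := by
  obtain ⟨hX, P, Q, hP, hQ, hPQ, hXQ, φ, hφ⟩ := h
  let κ : Q →ₗ[F] Module.Dual F N := (B.compl₁₂ (P.subtype ∘ₗ (φ.symm : N →ₗ[F] P)) Q.subtype).flip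
  have hκ : ∀ (q : Q) (n : N), κ q n = B (φ.symm n : V) q := fun q n => rfl
  have hinj : Function.Injective κ := by
    rw [← LinearMap.ker_eq_bot, LinearMap.ker_eq_bot']
    intro q hq
    have : (q : V) = 0 := by
      apply eq_zero_of_orth hN hPQ _ (hQ q q.2)
      intro w hw
      have := LinearMap.congr_fun hq (φ ⟨w, hw⟩)
      rw [hκ, φ.symm_apply_apply] at this
      exact hB.zero this
    exact Subtype.ext this
  have hfin : Module.finrank F Q = Module.finrank F (Module.Dual F N) := by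
    rw [Subspace.dual_finrank_eq, ← finrank_eq hB hN hP hQ hPQ, φ.finrank_eq]
  let κe : Q ≃ₗ[F] Module.Dual F N := LinearEquiv.ofInjectiveOfFinrankEq κ hinj hfin
  have hκe : ∀ q, κe q = κ q := fun q => rfl
  have hXP : ∀ v ∈ P, X v ∈ P := fun v hv => by rw [hφ ⟨v, hv⟩]; exact (tr φ ζ⁻¹ ⟨v, hv⟩).2
  refine ⟨hX, Q, P, hQ, hP, by rw [sup_comm]; exact hPQ, hXP, κe.trans θ, fun q => ?_⟩
  have h1 : (κe.trans θ) ⟨X q, hXQ q q.2⟩ = ζ ((κe.trans θ) q) := by
    rw [LinearEquiv.trans_apply, LinearEquiv.trans_apply, ← hθ, hκe, hκe]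
    congr 1
    ext n
    rw [hκ, LinearMap.comp_apply, hκ]
    have h2 := hφ (φ.symm (ζ n))
    rw [tr_apply, φ.apply_symm_apply] at h2
    have h3 : ζ⁻¹ (ζ n) = n := inv_app ζ n
    rw [h3] at h2
    have h4 := hX (φ.symm (ζ n) : V) (q : V)
    rw [h2] at h4
    exact h4
  rw [tr_apply, ← h1, LinearEquiv.symm_apply_apply]

/-- the dual of `s1 ξ` -/
theorem exists_dual1 {ξ : M ≃ₗ[F] M} {θ : Module.Dual F M ≃ₗ[F] M}
    (hθ : ∀ l : Module.Dual F M, θ (l ∘ₗ (ξ : M →ₗ[F] M)) = ξ (θ l)) :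
    ∃ θ' : Module.Dual F (M × F) ≃ₗ[F] (M × F), ∀ l : Module.Dual F (M × F),
      θ' (l ∘ₗ (s1 ξ : (M × F) →ₗ[F] (M × F))) = s1 ξ (θ' l) := by
  refine ⟨(Module.dualProdDualEquivDual F M F).symm.trans (θ.prodCongr (LinearMap.ringLmapEquivSelf F F F)),
    fun l => ?_⟩
  have e : ∀ l : Module.Dual F (M × F),
      ((Module.dualProdDualEquivDual F M F).symm.trans (θ.prodCongr (LinearMap.ringLmapEquivSelf F F F))) l =
      (θ (l ∘ₗ LinearMap.inl F M F), l (0, 1)) := fun l => rfl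
  rw [e, e, s1_apply]
  refine Prod.ext ?_ ?_
  · change θ _ = ξ (θ _)
    rw [← hθ]
    rfl
  · change l (s1 ξ (0, 1)) = l (0, 1)
    rw [s1_apply, map_zero]

theorem hasType_swap1_of [FiniteDimensional F V] [FiniteDimensional F M] {B : LinearMap.BilinForm F V} (hB : Alt B)
    (hN : Nond B) {f : F[X]} (hf : Irreducible f) {ξ : M ≃ₗ[F] M} (hξ : aeval (ξ : Module.End F M) f = 0)
    (hM : Module.finrank F M = f.natDegree) {X : V ≃ₗ[F] V} (h : HasType B (s1 ξ⁻¹) X) : HasType B (s1 ξ) X := by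
  obtain ⟨θ, hθ⟩ := exists_dual hf hξ hM
  obtain ⟨θ', hθ'⟩ := exists_dual1 hθ
  rw [← s1_inv] at h
  exact swap_of hB hN θ' hθ' h

/-! ### The cubic -/

theorem cu_natDegree (s r : F) : (cu s r).natDegree = 3 := by
  unfold cu
  compute_degree!

theorem cu_monic (s r : F) : (cu s r).Monic := by
  unfold cu
  monicity!

theorem cu_eval_one (s r : F) : (cu s r).eval 1 = r - s := by
  unfold cu
  simp only [_root_.map_one, _root_.Polynomial.eval_sub, _root_.Polynomial.eval_add, _root_.Polynomial.eval_pow, _root_.Polynomial.eval_X, _root_.one_pow, _root_.Polynomial.eval_mul, _root_.Polynomial.eval_C, _root_.mul_one, _root_.Polynomial.eval_one]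
  ring

theorem ne_of_irr {s r : F} (hirr : Irreducible (cu s r)) : s ≠ r := by
  rintro rfl
  have h1 : (cu s s).IsRoot 1 := by
    rw [IsRoot.def, cu_eval_one, sub_self]
  have h2 := degree_eq_one_of_irreducible_of_root hirr h1
  rw [degree_eq_natDegree hirr.ne_zero, cu_natDegree] at h2
  norm_num at h2

theorem eval_one_ne {s r : F} (hirr : Irreducible (cu s r)) : (cu s r).eval 1 ≠ 0 := by
  rw [cu_eval_one]
  exact sub_ne_zero.2 (ne_of_irr hirr).symm

theorem eval_one_ne' {s r : F} (hirr : Irreducible (cu s r)) : (cu r s).eval 1 ≠ 0 := by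
  rw [cu_eval_one]
  exact sub_ne_zero.2 (ne_of_irr hirr)

theorem aeval_cu (a : Module.End F M) (s r : F) (v : M) :
    aeval a (cu s r) v = a (a (a v)) - s • a (a v) + r • a v - v := by
  unfold cu
  simp only [map_sub, map_add, map_mul, aeval_X, aeval_C, LinearMap.sub_apply, LinearMap.add_apply,
    Module.End.mul_apply, Module.algebraMap_end_eq_smul_id, LinearMap.smul_apply, LinearMap.id_apply, pow_succ, pow_zero,
    Module.End.one_apply, map_one]

/-- `aeval ξ⁻¹ (cu s r) (ξ³ w) = - aeval ξ (cu r s) w` -/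
theorem aeval_inv_cu (ξ : M ≃ₗ[F] M) (s r : F) (w : M) :
    aeval ((ξ⁻¹ : M ≃ₗ[F] M) : Module.End F M) (cu s r) (ξ (ξ (ξ w))) = - aeval (ξ : Module.End F M) (cu r s) w := by
  rw [aeval_cu, aeval_cu]
  change ξ⁻¹ (ξ⁻¹ (ξ⁻¹ (ξ (ξ (ξ w))))) - s • ξ⁻¹ (ξ⁻¹ (ξ (ξ (ξ w)))) + r • ξ⁻¹ (ξ (ξ (ξ w))) - ξ (ξ (ξ w)) =
    -(ξ (ξ (ξ w)) - r • ξ (ξ w) + s • ξ w - w)
  rw [inv_app, inv_app, inv_app]
  abel

/-- the polynomial conditions -/
theorem sing_xi {s r : F} (hirr : Irreducible (cu s r)) {ξ : M ≃ₗ[F] M}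
    (hξ : aeval (ξ : Module.End F M) (cu s r) = 0) : Sing ξ (cu s r) (cu r s) := by
  have hx : ∀ v : M, ∃ w, ξ (ξ (ξ w)) = v := fun v => ⟨ξ.symm (ξ.symm (ξ.symm v)), by simp⟩
  have hinj : ∀ v, aeval (ξ : Module.End F M) (cu r s) v = 0 → v = 0 := by
    intro v hv
    by_contra hv0
    have h1 := (dvd_iff hirr hξ hv0 _).1 hv
    have h2 := eq_of_monic_of_dvd_of_natDegree_le (cu_monic s r) (cu_monic r s) h1 (by
      rw [cu_natDegree, cu_natDegree])
    have h3 := congrArg (fun p : F[X] => p.eval 1) h2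
    simp only [cu_eval_one] at h3
    have h4 := congrArg (fun p : F[X] => p.coeff 2) h2
    have hc : ∀ s r : F, (cu s r).coeff 2 = -s := by
      intro s r
      unfold cu
      simp only [coeff_one, _root_.map_one, _root_.Polynomial.coeff_sub, _root_.Polynomial.coeff_add, _root_.Polynomial.coeff_X_pow, _root_.Nat.reduceEqDiff, ↓ _root_.reduceIte, _root_.Polynomial.coeff_C_mul, _root_.mul_one, _root_.zero_sub, _root_.Polynomial.coeff_mul_X, _root_.Polynomial.coeff_C_succ, _root_.add_zero, _root_.Polynomial.coeff_one, _root_.OfNat.ofNat_ne_zero, _root_.sub_zero]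
    simp only [hc] at h4
    exact ne_of_irr hirr (neg_injective h4).symm
  refine ⟨fun v => by rw [hξ, LinearMap.zero_apply], fun v hv => ?_, fun v => ?_, hinj⟩
  · obtain ⟨w, rfl⟩ := hx v
    rw [aeval_inv_cu, neg_eq_zero] at hv
    rw [hinj w hv, map_zero, map_zero, map_zero]
  · obtain ⟨w, rfl⟩ := hx v
    rw [aeval_inv_cu, hξ, LinearMap.zero_apply, neg_zero]

/-! ### `ξ` given by a matrix -/

theorem aeval_of_charpoly {s r : F} {ξ : (Fin 3 → F) ≃ₗ[F] (Fin 3 → F)}
    (hξ : (LinearMap.toMatrix' (ξ : (Fin 3 → F) →ₗ[F] (Fin 3 → F))).charpoly = cu s r) :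
    aeval (ξ : Module.End F (Fin 3 → F)) (cu s r) = 0 := by
  rw [← hξ, ← LinearMap.toMatrix_eq_toMatrix', LinearMap.charpoly_toMatrix]
  exact LinearMap.aeval_self_charpoly _

variable {s r : F} {ξ : (Fin 3 → F) ≃ₗ[F] (Fin 3 → F)}

theorem finrank_three : Module.finrank F (Fin 3 → F) = (cu s r).natDegree := by
  rw [cu_natDegree, Module.finrank_fin_fun]

theorem sing_three (hirr : Irreducible (cu s r))
    (hξ : (LinearMap.toMatrix' (ξ : (Fin 3 → F) →ₗ[F] (Fin 3 → F))).charpoly = cu s r) : Sing ξ (cu s r) (cu r s) :=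
  sing_xi hirr (aeval_of_charpoly hξ)

theorem hasType_swap [FiniteDimensional F V] {B : LinearMap.BilinForm F V} (hB : Alt B) (hN : Nond B)
    (hirr : Irreducible (cu s r))
    (hξ : (LinearMap.toMatrix' (ξ : (Fin 3 → F) →ₗ[F] (Fin 3 → F))).charpoly = cu s r) {X : V ≃ₗ[F] V}
    (h : HasType B (s1 ξ⁻¹) X) : HasType B (s1 ξ) X :=
  hasType_swap1_of hB hN hirr (aeval_of_charpoly hξ) finrank_three h

end Cfsg.Agent.H930.TC
end
end

private theorem dce_b851deeefbdf : _root_.True := by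
  try have : _root_.True := by simp only [_root_.Cfsg.Agent.H812.TC.Deg.w.eq_1]
  try have : _root_.True := by simp only [_root_.Cfsg.Agent.H812.TC.OddRow.toF.eq_1]
  try have : _root_.True := by simp only [_root_.finSumFinEquiv.eq_1]
  try have : _root_.True := by simp only [_root_.Cfsg.Agent.H812.TC.Gen.NN.eq_1]
  try have : _root_.True := by simp only [_root_.Cfsg.Agent.H812.TC.Deg.Z.eq_1]
  try have : _root_.True := by simp only [_root_.Cfsg.Agent.H812.TC.Deg.XA.eq_1]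
  try have : _root_.True := by simp only [_root_.Cfsg.Agent.H812.TC.Deg.XB.eq_1]
  try have : _root_.True := by simp only [_root_.Cfsg.Agent.H812.TC.Deg.T.eq_1]
  try have : _root_.True := by simp only [_root_.Cfsg.Agent.H812.TC.Gen.GB.eq_1]
  try have : _root_.True := by simp only [_root_.Cfsg.Agent.H144.TC.s1.eq_1]
  try have : _root_.True := by simp only [_root_.Cfsg.Agent.H812.TC.Gen.GA.eq_1]
  try have : _root_.True := by simp only [_root_.Cfsg.Agent.H812.TC.Deg.TB.eq_1]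
  try have : _root_.True := by simp only [_root_.Cfsg.Agent.H812.TC.Deg.TA.eq_1]
  try have : _root_.True := by simp only [_root_.Cfsg.Agent.H812.TC.Deg.J4.eq_1]
  try have : _root_.True := by simp only [_root_.Cfsg.Agent.H7.TC.w4.eq_1]
  exact _root_.True.intro
end

-- part: H980/RB/Trace
section
prune_inst 0x300000000000000000010000000000000
set_option linter.all false
open scoped Cfsg.Agent.FastGrp

/-!
# Trace bounds along an extraspecial normal subgroup (S2464, `F₄(3)`, box T4; helper980)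

`XS 3 Q z`, `ρ` a representation of the finite group `H`, `a = dim V^z`:

* `finrank_fix` : the dimension of the fixed space of `[Q, g]` in a representation in which `Q` acts abelian;
* `tr_fix_abs` : `‖tr q‖ ≤ B` on `Q ∖ ⟨z⟩`, `|FixX g| ≤ 3⁹`, `|Q| = 3¹⁵`: `‖tr g‖ ≤ a / 729 + B + (dim V - a) / 27`;
* `tr_conj_abs` : `g` conjugate to `g z` under `Q`, `|FixX g| ≤ 3¹²`: `‖tr g‖ ≤ a / 27 + B`.
-/

set_option autoImplicit false

namespace Cfsg.Agent.H980.RB

open Module Cfsg.Agent.H323.Pw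

section

variable {G : Type*} [Group G] {V : Type*} [AddCommGroup V] [Module ℂ V]

/-- the dimension of the space fixed by `[Q, g]`, `Q` acting as an abelian group -/
theorem finrank_fix [Finite G] [FiniteDimensional ℂ V] (ρ : Representation ℂ G V) (Q : Subgroup G) [Fintype ↥Q]
    (hQ : ∀ q ∈ Q, ∀ q' ∈ Q, ρ q * ρ q' = ρ q' * ρ q) (g : G) (hg : ∀ q, q ∈ Q ↔ g * q * g⁻¹ ∈ Q) :
    (Fintype.card ↥Q : ℂ) * finrank ℂ ↥(fixM ρ (comSet Q g)) =
      ∑ q : ↥Q, LinearMap.trace ℂ V (ρ ((q : G) * g * (q : G)⁻¹ * g⁻¹)) := by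
  classical
  set W := fixM ρ (comSet Q g) with hW
  have hN : (Fintype.card ↥Q : ℂ) ≠ 0 := by
    exact_mod_cast Fintype.card_ne_zero
  have hcm : ∀ q ∈ Q, q * g * q⁻¹ * g⁻¹ ∈ Q := by
    intro q hq
    have h1 := (hg _).1 (Q.inv_mem hq)
    have h2 : q * g * q⁻¹ * g⁻¹ = q * (g * q⁻¹ * g⁻¹) := by group
    rw [h2]
    exact Q.mul_mem hq h1
  set e : V →ₗ[ℂ] V := (Fintype.card ↥Q : ℂ)⁻¹ • ∑ q : ↥Q, ρ ((q : G) * g * (q : G)⁻¹ * g⁻¹) with he
  have hmul : ∀ q q' : ↥Q, ρ (((q * q' : ↥Q) : G) * g * ((q * q' : ↥Q) : G)⁻¹ * g⁻¹) =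
      ρ ((q' : G) * g * (q' : G)⁻¹ * g⁻¹) * ρ ((q : G) * g * (q : G)⁻¹ * g⁻¹) := by
    intro q q'
    have h1 : ((q * q' : ↥Q) : G) * g * ((q * q' : ↥Q) : G)⁻¹ * g⁻¹ =
        (q : G) * ((q' : G) * g * (q' : G)⁻¹ * g⁻¹) * (q : G)⁻¹ * ((q : G) * g * (q : G)⁻¹ * g⁻¹) := by
      rw [Subgroup.coe_mul]; group
    have h2 : ρ (q : G) * ρ (q : G)⁻¹ = 1 := by rw [← map_mul, mul_inv_cancel, map_one]
    rw [h1, map_mul, map_mul, map_mul, hQ _ q.2 _ (hcm _ q'.2), mul_assoc (ρ ((q' : G) * g * (q' : G)⁻¹ * g⁻¹)), h2, mul_one]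
  have heW : ∀ v, e v ∈ W := by
    rintro v r ⟨q, hq, rfl⟩
    rw [he, LinearMap.smul_apply, map_smul, LinearMap.sum_apply, map_sum]
    congr 1
    rw [← Equiv.sum_comp (Equiv.mulRight (⟨q, hq⟩ : ↥Q)) (fun q' : ↥Q => ρ ((q' : G) * g * (q' : G)⁻¹ * g⁻¹) v)]
    refine Finset.sum_congr rfl fun q' _ => ?_
    rw [Equiv.coe_mulRight, hmul q' ⟨q, hq⟩]
    rfl
  have heW' : ∀ w ∈ W, e w = w := by
    intro w hw
    rw [he, LinearMap.smul_apply, LinearMap.sum_apply]
    have h1 : ∀ q : ↥Q, ρ ((q : G) * g * (q : G)⁻¹ * g⁻¹) w = w := fun q => hw _ ⟨q, q.2, rfl⟩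
    rw [Finset.sum_congr rfl fun q _ => h1 q, Finset.sum_const, Finset.card_univ, ← Nat.cast_smul_eq_nsmul ℂ, smul_smul,
      inv_mul_cancel₀ hN, one_smul]
  have h3 : LinearMap.trace ℂ V e = finrank ℂ W := by
    rw [← LinearMap.trace_restrict_eq_of_forall_mem W e heW, ← LinearMap.trace_one ℂ W]
    congr 1
    ext w
    simp only [LinearMap.coe_restrict_apply, Module.End.one_apply]
    rw [heW' _ w.2]
  rw [← h3, he, map_smul, map_sum, smul_eq_mul, ← mul_assoc, mul_inv_cancel₀ hN, one_mul]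

end

variable {H : Type*} [Group H] {V : Type*} [AddCommGroup V] [Module ℂ V] {Q : Subgroup H} {z : H}

theorem xs_pow (h : XS 3 Q z) : z ^ 3 = 1 := by rw [← h.ord, pow_orderOf_eq_one]

theorem xs_norm (h : XS 3 Q z) (g q : H) : q ∈ Q ↔ g * q * g⁻¹ ∈ Q := by
  constructor
  · exact fun hq => h.normal.conj_mem q hq g
  · intro hq
    have h1 := h.normal.conj_mem _ hq g⁻¹
    have h2 : g⁻¹ * (g * q * g⁻¹) * g⁻¹⁻¹ = q := by group
    rwa [h2] at h1

theorem xs_nd (h : XS 3 Q z) : ∀ q ∈ Q, q ∉ Subgroup.zpowers z →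
    ∃ q' ∈ Q, q' * q * q'⁻¹ * q⁻¹ ∈ Subgroup.zpowers z ∧ q' * q * q'⁻¹ * q⁻¹ ≠ 1 := by
  intro q hq hqz
  by_contra hne
  push Not at hne
  apply hqz
  refine h.nd q hq fun y hy => ?_
  have h1 := hne y hy (h.comm y hy q hq)
  have h2 : y * q = q * y := by
    calc y * q = (y * q * y⁻¹ * q⁻¹) * (q * y) := by group
      _ = q * y := by rw [h1, one_mul]
  exact h2.symm

theorem fixX_iff (g x : H) : x * g * x⁻¹ * g⁻¹ ∈ Subgroup.zpowers z ↔ g * x * g⁻¹ * x⁻¹ ∈ Subgroup.zpowers z := by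
  rw [← Subgroup.inv_mem_iff]
  have h1 : (x * g * x⁻¹ * g⁻¹)⁻¹ = g * x * g⁻¹ * x⁻¹ := by group
  rw [h1]

theorem card_K (g : H) : Nat.card {x : ↥Q // (x : H) * g * (x : H)⁻¹ * g⁻¹ ∈ Subgroup.zpowers z} = Nat.card (FixX Q z g) :=
  Nat.card_congr (Equiv.subtypeEquivRight fun x => fixX_iff g x)

/-- `tr (e_Z g)` -/
theorem trace_prj_one (ρ : Representation ℂ H V) (g : H) :
    LinearMap.trace ℂ V (prj ρ z 1 * ρ g) = (3 : ℂ)⁻¹ * (LinearMap.trace ℂ V (ρ g) + LinearMap.trace ℂ V (ρ (z * g)) +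
      LinearMap.trace ℂ V (ρ (z ^ 2 * g))) := by
  rw [prj, one_pow, one_smul, one_smul, smul_mul_assoc, map_smul, smul_eq_mul, add_mul, add_mul, one_mul, ← map_mul,
    ← map_mul, map_add, map_add]

section

variable [Finite H] [FiniteDimensional ℂ V]

/-- the dimension of the space fixed by `z` and `[Q, g]` -/
theorem finrank_fixM_le (h : XS 3 Q z) (ρ : Representation ℂ H V) (g : H) {B : ℝ} (hB0 : 0 ≤ B)
    (hB : ∀ q ∈ Q, q ∉ Subgroup.zpowers z → ‖LinearMap.trace ℂ V (ρ q)‖ ≤ B) {t : ℝ}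
    (hc : (Nat.card (FixX Q z g) : ℝ) ≤ t * Nat.card Q) :
    (finrank ℂ ↥(fixM ρ (insert z (comSet Q g))) : ℝ) ≤ t * finrank ℂ ↥(eigM ρ z 1) + B := by
  classical
  have := Fintype.ofFinite ↥Q
  have hz3 := xs_pow h
  have hzc := h.central
  set σ := resRep ρ (eigM ρ z 1) (eigM_inv hzc 1) with hσ
  have hQσ : ∀ q ∈ Q, ∀ q' ∈ Q, σ q * σ q' = σ q' * σ q := by
    intro q hq q' hq'
    obtain ⟨k, hk⟩ := exists_pow_of_mem hz3 (h.comm q hq q' hq')
    have h1 : q * q' = (q * q' * q⁻¹ * q'⁻¹) * (q' * q) := by group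
    rw [← map_mul, h1, hk, map_mul, hσ, res_pow hzc, one_pow, one_smul, one_mul, map_mul]
  have h1 : (fixM ρ (insert z (comSet Q g))) ≤ (fixM σ (comSet Q g)).map (eigM ρ z 1).subtype := by
    intro v hv
    have h2 : v ∈ eigM ρ z 1 := by
      rw [mem_eigM, one_smul]
      exact hv z (Set.mem_insert _ _)
    refine ⟨⟨v, h2⟩, fun s hs => ?_, rfl⟩
    apply Subtype.ext
    rw [hσ, resRep_apply]
    exact hv s (Set.mem_insert_of_mem _ hs)
  have h2 : (finrank ℂ ↥(fixM ρ (insert z (comSet Q g))) : ℝ) ≤ finrank ℂ ↥(fixM σ (comSet Q g)) := by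
    have h3 := Submodule.finrank_mono h1
    rw [← (Submodule.equivMapOfInjective (eigM ρ z 1).subtype Subtype.val_injective _).finrank_eq] at h3
    exact_mod_cast h3
  refine h2.trans ?_
  have h4 := finrank_fix σ Q hQσ g (xs_norm h g)
  -- the terms
  have hN : (0 : ℝ) < Fintype.card ↥Q := by exact_mod_cast Fintype.card_pos
  have h5 : ∀ q : ↥Q, ‖LinearMap.trace ℂ ↥(eigM ρ z 1) (σ ((q : H) * g * (q : H)⁻¹ * g⁻¹))‖ ≤
      if (q : H) * g * (q : H)⁻¹ * g⁻¹ ∈ Subgroup.zpowers z then (finrank ℂ ↥(eigM ρ z 1) : ℝ) else B := by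
    intro q
    split_ifs with hq
    · exact norm_trace_le σ _
    · rw [hσ, ← trace_proj' ρ (eigM ρ z 1) (eigM_inv hzc 1) (prj ρ z 1) (prj_mem hz3 (one_pow 3))
        (fun w hw => prj_eq (one_pow 3) hw), trace_prj_one]
      have hqQ : (q : H) * g * (q : H)⁻¹ * g⁻¹ ∈ Q := by
        have h6 : (q : H) * g * (q : H)⁻¹ * g⁻¹ = (q : H) * (g * (q : H)⁻¹ * g⁻¹) := by group
        rw [h6]
        exact Q.mul_mem q.2 ((xs_norm h g _).1 (Q.inv_mem q.2))
      generalize (q : H) * g * (q : H)⁻¹ * g⁻¹ = r at hq hqQ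
      have h7 : ∀ k : ℕ, ‖LinearMap.trace ℂ V (ρ (z ^ k * r))‖ ≤ B := by
        intro k
        refine hB _ (Q.mul_mem (Q.pow_mem h.mem k) hqQ) fun h8 => hq ?_
        have h9 := Subgroup.mul_mem _ (Subgroup.inv_mem _ (Subgroup.pow_mem _ (Subgroup.mem_zpowers z) k)) h8
        rwa [inv_mul_cancel_left] at h9
      have h8 := h7 0
      have h9 := h7 1
      have h10 := h7 2
      rw [pow_zero, one_mul] at h8
      rw [pow_one] at h9
      rw [norm_mul, norm_inv, Complex.norm_ofNat]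
      have h11 : ‖LinearMap.trace ℂ V (ρ r) + LinearMap.trace ℂ V (ρ (z * r)) + LinearMap.trace ℂ V (ρ (z ^ 2 * r))‖ ≤ 3 * B := by
        refine norm_add₃_le.trans ?_
        linarith
      calc (3 : ℝ)⁻¹ * ‖LinearMap.trace ℂ V (ρ r) + LinearMap.trace ℂ V (ρ (z * r)) + LinearMap.trace ℂ V (ρ (z ^ 2 * r))‖
          ≤ (3 : ℝ)⁻¹ * (3 * B) := mul_le_mul_of_nonneg_left h11 (by norm_num)
        _ = B := by ring
  have h6 : (Fintype.card ↥Q : ℝ) * finrank ℂ ↥(fixM σ (comSet Q g)) ≤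
      Nat.card (FixX Q z g) * finrank ℂ ↥(eigM ρ z 1) + Fintype.card ↥Q * B := by
    have h7 : ‖((Fintype.card ↥Q : ℂ) * finrank ℂ ↥(fixM σ (comSet Q g)))‖ =
        (Fintype.card ↥Q : ℝ) * finrank ℂ ↥(fixM σ (comSet Q g)) := by
      rw [norm_mul, Complex.norm_natCast, Complex.norm_natCast]
    rw [← h7, h4]
    refine (norm_sum_le _ _).trans ((Finset.sum_le_sum fun q _ => h5 q).trans ?_)
    have h8 : ∀ q : ↥Q, (if (q : H) * g * (q : H)⁻¹ * g⁻¹ ∈ Subgroup.zpowers z then (finrank ℂ ↥(eigM ρ z 1) : ℝ) else B) ≤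
        (if (q : H) * g * (q : H)⁻¹ * g⁻¹ ∈ Subgroup.zpowers z then (finrank ℂ ↥(eigM ρ z 1) : ℝ) else 0) + B := by
      intro q
      split_ifs
      · linarith
      · linarith
    refine (Finset.sum_le_sum fun q _ => h8 q).trans ?_
    rw [Finset.sum_add_distrib, ← Finset.sum_filter, Finset.sum_const, Finset.sum_const, Finset.card_univ, nsmul_eq_mul,
      nsmul_eq_mul]
    have h9 : (Finset.univ.filter fun q : ↥Q => (q : H) * g * (q : H)⁻¹ * g⁻¹ ∈ Subgroup.zpowers z).card =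
        Nat.card (FixX Q z g) := by
      rw [← card_K, Nat.card_eq_fintype_card, Fintype.card_subtype]
    rw [h9]
  have hQc : (Nat.card Q : ℝ) = Fintype.card ↥Q := by rw [Nat.card_eq_fintype_card]
  rw [hQc] at hc
  have h7 : (Fintype.card ↥Q : ℝ) * finrank ℂ ↥(fixM σ (comSet Q g)) ≤
      (Fintype.card ↥Q : ℝ) * (t * finrank ℂ ↥(eigM ρ z 1) + B) := by
    refine h6.trans ?_
    have h8 : (Nat.card (FixX Q z g) : ℝ) * finrank ℂ ↥(eigM ρ z 1) ≤ t * Fintype.card ↥Q * finrank ℂ ↥(eigM ρ z 1) :=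
      mul_le_mul_of_nonneg_right hc (Nat.cast_nonneg _)
    calc (Nat.card (FixX Q z g) : ℝ) * finrank ℂ ↥(eigM ρ z 1) + Fintype.card ↥Q * B
        ≤ t * Fintype.card ↥Q * finrank ℂ ↥(eigM ρ z 1) + Fintype.card ↥Q * B := by linarith
      _ = _ := by ring
  exact le_of_mul_le_mul_left h7 hN

/-- **`|FixX g| ≤ s² |Q|`.** -/
theorem tr_fix_gen (h : XS 3 Q z) (ρ : Representation ℂ H V) (g : H) {B : ℝ} (hB0 : 0 ≤ B)
    (hB : ∀ q ∈ Q, q ∉ Subgroup.zpowers z → ‖LinearMap.trace ℂ V (ρ q)‖ ≤ B) {s : ℝ} (hs : 0 ≤ s)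
    (hc : (Nat.card (FixX Q z g) : ℝ) ≤ s ^ 2 * Nat.card Q) :
    ‖LinearMap.trace ℂ V (ρ g)‖ ≤ s ^ 2 * finrank ℂ ↥(eigM ρ z 1) + B +
      (finrank ℂ V - finrank ℂ ↥(eigM ρ z 1)) * s := by
  have h1 := ratio (g := g) ρ (xs_pow h) h.central h.mem h.comm (xs_nd h) (xs_norm h g) hs (by rw [card_K]; exact hc)
  have h2 := finrank_fixM_le h ρ g hB0 hB hc
  linarith

/-- **`[x, g] ∈ ⟨z⟩ ∖ 1` for some `x`.** -/
theorem tr_conj_gen (h : XS 3 Q z) (ρ : Representation ℂ H V) (g : H) {B : ℝ} (hB0 : 0 ≤ B)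
    (hB : ∀ q ∈ Q, q ∉ Subgroup.zpowers z → ‖LinearMap.trace ℂ V (ρ q)‖ ≤ B) {t : ℝ}
    (hc : (Nat.card (FixX Q z g) : ℝ) ≤ t * Nat.card Q) {x : H} (hx : x * g * x⁻¹ * g⁻¹ ∈ Subgroup.zpowers z)
    (hx1 : x * g * x⁻¹ * g⁻¹ ≠ 1) :
    ‖LinearMap.trace ℂ V (ρ g)‖ ≤ t * finrank ℂ ↥(eigM ρ z 1) + B :=
  (ratio_zero (g := g) ρ (xs_pow h) h.central h.comm (xs_norm h g) hx hx1).trans (finrank_fixM_le h ρ g hB0 hB hc)

end

end Cfsg.Agent.H980.RB
end
end
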